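import Cfsg.Agent.Lib.Walter8.Base
import Mathlib.GroupTheory.Subgroup.Simple
import Mathlib.Data.ZMod.Basic

/-!
The induction statement for groups with abelian Sylow 2-subgroups: the list of the simple ones, known for
all smaller groups.
-/

set_option autoImplicit false
set_option linter.unusedSectionVars false

namespace Cfsg.Agent.Walter4

universe u

/-- `PSL₂(q)` with `q = 2^n ≥ 4`, or `q ≥ 5` and `q ≡ 3, 5 (mod 8)`. -/
def PSLType (K : Type u) [Group K] : Prop :=
  ∃ (F : Type) (_ : Field F) (_ : Fintype F),
    (((Fintype.card F % 8 = 3 ∨ Fintype.card F % 8 = 5) ∧ 5 ≤ Fintype.card F) ∨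
      (∃ n : ℕ, 2 ≤ n ∧ Fintype.card F = 2 ^ n)) ∧
    Nonempty (K ≃* Matrix.ProjectiveSpecialLinearGroup (Fin 2) F)

/-- The Ree–Janko type: an elementary abelian Sylow 2-subgroup of order 8 with one class of involutions,
every centraliser of an involution having trivial odd core and a normal `PSL₂(q)`, `q > 3` odd, centralised
only by the involution (so it is `2 × E`, `PSL₂(q) ≤ E ≤ PΓL₂(q)`). -/
def RJType (K : Type u) [Group K] : Prop :=
  IsSimpleGroup K ∧ ∃ S : Sylow 2 K, Walter8.Eight (S : Subgroup K) ∧ Walter8.LType (S : Subgroup K) ∧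
    ∀ a ∈ (S : Subgroup K), a ≠ 1 → ClosedAbelian.core (Walter8.cen a) = ⊥

/-- The simple groups with abelian Sylow 2-subgroups. -/
def Good (K : Type u) [Group K] : Prop := PSLType K ∨ RJType K

/-- Every simple group with abelian Sylow 2-subgroups of smaller order than `G` is known. -/
def Ind (G : Type u) [Group G] : Prop :=
  ∀ (X : Type u) [Group X] [Finite X], Nat.card X < Nat.card G → IsSimpleGroup X → ¬ IsMulCommutative X →
    (∀ P : Sylow 2 X, IsMulCommutative (P : Subgroup X)) → Good X

end Cfsg.Agent.Walter4
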