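import Mathlib.GroupTheory.Sylow
import Mathlib.GroupTheory.Subgroup.Centralizer
import Mathlib.GroupTheory.Subgroup.Simple

/-!
Endings for simple groups with abelian Sylow 2-subgroups: two involution classes give a dihedral
group of twice odd order over their central involution, which puts a whole class into a subgroup
containing few centralisers, or makes two classes commute.
-/

set_option autoImplicit false
set_option linter.unusedSectionVars false
set_option linter.style.haveILetI false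

namespace Cfsg.Agent.Walter4

open Subgroup

variable {G : Type*} [Group G] [Finite G]

theorem mul_mem_cen {a x : G} (h : x * a = a * x) : x ∈ centralizer ({a} : Set G) :=
  mem_centralizer_singleton_iff.2 h

/-- Two 2-elements, one normalising the group generated by the other, commute. -/
theorem commute_of_normalizing {S : Sylow 2 G} (hS : ∀ x ∈ (S : Subgroup G), ∀ y ∈ (S : Subgroup G), x * y = y * x)
    {u c : G} {i j : ℕ} (hu : u ^ 2 ^ i = 1) (hc : c ^ 2 ^ j = 1)
    (hn : u ∈ normalizer (zpowers c : Set G)) : u * c = c * u := by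
  haveI : Fact (Nat.Prime 2) := ⟨Nat.prime_two⟩
  have hp : ∀ {x : G} {k : ℕ}, x ^ 2 ^ k = 1 → IsPGroup 2 ↥(zpowers x) := by
    rintro x k hx ⟨y, hy⟩
    obtain ⟨m, rfl⟩ := mem_zpowers_iff.1 hy
    exact ⟨k, Subtype.ext (show (x ^ m) ^ (2 ^ k) = 1 by
      rw [← zpow_natCast, ← zpow_mul, mul_comm, zpow_mul, zpow_natCast, hx, one_zpow])⟩
  have hW : IsPGroup 2 ↥(zpowers u ⊔ zpowers c) :=
    (hp hu).to_sup_of_normal_right' (hp hc) ((zpowers_le).2 hn)
  obtain ⟨T, hT⟩ := hW.exists_le_sylow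
  obtain ⟨g, hg⟩ := MulAction.exists_smul_eq G T S
  have hm : ∀ x ∈ zpowers u ⊔ zpowers c, g * x * g⁻¹ ∈ (S : Subgroup G) := by
    intro x hx
    rw [← hg, Sylow.coe_subgroup_smul]
    exact ⟨x, hT hx, rfl⟩
  have := hS _ (hm u (le_sup_left (a := zpowers u) (mem_zpowers u))) _
    (hm c (le_sup_right (b := zpowers c) (mem_zpowers c)))
  rw [conj_mul, conj_mul] at this
  exact mul_left_cancel (mul_right_cancel this)

/-- The central involution of the dihedral group of two nonconjugate involutions. -/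
theorem exists_central {S : Sylow 2 G} (hS : ∀ x ∈ (S : Subgroup G), ∀ y ∈ (S : Subgroup G), x * y = y * x)
    {u v : G} (hu : u * u = 1) (hv : v * v = 1) (hne : ¬ IsConj u v) :
    ∃ z : G, z * z = 1 ∧ z * u = u * z ∧ z * v = v * z ∧ IsConj u (z * v) := by
  set d := u * v with hd
  have hui : u⁻¹ = u := inv_eq_of_mul_eq_one_right hu
  have hvi : v⁻¹ = v := inv_eq_of_mul_eq_one_right hv
  have hdi : d⁻¹ = v * u := by rw [hd, mul_inv_rev, hui, hvi]
  have hud : u * d * u⁻¹ = d⁻¹ := by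
    rw [hdi, hd, hui, ← mul_assoc, hu, one_mul]
  have hvd : v * d * v⁻¹ = d⁻¹ := by
    rw [hdi, hd, hvi, ← mul_assoc, mul_assoc (v * u), hv, mul_one]
  have hcv : ∀ i : ℕ, d ^ i * v * (d ^ i)⁻¹ = d ^ (2 * i) * v := by
    intro i
    have h : v * (d ^ i)⁻¹ * v⁻¹ = d ^ i := by
      rw [← inv_pow, ← conj_pow, ← conj_inv, hvd, inv_inv]
    rw [mul_assoc (d ^ i), show v * (d ^ i)⁻¹ = d ^ i * v from by
      rwa [mul_inv_eq_iff_eq_mul] at h, ← mul_assoc, ← pow_add, two_mul]
  have hdv : d * v = u := by rw [hd, mul_assoc, hv, mul_one]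
  obtain ⟨k, hk | hk⟩ : ∃ k, orderOf d = 2 * k ∨ orderOf d = 2 * k + 1 :=
    ⟨orderOf d / 2, by omega⟩
  swap
  · refine absurd (isConj_comm.1 ?_) hne
    refine isConj_iff.2 ⟨d ^ (k + 1), ?_⟩
    rw [hcv, show 2 * (k + 1) = (2 * k + 1) + 1 by ring, pow_succ, ← hk, pow_orderOf_eq_one,
      one_mul, hdv]
  have hz2 : d ^ k * d ^ k = 1 := by rw [← pow_add, ← two_mul, ← hk, pow_orderOf_eq_one]
  have hzi : (d ^ k)⁻¹ = d ^ k := inv_eq_of_mul_eq_one_right hz2
  have hzc : ∀ x : G, x * d * x⁻¹ = d⁻¹ → d ^ k * x = x * d ^ k := by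
    intro x hx
    have h : x * d ^ k * x⁻¹ = d ^ k := by rw [← conj_pow, hx, inv_pow, hzi]
    rwa [mul_inv_eq_iff_eq_mul, eq_comm] at h
  refine ⟨d ^ k, hz2, hzc u hud, hzc v hvd, ?_⟩
  obtain ⟨j, rfl⟩ | ⟨j, rfl⟩ := (Nat.even_or_odd k)
  · -- `k` even: an element of order four would be inverted
    have hc : (d ^ j) ^ 2 ^ 2 = 1 := by
      rw [← pow_mul, show j * 2 ^ 2 = orderOf d by rw [hk]; ring, pow_orderOf_eq_one]
    have hn : u ∈ normalizer (zpowers (d ^ j) : Set G) := by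
      have h : u * d ^ j * u⁻¹ = (d ^ j)⁻¹ := by rw [← conj_pow, hud, inv_pow]
      have hmap : (zpowers (d ^ j)).map (MulAut.conj u).toMonoidHom = zpowers (d ^ j) := by
        rw [MonoidHom.map_zpowers]
        simp only [MulEquiv.coe_toMonoidHom, MulAut.conj_apply, h, zpowers_inv]
      rw [mem_normalizer_iff]
      intro x
      constructor
      · intro hx
        rw [← hmap]
        exact ⟨x, hx, rfl⟩
      · intro hx
        rw [← hmap] at hx
        obtain ⟨y, hy, he⟩ := hx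
        rwa [show y = x from mul_left_cancel (mul_right_cancel he)] at hy
    have hcu := commute_of_normalizing hS (u := u) (i := 1) (by rw [pow_one, pow_two, hu]) hc hn
    have h1 : d ^ j = (d ^ j)⁻¹ := by
      have h2 : u * d ^ j * u⁻¹ = (d ^ j)⁻¹ := by rw [← conj_pow, hud, inv_pow]
      rwa [hcu, mul_inv_cancel_right] at h2
    have h3 : d ^ (j + j) = 1 := by
      rw [pow_add]
      nth_rewrite 2 [h1]
      exact mul_inv_cancel _
    have hpos : 0 < orderOf d := orderOf_pos d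
    have := Nat.le_of_dvd (by omega) (orderOf_dvd_of_pow_eq_one h3)
    omega
  · refine isConj_iff.2 ⟨d ^ j, ?_⟩
    rw [show d ^ (2 * j + 1) * v = d ^ (2 * j) * (d * v) by rw [pow_succ, mul_assoc], hdv]
    conv_lhs => rw [← hdv, ← mul_assoc, (Commute.self_pow d j).symm.eq]
    rw [mul_assoc, mul_assoc, ← mul_assoc (d ^ j), hcv, ← mul_assoc, ← pow_succ', pow_succ, mul_assoc, hdv]

/-- A commuting involution is conjugate into the abelian Sylow subgroup, fixing the other one. -/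
theorem exists_conj_mem {S : Sylow 2 G} (hS : ∀ x ∈ (S : Subgroup G), ∀ y ∈ (S : Subgroup G), x * y = y * x)
    {v z : G} (hv : v ∈ (S : Subgroup G)) (hz : z * z = 1) (hzv : z * v = v * z) :
    ∃ g : G, g * v = v * g ∧ g * z * g⁻¹ ∈ (S : Subgroup G) := by
  set C := centralizer ({v} : Set G) with hC
  have hSC : (S : Subgroup G) ≤ C := fun x hx => mul_mem_cen (hS x hx v hv)
  have hzC : z ∈ C := mul_mem_cen hzv
  haveI : Fact (Nat.Prime 2) := ⟨Nat.prime_two⟩
  have hp : IsPGroup 2 ↥(zpowers (⟨z, hzC⟩ : C)) := by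
    rintro ⟨y, hy⟩
    obtain ⟨m, rfl⟩ := mem_zpowers_iff.1 hy
    refine ⟨1, Subtype.ext (Subtype.ext ?_)⟩
    show (z ^ m) ^ (2 ^ 1) = 1
    rw [pow_one, ← zpow_natCast, ← zpow_mul, mul_comm, zpow_mul]
    simp [pow_two, hz]
  obtain ⟨T, hT⟩ := hp.exists_le_sylow
  obtain ⟨g, hg⟩ := MulAction.exists_smul_eq C T (S.subtype hSC)
  refine ⟨g, mem_centralizer_singleton_iff.1 g.2, ?_⟩
  have : g * ⟨z, hzC⟩ * g⁻¹ ∈ ((S.subtype hSC : Sylow 2 C) : Subgroup C) := by
    rw [← hg, Sylow.coe_subgroup_smul]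
    exact ⟨_, hT (mem_zpowers _), rfl⟩
  rw [Sylow.coe_subtype] at this
  exact this

/-- A subgroup containing `C(v)` and the centralisers of the `a₀ * v`, `a₀` in the class of `u₀`,
contains that class. -/
theorem class_mem {S : Sylow 2 G} (hS : ∀ x ∈ (S : Subgroup G), ∀ y ∈ (S : Subgroup G), x * y = y * x)
    {u₀ v : G} (hu₀ : u₀ * u₀ = 1) (hv : v ∈ (S : Subgroup G)) (hv2 : v * v = 1) (hne : ¬ IsConj u₀ v)
    {M : Subgroup G} (hM : centralizer ({v} : Set G) ≤ M)
    (hM2 : ∀ a ∈ (S : Subgroup G), IsConj u₀ a → centralizer ({a * v} : Set G) ≤ M)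
    {u : G} (hu : IsConj u₀ u) : u ∈ M := by
  obtain ⟨c, hc⟩ := isConj_iff.1 hu
  have hu2 : u * u = 1 := by rw [← hc, conj_mul, hu₀, mul_one, mul_inv_cancel]
  obtain ⟨z, hz, hzu, hzv, hzc⟩ := exists_central hS hu2 hv2 fun h => hne (hu.trans h)
  obtain ⟨g, hgv, hgz⟩ := exists_conj_mem hS hv hz hzv
  have hgvi : g * v * g⁻¹ = v := by rw [hgv, mul_inv_cancel_right]
  have hconj : IsConj u₀ (g * z * g⁻¹ * v) := by
    refine hu.trans (hzc.trans (isConj_iff.2 ⟨g, ?_⟩))
    rw [← conj_mul, hgvi]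
  have hle := hM2 _ (mul_mem hgz hv) hconj
  rw [mul_assoc, hv2, mul_one] at hle
  have hguM : g * u * g⁻¹ ∈ M := hle (mul_mem_cen (by rw [conj_mul, conj_mul, hzu]))
  have hgM : g ∈ M := hM (mul_mem_cen hgv)
  have := mul_mem (mul_mem (inv_mem hgM) hguM) hgM
  rwa [mul_assoc g, inv_mul_cancel_left, inv_mul_cancel_right] at this

/-- Two classes commute elementwise if they do so in the centralisers of their products in `S`. -/
theorem class_commute {S : Sylow 2 G} (hS : ∀ x ∈ (S : Subgroup G), ∀ y ∈ (S : Subgroup G), x * y = y * x)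
    {u₀ v₀ : G} (hu₀ : u₀ * u₀ = 1) (hv₀ : v₀ * v₀ = 1) (hne : ¬ IsConj u₀ v₀)
    (hcom : ∀ a ∈ (S : Subgroup G), ∀ b ∈ (S : Subgroup G), IsConj u₀ a → IsConj v₀ b →
      ∀ u ∈ centralizer ({a * b} : Set G), ∀ v ∈ centralizer ({a * b} : Set G),
        IsConj u₀ u → IsConj v₀ v → u * v = v * u)
    {u v : G} (hu : IsConj u₀ u) (hv : IsConj v₀ v) : u * v = v * u := by
  have key : ∀ u v : G, v ∈ (S : Subgroup G) → IsConj u₀ u → IsConj v₀ v → u * v = v * u := by
    intro u v hvS hu hv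
    obtain ⟨c, hc⟩ := isConj_iff.1 hu
    obtain ⟨e, he⟩ := isConj_iff.1 hv
    have hu2 : u * u = 1 := by rw [← hc, conj_mul, hu₀, mul_one, mul_inv_cancel]
    have hv2 : v * v = 1 := by rw [← he, conj_mul, hv₀, mul_one, mul_inv_cancel]
    obtain ⟨z, hz, hzu, hzv, hzc⟩ := exists_central hS hu2 hv2 fun h => hne (hu.trans (h.trans hv.symm))
    obtain ⟨g, hgv, hgz⟩ := exists_conj_mem hS hvS hz hzv
    have hgvi : g * v * g⁻¹ = v := by rw [hgv, mul_inv_cancel_right]
    have hconj : IsConj u₀ (g * z * g⁻¹ * v) := by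
      refine hu.trans (hzc.trans (isConj_iff.2 ⟨g, ?_⟩))
      rw [← conj_mul, hgvi]
    have hu' : g * u * g⁻¹ ∈ centralizer ({g * z * g⁻¹ * v * v} : Set G) := by
      rw [mul_assoc (g * z * g⁻¹), hv2, mul_one]
      exact mul_mem_cen (by rw [conj_mul, conj_mul, hzu])
    have hv' : v ∈ centralizer ({g * z * g⁻¹ * v * v} : Set G) := by
      rw [mul_assoc (g * z * g⁻¹), hv2, mul_one]
      exact mul_mem_cen (hS v hvS _ hgz)
    have := hcom _ (mul_mem hgz hvS) v hvS hconj hv _ hu' v hv'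
      (hu.trans (isConj_iff.2 ⟨g, rfl⟩)) hv
    rw [← hgvi, conj_mul, conj_mul] at this
    exact mul_left_cancel (mul_right_cancel this)
  obtain ⟨e, he⟩ := isConj_iff.1 hv
  have hv2 : v * v = 1 := by rw [← he, conj_mul, hv₀, mul_one, mul_inv_cancel]
  obtain ⟨g, -, hg⟩ := exists_conj_mem hS (v := (1 : G)) (one_mem _) hv2 (by simp)
  have := key (g * u * g⁻¹) _ hg (hu.trans (isConj_iff.2 ⟨g, rfl⟩)) (hv.trans (isConj_iff.2 ⟨g, rfl⟩))
  rw [conj_mul, conj_mul] at this
  exact mul_left_cancel (mul_right_cancel this)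

theorem closure_class_eq_top [IsSimpleGroup G] {u₀ : G} (hu : u₀ ≠ 1) :
    normalClosure ({u₀} : Set G) = ⊤ :=
  (normalClosure_normal.eq_bot_or_eq_top).resolve_left fun h =>
    hu (mem_bot.1 (h ▸ subset_normalClosure (Set.mem_singleton u₀)))

/-- A proper subgroup of a simple group contains no class. -/
theorem not_class_mem [IsSimpleGroup G] {u₀ : G} (hu : u₀ ≠ 1) {M : Subgroup G} (hM : M ≠ ⊤)
    (h : ∀ u, IsConj u₀ u → u ∈ M) : False := by
  refine hM (top_le_iff.1 ?_)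
  rw [← closure_class_eq_top hu, normalClosure, closure_le]
  intro x hx
  obtain ⟨y, rfl, hy⟩ := Group.mem_conjugatesOfSet_iff.1 hx
  exact h x hy

/-- Two classes of a non-abelian simple group do not commute elementwise. -/
theorem not_class_commute [IsSimpleGroup G] (hG : ¬ IsMulCommutative G) {u₀ v₀ : G}
    (hu : u₀ ≠ 1) (hv : v₀ ≠ 1) (h : ∀ u, IsConj u₀ u → u * v₀ = v₀ * u) : False := by
  refine not_class_mem hu (M := centralizer ({v₀} : Set G)) ?_ fun u hu => mul_mem_cen (h u hu)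
  intro htop
  have hz : v₀ ∈ center G := mem_center_iff.2 fun g =>
    mem_centralizer_singleton_iff.1 (htop ▸ mem_top g)
  rcases (inferInstance : (center G).Normal).eq_bot_or_eq_top with hb | hb
  · exact hv (mem_bot.1 (hb ▸ hz))
  · exact hG ⟨⟨fun a b => mem_center_iff.1 (hb ▸ mem_top b) a⟩⟩

end Cfsg.Agent.Walter4
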