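import Cfsg.Agent.Lib.Walter4.Ind

/-!
What is used about the known simple groups with abelian Sylow 2-subgroups.
-/

set_option autoImplicit false
set_option linter.style.haveILetI false
set_option linter.unusedSectionVars false

namespace Cfsg.Agent.Walter4

open Subgroup

universe u

variable (K : Type u) [Group K] (P : Subgroup K)

/-- No non-trivial odd group of automorphisms fixes an involution `e` of `P` and is invariant under its
centraliser. -/
def BalancedAt : Prop :=
  ∀ R : Subgroup (MulAut K), Odd (Nat.card R) → ∀ e ∈ P, e ≠ 1 → (∀ φ ∈ R, φ e = e) →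
    (∀ c : K, c * e = e * c → ∀ φ ∈ R, MulAut.conj c * φ * (MulAut.conj c)⁻¹ ∈ R) → R = ⊥

/-- A four-group generating, with the centralisers of its involutions and its normaliser. -/
def DihGen : Prop :=
  Nat.card P = 4 ∧ ∀ M : Subgroup K, (∀ x ∈ P, x ≠ 1 → centralizer ({x} : Set K) ≤ M) →
    normalizer (P : Set K) ≤ M → M = ⊤

/-- The facts on a known simple group with Sylow 2-subgroup `P`. -/
structure KindFacts : Prop where
  sq : ∀ x ∈ P, x * x = 1
  four : 4 ≤ Nat.card P
  /-- A cyclic group regular on the involutions of `P`. -/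
  reg : ∃ h ∈ normalizer (P : Set K),
    (∀ x ∈ P, x ≠ 1 → ∀ y ∈ P, y ≠ 1 → ∃ i : ℕ, h ^ i * x * (h ^ i)⁻¹ = y) ∧
      ∀ i : ℕ, ∀ x ∈ P, x ≠ 1 → h ^ i * x * (h ^ i)⁻¹ = x → ∀ y ∈ P, h ^ i * y * (h ^ i)⁻¹ = y
  alt : BalancedAt K P ∨ DihGen K P

/-- The facts hold for every group in the list. -/
def KindStmt : Prop :=
  ∀ (K : Type u) [Group K] [Finite K], IsSimpleGroup K → Good K → ∀ P : Sylow 2 K,
    KindFacts K (P : Subgroup K)

end Cfsg.Agent.Walter4
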