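import Cfsg.Agent.Lib.Walter4.Struct
import Cfsg.Agent.Lib.Walter4.Kind
import Cfsg.Agent.Lib.Walter8.Reduce
import Cfsg.Agent.Lib.Walter8.CoreBot
import Cfsg.Agent.Lib.Walter8.Theta
import Cfsg.Agent.Lib.SEMain.Proof
import Cfsg.Agent.Lib.AbelianSylowAut.Central
import Cfsg.Agent.Lib.Walter4.Endings

/-!
Simple groups with abelian Sylow 2-subgroups: the induction. A group with all involution centralisers
solvable is `PSL₂(q)`; otherwise the Sylow 2-subgroup is elementary of order 8 or of rank at least four.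
-/

set_option autoImplicit false
set_option linter.unusedSectionVars false
set_option linter.style.haveILetI false

namespace Cfsg.Agent.Walter4

open Subgroup

universe u

/-- The configuration of rank at least four does not occur in a smallest unknown group. -/
def Rank4Stmt : Prop :=
  ∀ (G : Type u) [Group G] [Finite G] [IsSimpleGroup G], ¬ IsMulCommutative G → ∀ S : Sylow 2 G,
    IsMulCommutative (S : Subgroup G) → Ind G →
      16 ≤ Nat.card {x : (S : Subgroup G) // x * x = 1} →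
        ∀ t : G, orderOf t = 2 → ¬ Group.IsSolvable (centralizer ({t} : Set G)) → False

/-- The classification of the simple groups with abelian Sylow 2-subgroups. -/
def GoodStmt : Prop :=
  ∀ (G : Type u) [Group G] [Finite G], IsSimpleGroup G → ¬ IsMulCommutative G →
    (∀ P : Sylow 2 G, IsMulCommutative (P : Subgroup G)) → Good G

/-- A non-solvable centraliser forces rank at least four or an elementary Sylow subgroup of order 8. -/
theorem card_sylow_eq_eight {G : Type u} [Group G] [Finite G] [IsSimpleGroup G] (hK : KindStmt.{u})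
    (hG : ¬ IsMulCommutative G) (S : Sylow 2 G) (hS : IsMulCommutative (S : Subgroup G)) (hI : Ind G)
    {t : G} (htS : t ∈ (S : Subgroup G)) (ht : orderOf t = 2)
    (hns : ¬ Group.IsSolvable (centralizer ({t} : Set G)))
    (hA : Nat.card {x : (S : Subgroup G) // x * x = 1} < 16) : Nat.card (S : Subgroup G) = 8 := by
  classical
  haveI : Fact (Nat.Prime 2) := ⟨Nat.prime_two⟩
  have ht1 : t ≠ 1 := fun h => by rw [h, orderOf_one] at ht; omega
  have ht2 : t * t = 1 := by rw [← pow_two, ← ht, pow_orderOf_eq_one]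
  have hZ : center G = ⊥ := (inferInstance : (center G).Normal).eq_bot_or_eq_top.resolve_right fun h =>
    hG ⟨⟨fun a b => mem_center_iff.1 (h.symm ▸ mem_top b) a⟩⟩
  set C := centralizer ({t} : Set G) with hC
  have hCtop : C ≠ ⊤ := fun h => ht1 (by
    have : t ∈ center G := mem_center_iff.2 fun g =>
      mem_centralizer_singleton_iff.1 (h.symm ▸ mem_top g : g ∈ C)
    rwa [hZ, mem_bot] at this)
  have hSC : (S : Subgroup G) ≤ C := fun s hs =>
    mem_centralizer_singleton_iff.2 (comm_mem S hS hs htS)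
  set O := Cfsg.pPrimeCore 2 ↥C with hO
  haveI : O.Normal := Cfsg.pPrimeCore_normal 2 ↥C
  have hOodd : Odd (Nat.card O) := Nat.coprime_two_right.1 (PBasic.pPrimeCore_coprime 2 C)
  set π := QuotientGroup.mk' O with hπ
  have hπs : Function.Surjective π := QuotientGroup.mk'_surjective O
  have hlt : Nat.card (↥C ⧸ O) < Nat.card G := by
    refine lt_of_le_of_lt (Nat.card_le_card_of_surjective π hπs) ?_
    rcases (card_le_card_group C).lt_or_eq with h | h
    · exact h
    · exact absurd (eq_top_of_card_eq C h) hCtop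
  have hcore : Cfsg.pPrimeCore 2 (↥C ⧸ O) = ⊥ := Components.pPrimeCore_quotient _
  let S' : Sylow 2 (↥C ⧸ O) := (S.subtype hSC).mapSurjective hπs
  have hmemS' : ∀ y, y ∈ (S' : Subgroup (↥C ⧸ O)) ↔ ∃ x : C, (x : G) ∈ (S : Subgroup G) ∧ π x = y := by
    intro y
    rw [show (S' : Subgroup (↥C ⧸ O)) = ((S : Subgroup G).subgroupOf C).map π from by
      rw [Sylow.coe_mapSurjective, Sylow.coe_subtype], mem_map]
    exact Iff.rfl
  have hS' : IsMulCommutative (S' : Subgroup (↥C ⧸ O)) := by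
    refine ⟨⟨?_⟩⟩
    rintro ⟨x, hx⟩ ⟨y, hy⟩
    obtain ⟨a, ha, rfl⟩ := (hmemS' x).1 hx
    obtain ⟨b, hb, rfl⟩ := (hmemS' y).1 hy
    refine Subtype.ext ?_
    show π a * π b = π b * π a
    rw [← map_mul, ← map_mul, show a * b = b * a from Subtype.ext (comm_mem S hS ha hb)]
  have hinj : ∀ x : C, (x : G) ∈ (S : Subgroup G) → π x = 1 → x = 1 := fun x hx h => by
    obtain ⟨k, hk⟩ := IsPGroup.iff_orderOf.1 S.2 ⟨(x : G), hx⟩
    rw [Subgroup.orderOf_mk, Subgroup.orderOf_coe] at hk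
    have hxO : x ∈ O := (QuotientGroup.eq_one_iff x).1 h
    exact orderOf_eq_one_iff.1 (Nat.eq_one_of_dvd_coprimes
      ((Nat.coprime_two_right.2 (hOodd.of_dvd_nat (Subgroup.orderOf_dvd_natCard O hxO))).pow_right k) dvd_rfl hk.dvd)
  -- a component
  obtain ⟨K, hKc⟩ : ∃ K : Subgroup (↥C ⧸ O), Cfsg.IsComponent K := by
    by_contra hno
    push Not at hno
    have hlay : Cfsg.layer (↥C ⧸ O) = ⊥ :=
      le_bot_iff.1 (Components.layer_le_iff.2 fun L hL => (hno L hL).elim)
    have hle := sylow_le S' hS' hcore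
    rw [hlay, sup_bot_eq] at hle
    haveI : (Cfsg.pCore 2 (↥C ⧸ O)).Normal := FittingCores.pCore_normal 2
    haveI : Group.IsNilpotent ↥(Cfsg.pCore 2 (↥C ⧸ O)) := (PBasic.pCore_isPGroup 2 _).isNilpotent
    haveI : Group.IsSolvable ((↥C ⧸ O) ⧸ Cfsg.pCore 2 (↥C ⧸ O)) := S0205.result (by
      rw [← Subgroup.index_eq_card, ← Nat.not_even_iff_odd, even_iff_two_dvd]
      exact fun h => S'.not_dvd_index (h.trans (Subgroup.index_dvd_of_le hle)))
    haveI : Group.IsSolvable (↥C ⧸ O) :=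
      Group.isSolvable_of_ker_le_range (Cfsg.pCore 2 (↥C ⧸ O)).subtype
        (QuotientGroup.mk' (Cfsg.pCore 2 (↥C ⧸ O))) (by rw [QuotientGroup.ker_mk', Subgroup.range_subtype])
    haveI : Group.IsSolvable O := S0205.result hOodd
    exact hns (Group.isSolvable_of_ker_le_range O.subtype π
      (by rw [hπ, QuotientGroup.ker_mk', Subgroup.range_subtype]))
  obtain ⟨T, hT, -⟩ := exists_sylow_component S' hS' hcore hKc
  have hZK := component_center S' hS' hcore hKc
  have hfacts := hK K (component_simple S' hS' hcore hKc).1 (component_good S' hS' hcore (hI.known hlt) hKc) T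
  -- the centraliser of `K` in the Sylow subgroup
  set W := (S' : Subgroup (↥C ⧸ O)) ⊓ centralizer (K : Set (↥C ⧸ O)) with hW
  have htriv : ∀ u ∈ (T : Subgroup K), (u : ↥C ⧸ O) ∈ W → u = 1 := fun u _ huW => by
    have : u ∈ center ↥K := mem_center_iff.2 fun g =>
      Subtype.ext (mem_centralizer_iff.1 (mem_inf.1 huW).2 _ g.2)
    rwa [hZK, mem_bot] at this
  have hTS : ∀ u ∈ (T : Subgroup K), (u : ↥C ⧸ O) ∈ (S' : Subgroup (↥C ⧸ O)) := fun u hu => by
    rw [hT] at hu
    exact mem_subgroupOf.1 hu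
  have htW : π ⟨t, hSC htS⟩ ∈ W := mem_inf.2 ⟨(hmemS' _).2 ⟨_, htS, rfl⟩, mem_centralizer_iff.2 fun y _ => by
    obtain ⟨x, rfl⟩ := hπs y
    rw [← map_mul, ← map_mul, show x * ⟨t, hSC htS⟩ = ⟨t, hSC htS⟩ * x from
      Subtype.ext (mem_centralizer_singleton_iff.1 x.2)]⟩
  have htW1 : π ⟨t, hSC htS⟩ ≠ 1 := fun h => ht1 (congrArg Subtype.val (hinj _ htS h))
  -- squares
  have hsq : ∀ s ∈ (S' : Subgroup (↥C ⧸ O)), s * s ∈ W := by
    intro s hs
    obtain ⟨k, hkK, hkS, hk⟩ := exists_inner S' hS' hcore hKc hs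
    have hkT : (⟨k, hkK⟩ : K) ∈ (T : Subgroup K) := by rw [hT]; exact mem_subgroupOf.2 hkS
    have hk2 : k * k = 1 := congrArg Subtype.val (hfacts.sq _ hkT)
    have hcW : k⁻¹ * s ∈ W := mem_inf.2 ⟨mul_mem (inv_mem hkS) hs, mem_centralizer_iff.2 fun x hx => by
      symm
      calc k⁻¹ * s * x = k⁻¹ * (s * x * s⁻¹) * s := by group
        _ = x * (k⁻¹ * s) := by rw [hk x hx]; group⟩
    rw [show s * s = k⁻¹ * s * (k⁻¹ * s) by
      rw [inv_eq_of_mul_eq_one_right hk2, mul_assoc k s (k * s), ← mul_assoc s k s, comm_mem S' hS' hs hkS,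
        mul_assoc k s s, ← mul_assoc k k, hk2, one_mul]]
    exact mul_mem hcW hcW
  -- counting the involutions
  let W1 := {w : W // (w : ↥C ⧸ O) * w = 1}
  have hcount : Nat.card (T : Subgroup K) * Nat.card W1 ≤ Nat.card {x : (S : Subgroup G) // x * x = 1} := by
    rw [← Nat.card_prod]
    have hex : ∀ q : ↥(T : Subgroup K) × W1, ∃ a : {x : (S : Subgroup G) // x * x = 1},
        π ⟨((a : (S : Subgroup G)) : G), hSC (a : (S : Subgroup G)).2⟩ =
          ((q.1 : K) : ↥C ⧸ O) * ((q.2 : W) : ↥C ⧸ O) := by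
      intro q
      have hmul : ((q.1 : K) : ↥C ⧸ O) * ((q.2 : W) : ↥C ⧸ O) ∈ (S' : Subgroup (↥C ⧸ O)) :=
        mul_mem (hTS _ q.1.2) (mem_inf.1 q.2.1.2).1
      obtain ⟨x, hx, hxe⟩ := (hmemS' _).1 hmul
      have hx2 : (x : G) * x = 1 := by
        refine congrArg Subtype.val (hinj (x * x) (mul_mem hx hx) ?_)
        have hu2 : ((q.1 : K) : ↥C ⧸ O) * ((q.1 : K) : ↥C ⧸ O) = 1 :=
          congrArg Subtype.val (hfacts.sq _ q.1.2)
        rw [map_mul, hxe, mul_assoc, ← mul_assoc ((q.2 : W) : ↥C ⧸ O),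
          comm_mem S' hS' (mem_inf.1 q.2.1.2).1 (hTS _ q.1.2), mul_assoc, q.2.2, mul_one, hu2]
      exact ⟨⟨⟨(x : G), hx⟩, Subtype.ext hx2⟩, hxe⟩
    choose f hf using hex
    refine Nat.card_le_card_of_injective f fun q r h => ?_
    have e : ((q.1 : K) : ↥C ⧸ O) * ((q.2 : W) : ↥C ⧸ O) =
        ((r.1 : K) : ↥C ⧸ O) * ((r.2 : W) : ↥C ⧸ O) := by rw [← hf q, ← hf r, h]
    have h1 : ((r.1 : K)⁻¹ * (q.1 : K)) = 1 := by
      refine htriv _ (mul_mem (inv_mem r.1.2) q.1.2) ?_
      show ((r.1 : K) : ↥C ⧸ O)⁻¹ * ((q.1 : K) : ↥C ⧸ O) ∈ W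
      rw [show ((r.1 : K) : ↥C ⧸ O)⁻¹ * ((q.1 : K) : ↥C ⧸ O) =
        ((r.2 : W) : ↥C ⧸ O) * (((q.2 : W) : ↥C ⧸ O))⁻¹ by
          rw [eq_mul_inv_iff_mul_eq, mul_assoc, inv_mul_eq_iff_eq_mul]; exact e]
      exact mul_mem r.2.1.2 (inv_mem q.2.1.2)
    rw [inv_mul_eq_one] at h1
    rw [h1] at e
    exact Prod.ext (Subtype.ext h1.symm) (Subtype.ext (Subtype.ext (mul_left_cancel e)))
  have hT4 := hfacts.four
  have hW1le : Nat.card W1 < 4 := by nlinarith
  have huniq : ∀ w ∈ W, w ≠ 1 → w * w = 1 → ∀ w' ∈ W, w' ≠ 1 → w' * w' = 1 → w = w' := by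
    intro w hw hw1 hw2 w' hw' hw'1 hw'2
    by_contra hne
    let a : W1 := ⟨⟨w, hw⟩, hw2⟩
    let b : W1 := ⟨⟨w', hw'⟩, hw'2⟩
    have hc : w * w' = w' * w := comm_mem S' hS' (mem_inf.1 hw).1 (mem_inf.1 hw').1
    let c : W1 := ⟨⟨w * w', mul_mem hw hw'⟩, by
      show w * w' * (w * w') = 1
      rw [mul_assoc, ← mul_assoc w', ← hc, mul_assoc w, hw'2, mul_one, hw2]⟩
    let o : W1 := ⟨1, one_mul 1⟩
    have hinjf : Function.Injective (![o, a, b, c] : Fin 4 → W1) := by
      have hcw : w * w' ≠ w := fun h => hw'1 (mul_eq_left.1 h)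
      have hcw' : w * w' ≠ w' := fun h => hw1 (mul_eq_right.1 h)
      have hc1 : w * w' ≠ 1 := fun h => hne (mul_right_cancel (h.trans hw'2.symm))
      intro i j h
      have h' := congrArg (fun q : W1 => ((q : W) : ↥C ⧸ O)) h
      fin_cases i <;> fin_cases j <;> simp [o, a, b, c] at h' ⊢ <;>
        first
          | exact absurd h' hw1 | exact absurd h'.symm hw1 | exact absurd h' hw'1 | exact absurd h'.symm hw'1
          | exact absurd h' hne | exact absurd h'.symm hne | exact absurd h' hcw | exact absurd h'.symm hcw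
          | exact absurd h' hcw' | exact absurd h'.symm hcw' | exact absurd h' hc1 | exact absurd h'.symm hc1
    have := Nat.card_le_card_of_injective _ hinjf
    rw [Nat.card_fin] at this
    omega
  -- `S` is elementary
  have hel : ∀ s ∈ (S : Subgroup G), s * s = 1 := by
    by_contra hno
    push Not at hno
    obtain ⟨s, hs, hs1⟩ := hno
    obtain ⟨j, hj⟩ := IsPGroup.iff_orderOf.1 S.2 ⟨s, hs⟩
    rw [Subgroup.orderOf_mk] at hj
    obtain ⟨i, rfl⟩ : ∃ i, j = i + 2 := ⟨j - 2, by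
      rcases (show j = 0 ∨ j = 1 ∨ 2 ≤ j by omega) with rfl | rfl | h
      · exact absurd (by rw [orderOf_eq_one_iff.1 hj, one_mul]) hs1
      · refine absurd ?_ hs1
        rw [← pow_two, show 2 = orderOf s by rw [hj, pow_one], pow_orderOf_eq_one]
      · omega⟩
    set y := s ^ 2 ^ i with hy
    have hyo : orderOf y = 4 := by
      rw [hy, orderOf_pow, hj, Nat.gcd_eq_right (pow_dvd_pow 2 (by omega)), pow_add,
        Nat.mul_div_cancel_left _ (Nat.two_pow_pos i)]
      norm_num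
    have hyS : y ∈ (S : Subgroup G) := pow_mem hs _
    have himg : ∀ (y : G) (hy : y ∈ (S : Subgroup G)), orderOf y = 4 →
        π ⟨y * y, hSC (mul_mem hy hy)⟩ ∈ W ∧ π ⟨y * y, hSC (mul_mem hy hy)⟩ ≠ 1 ∧
          π ⟨y * y, hSC (mul_mem hy hy)⟩ * π ⟨y * y, hSC (mul_mem hy hy)⟩ = 1 := by
      intro y hy ho
      refine ⟨?_, fun h => ?_, ?_⟩
      · rw [show (⟨y * y, hSC (mul_mem hy hy)⟩ : C) = ⟨y, hSC hy⟩ * ⟨y, hSC hy⟩ from rfl, map_mul]
        exact hsq _ ((hmemS' _).2 ⟨_, hy, rfl⟩)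
      · have h' : y * y = 1 := congrArg Subtype.val (hinj ⟨y * y, hSC (mul_mem hy hy)⟩ (mul_mem hy hy) h)
        have := orderOf_le_of_pow_eq_one two_pos (pow_two y ▸ h')
        omega
      · rw [← map_mul]
        refine (congrArg π (Subtype.ext ?_)).trans (map_one π)
        show y * y * (y * y) = 1
        rw [← pow_two, ← pow_two, ← pow_mul, show 2 * 2 = orderOf y by omega, pow_orderOf_eq_one]
    have hfix : ∀ n ∈ normalizer ((S : Subgroup G) : Set G), n * (y * y) * n⁻¹ = y * y := by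
      intro n hn
      have hy' : n * y * n⁻¹ ∈ (S : Subgroup G) := (mem_normalizer_iff.1 hn y).1 hyS
      obtain ⟨a1, a2, a3⟩ := himg y hyS hyo
      obtain ⟨b1, b2, b3⟩ := himg _ hy' (by rw [← hyo]; exact (MulAut.conj n).orderOf_eq y)
      have he := huniq _ a1 a2 a3 _ b1 b2 b3
      have hmem : ((⟨y * y, hSC (mul_mem hyS hyS)⟩ : C)⁻¹ *
          ⟨n * y * n⁻¹ * (n * y * n⁻¹), hSC (mul_mem hy' hy')⟩ : C) = 1 :=
        hinj _ (mul_mem (inv_mem (mul_mem hyS hyS)) (mul_mem hy' hy'))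
          (by rw [map_mul, map_inv, he, inv_mul_cancel])
      rw [inv_mul_eq_one] at hmem
      have hv : y * y = n * y * n⁻¹ * (n * y * n⁻¹) := congrArg Subtype.val hmem
      rw [conj_mul] at hv
      exact hv.symm
    have hcoreG : Cfsg.pPrimeCore 2 G = ⊥ :=
      (Cfsg.pPrimeCore_normal 2 G).eq_bot_or_eq_top.resolve_right fun h => by
        have h1 := PBasic.pPrimeCore_coprime 2 G
        rw [h, card_top] at h1
        exact absurd (Nat.eq_one_of_dvd_coprimes h1 (ht ▸ orderOf_dvd_natCard t) dvd_rfl) (by norm_num)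
    have hyy := AbelianSylowAut.mem_center_of_fixed G hcoreG S hS (y * y) (mul_mem hyS hyS) hfix
    rw [hZ, mem_bot, ← pow_two] at hyy
    have := orderOf_le_of_pow_eq_one two_pos hyy
    omega
  -- the order
  have hcard : Nat.card {x : (S : Subgroup G) // x * x = 1} = Nat.card (S : Subgroup G) :=
    Nat.card_congr ⟨Subtype.val, fun s => ⟨s, Subtype.ext (hel s s.2)⟩, fun _ => rfl, fun _ => rfl⟩
  rw [hcard] at hA
  have hW1ge : 2 ≤ Nat.card W1 := by
    haveI : Nontrivial W1 := ⟨⟨⟨1, one_mul 1⟩, ⟨⟨_, htW⟩, by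
      rw [← map_mul, show (⟨t, hSC htS⟩ : C) * ⟨t, hSC htS⟩ = 1 from Subtype.ext ht2, map_one]⟩,
      fun h => htW1 (congrArg (fun q : W1 => ((q : W) : ↥C ⧸ O)) h).symm⟩⟩
    exact Finite.one_lt_card
  obtain ⟨m, hm⟩ := S.2.exists_card_eq
  have hA8 : 8 ≤ Nat.card (S : Subgroup G) := by
    rw [← hcard]
    exact le_trans (Nat.mul_le_mul hT4 hW1ge) hcount
  rw [hm] at hA hA8 ⊢
  have h1 : 3 ≤ m := by
    by_contra h
    have := Nat.pow_le_pow_right (show 2 > 0 by norm_num) (show m ≤ 2 by omega)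
    omega
  have h2 : m ≤ 3 := by
    by_contra h
    have := Nat.pow_le_pow_right (show 2 > 0 by norm_num) (show 4 ≤ m by omega)
    omega
  rw [show m = 3 by omega]
  norm_num

/-- The induction. -/
theorem goodStmt (hK : KindStmt.{u}) (hR : Rank4Stmt.{u}) : GoodStmt.{u} := by
  intro G _ _ hsimp hG hP
  induction hn : Nat.card G using Nat.strong_induction_on generalizing G with
  | _ n ih =>
  subst hn
  haveI := hsimp
  haveI : Fact (Nat.Prime 2) := ⟨Nat.prime_two⟩
  have hI : Ind G := fun X _ _ hX h1 h2 h3 => ih _ hX X h1 h2 h3 rfl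
  obtain ⟨S⟩ := (inferInstance : Nonempty (Sylow 2 G))
  by_cases hsol : ∀ t : G, orderOf t = 2 → Group.IsSolvable ↥(centralizer ({t} : Set G))
  · obtain ⟨F, i1, i2, hF, he⟩ := AbelInv.simple_case hG S (hP S) hsol
    exact Or.inl ⟨F, i1, i2, hF, he⟩
  push Not at hsol
  obtain ⟨t₀, ht₀, hns₀⟩ := hsol
  obtain ⟨U, hU⟩ := (IsPGroup.of_card (p := 2) (n := 1)
    (by rw [Nat.card_zpowers, ht₀, pow_one] : Nat.card (zpowers t₀) = 2 ^ 1)).exists_le_sylow
  obtain ⟨g, hg⟩ := MulAction.exists_smul_eq G U S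
  set t := g * t₀ * g⁻¹ with htdef
  have htS : t ∈ (S : Subgroup G) := by
    rw [← hg, Sylow.coe_subgroup_smul]
    exact ⟨t₀, hU (mem_zpowers t₀), by simp [htdef]⟩
  have ht : orderOf t = 2 := ((MulAut.conj g).orderOf_eq t₀).trans ht₀
  have hns : ¬ Group.IsSolvable ↥(centralizer ({t} : Set G)) := by
    intro h
    refine hns₀ ?_
    let φ : centralizer ({t₀} : Set G) →* centralizer ({t} : Set G) :=
      ((MulAut.conj g).toMonoidHom.comp (centralizer ({t₀} : Set G)).subtype).codRestrict _ fun x =>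
        mem_centralizer_singleton_iff.2 (by
          show g * x * g⁻¹ * t = t * (g * x * g⁻¹)
          rw [htdef, conj_mul, conj_mul, mem_centralizer_singleton_iff.1 x.2])
    haveI := h
    exact Group.isSolvable_of_isSolvable_injective (f := φ) fun x y e =>
      Subtype.ext ((MulAut.conj g).injective (congrArg Subtype.val e))
  by_cases h16 : 16 ≤ Nat.card {x : (S : Subgroup G) // x * x = 1}
  · exact (hR G hG S (hP S) hI h16 t ht hns).elim
  have h8 := card_sylow_eq_eight hK hG S (hP S) hI htS ht hns (not_le.1 h16)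
  rcases Walter8.cases hG S h8 with ⟨F, i1, i2, hF, he⟩ | ⟨F, i1, i2, hF, ⟨e⟩⟩ | ⟨⟨e⟩⟩ | ⟨hE, hL⟩
  · exact Or.inl ⟨F, i1, i2, Or.inr ⟨3, by norm_num, by rw [hF]; norm_num⟩, he⟩
  · exact Or.inl ⟨F, i1, i2, AbelInv.psl2_target S (hP S) (by omega) e, ⟨e⟩⟩
  · exfalso
    let a : Equiv.Perm (Fin 7) := Equiv.swap 0 2 * Equiv.swap 4 5
    let b : Equiv.Perm (Fin 7) := Equiv.swap 0 1 * Equiv.swap 2 3
    have hab : Equiv.Perm.sign a = 1 ∧ Equiv.Perm.sign b = 1 ∧ a * a = 1 ∧ b * b = 1 ∧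
        (a * b) ^ 4 = 1 ∧ a * b ≠ b * a := by decide +kernel
    obtain ⟨h1, h2, h3, h4, h5, h6⟩ := hab
    let A : alternatingGroup (Fin 7) := ⟨a, Equiv.Perm.mem_alternatingGroup.2 h1⟩
    let B : alternatingGroup (Fin 7) := ⟨b, Equiv.Perm.mem_alternatingGroup.2 h2⟩
    set x := e.symm A with hx
    set y := e.symm B with hy
    have hx2 : x * x = 1 := by rw [hx, ← map_mul, show A * A = 1 from Subtype.ext h3, map_one]
    have hy2 : y * y = 1 := by rw [hy, ← map_mul, show B * B = 1 from Subtype.ext h4, map_one]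
    have hd : (x * y) ^ 2 ^ 2 = 1 := by
      rw [hx, hy, ← map_mul, ← map_pow, show (A * B) ^ (2 ^ 2) = 1 from Subtype.ext h5, map_one]
    have hn : x ∈ normalizer (zpowers (x * y) : Set G) := by
      refine mem_normalizer_fintype ?_
      rintro _ ⟨i, rfl⟩
      refine ⟨-i, ?_⟩
      show (x * y) ^ (-i) = x * (x * y) ^ i * x⁻¹
      rw [← conj_zpow, inv_eq_of_mul_eq_one_right hx2, ← mul_assoc x x y, hx2, one_mul, zpow_neg, ← inv_zpow,
        mul_inv_rev, inv_eq_of_mul_eq_one_right hx2, inv_eq_of_mul_eq_one_right hy2]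
    have hc := commute_of_normalizing (fun u hu v hv => comm_mem S (hP S) hu hv) (u := x) (i := 1)
      (by rw [pow_one, pow_two, hx2]) hd hn
    have h7 : x * y = y * x := by
      rw [← mul_assoc, hx2, one_mul] at hc
      calc x * y = x * (x * y * x) := by rw [← hc]
        _ = (x * x) * (y * x) := by group
        _ = y * x := by rw [hx2, one_mul]
    rw [hx, hy, ← map_mul, ← map_mul] at h7
    exact h6 (congrArg Subtype.val (e.symm.injective h7))
  · exact Or.inr ⟨inferInstance, S, hE, hL, Walter8.core_eq_bot hG hE hL Walter8.theta SEMain.stmt⟩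

end Cfsg.Agent.Walter4
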