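import Cfsg.Agent.Lib.Walter4.Ind
import Cfsg.Agent.Lib.Walter8.Quot
import Cfsg.Agent.Lib.AbelianTwo.Cover
import Cfsg.Agent.Lib.Classical.DicksonSolvable
import Cfsg.Prelude.Def_TwoFusion
import Mathlib.GroupTheory.Transfer

/-!
The known simple groups with abelian Sylow 2-subgroups in the forms the applications want: the field of
`PSL₂` of order `0, 3, 5 (mod 8)`, and the centraliser `2 × E`, `PSL₂(q) ≤ E`, of an involution of the
Ree–Janko type.
-/

set_option autoImplicit false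
set_option linter.unusedSectionVars false
set_option linter.style.haveILetI false

namespace Cfsg.Agent.Walter4

open Subgroup

universe u

/-- `PSL₂(4) ≅ PSL₂(5)` brings the order of the field to `0, 3, 5 (mod 8)`. -/
theorem PSLType.exists_mod_eight {K : Type u} [Group K] (h : PSLType K) :
    ∃ (F : Type) (_ : Field F) (_ : Fintype F), 3 < Fintype.card F ∧
      (Fintype.card F % 8 = 0 ∨ Fintype.card F % 8 = 3 ∨ Fintype.card F % 8 = 5) ∧
      Nonempty (K ≃* Matrix.ProjectiveSpecialLinearGroup (Fin 2) F) := by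
  obtain ⟨F, i1, i2, hq, ⟨e⟩⟩ := h
  rcases hq with ⟨h8, h5⟩ | ⟨n, hn, hq⟩
  · exact ⟨F, i1, i2, by omega, by omega, ⟨e⟩⟩
  rcases eq_or_lt_of_le hn with rfl | hn'
  · haveI : Fact (Nat.Prime 5) := ⟨by norm_num⟩
    obtain ⟨f⟩ := AbelianTwo.psl_four_five (F := F) (Or.inl (by rw [hq]; norm_num))
    exact ⟨ZMod 5, inferInstance, inferInstance, by rw [ZMod.card]; norm_num, by rw [ZMod.card]; norm_num,
      ⟨e.trans f⟩⟩
  · obtain ⟨j, rfl⟩ : ∃ j, n = j + 3 := ⟨n - 3, by omega⟩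
    have h1 : Fintype.card F = 8 * 2 ^ j := by rw [hq, pow_add]; ring
    exact ⟨F, i1, i2, by have := Nat.one_le_two_pow (n := j); omega, Or.inl (by omega), ⟨e⟩⟩

/-- The centraliser of an involution of a group of Ree–Janko type. -/
theorem RJType.exists_prod {K : Type u} [Group K] [Finite K] (h : RJType K) :
    ∃ (t : K) (E E₀ : Subgroup K), orderOf t = 2 ∧
      Cfsg.IsInternalDirectProduct (zpowers t) E (centralizer ({t} : Set K)) ∧ E₀ ≤ E ∧
      (E₀.subgroupOf E).Normal ∧ E ⊓ centralizer (E₀ : Set K) = ⊥ ∧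
      ∃ (F : Type) (_ : Field F) (_ : Fintype F), Odd (Fintype.card F) ∧ 3 < Fintype.card F ∧
        Nonempty (E₀ ≃* Matrix.ProjectiveSpecialLinearGroup (Fin 2) F) := by
  classical
  haveI : Fact (Nat.Prime 2) := ⟨Nat.prime_two⟩
  obtain ⟨-, S, hE, hL, hcore⟩ := h
  obtain ⟨a, ha, ha1⟩ := hE.exists_out (T := {1}) (by rw [Set.ncard_singleton]; norm_num)
  have ha1 : a ≠ 1 := ha1
  obtain ⟨L, F, i1, i2, φ, hodd, h3, hLC, hCN, hsur, -, hker, hcen⟩ := hL a ha ha1
  rw [hcore a ha ha1] at hker hcen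
  rw [bot_sup_eq] at hcen
  have hinj : Function.Injective φ := by
    rw [← MonoidHom.ker_eq_bot_iff, hker, bot_subgroupOf]
  let e : L ≃* Matrix.ProjectiveSpecialLinearGroup (Fin 2) F := MulEquiv.ofBijective φ ⟨hinj, hsur⟩
  haveI : IsSimpleGroup (Matrix.ProjectiveSpecialLinearGroup (Fin 2) F) :=
    Matrix.ProjectiveSpecialLinearGroup.rank_two_simple (by rw [Nat.card_eq_fintype_card]; omega)
  haveI : IsSimpleGroup L := e.isSimpleGroup
  have hoa : orderOf a = 2 := hE.order_two ha ha1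
  have haC : a ∈ Walter8.cen a := hE.mem_cen ha ha
  -- the involution is outside `L`
  have hLnc : ¬ IsMulCommutative L := fun hc =>
    Dickson.not_comm_psl (F := F) (by rw [Nat.card_eq_fintype_card]; omega)
      ⟨⟨fun x y => e.symm.injective (by rw [map_mul, map_mul, hc.is_comm.comm])⟩⟩
  have haL : a ∉ L := fun haL => by
    have hz : (⟨a, haL⟩ : L) ∈ center L := mem_center_iff.2 fun x =>
      Subtype.ext (mem_centralizer_singleton_iff.1 (hLC x.2))
    rcases (inferInstance : (center L).Normal).eq_bot_or_eq_top with hb | ht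
    · rw [hb, mem_bot] at hz
      exact ha1 (congrArg Subtype.val hz)
    · exact hLnc ⟨⟨fun x y => mem_center_iff.1 (ht.symm ▸ mem_top y) x⟩⟩
  -- a character not trivial at the involution
  set C := Walter8.cen a with hC
  let P : Sylow 2 C := S.subtype (hE.le_cen ha)
  have hP : (P : Subgroup C) = (S : Subgroup K).subgroupOf C := Sylow.coe_subtype _ _
  haveI : IsMulCommutative (P : Subgroup C) := ⟨⟨fun x y => Subtype.ext (Subtype.ext (by
    have hx : ((x : C) : K) ∈ (S : Subgroup K) := mem_subgroupOf.1 (hP.le x.2)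
    have hy : ((y : C) : K) ∈ (S : Subgroup K) := mem_subgroupOf.1 (hP.le y.2)
    exact hE.comm hx hy))⟩⟩
  set L' := L.subgroupOf C with hL'
  haveI hL'n : L'.Normal := normal_subgroupOf_iff hLC |>.2 fun l g hl hg =>
    (mem_normalizer_iff.1 (hCN hg) l).1 hl
  have ha2 : a * a = 1 := hE.sq a ha
  set aP : (P : Subgroup C) := ⟨⟨a, haC⟩, by rw [hP]; exact mem_subgroupOf.2 ha⟩ with haP
  obtain ⟨R, hRle, hRmax⟩ := Finite.exists_le_maximal (p := fun M : Subgroup (P : Subgroup C) => aP ∉ M)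
    (a := L'.subgroupOf (P : Subgroup C)) (fun h => haL h)
  have hPsq : ∀ x : (P : Subgroup C), x * x = 1 := fun x => Subtype.ext (Subtype.ext (by
    have hx : ((x : C) : K) ∈ (S : Subgroup K) := mem_subgroupOf.1 (hP.le x.2)
    exact hE.sq _ hx))
  letI : CommGroup (P : Subgroup C) :=
    { (inferInstance : Group (P : Subgroup C)) with mul_comm := fun x y => mul_comm' x y }
  let τ : C →* (P : Subgroup C) ⧸ R := MonoidHom.transfer (QuotientGroup.mk' R)
  have hkey : ∀ (k : ℕ) (g₀ : C), g₀⁻¹ * (⟨a, haC⟩ : C) ^ k * g₀ ∈ (P : Subgroup C) →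
      g₀⁻¹ * (⟨a, haC⟩ : C) ^ k * g₀ = (⟨a, haC⟩ : C) ^ k := by
    intro k g₀ _
    have hc : Commute g₀ ((⟨a, haC⟩ : C) ^ k) :=
      Commute.pow_right (Subtype.ext (mem_centralizer_singleton_iff.1 g₀.2)) k
    rw [mul_assoc, ← hc.eq, inv_mul_cancel_left]
  have hτmk : τ ⟨a, haC⟩ = QuotientGroup.mk' R aP := by
    show (MonoidHom.transfer (QuotientGroup.mk' R)) _ = _
    rw [MonoidHom.transfer_eq_pow (QuotientGroup.mk' R) (⟨a, haC⟩ : C) hkey]
    refine congrArg _ (Subtype.ext (Subtype.ext ?_))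
    obtain ⟨k, hk⟩ : Odd (P : Subgroup C).index :=
      Nat.odd_iff.2 (Nat.two_dvd_ne_zero.1 P.not_dvd_index)
    show a ^ (P : Subgroup C).index = a
    rw [hk, pow_succ, pow_mul, pow_two, ha2, one_pow, one_mul]
  have hτa : τ ⟨a, haC⟩ ≠ 1 := by
    rw [hτmk, ne_eq, QuotientGroup.mk'_apply, QuotientGroup.eq_one_iff]
    exact hRmax.1
  have hsmall : ∀ q : (P : Subgroup C) ⧸ R, q = 1 ∨ q = τ ⟨a, haC⟩ := by
    intro q
    obtain ⟨x, rfl⟩ := QuotientGroup.mk'_surjective R q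
    by_cases hx : x ∈ R
    · exact Or.inl ((QuotientGroup.eq_one_iff x).2 hx)
    right
    have hmem : aP ∈ R ⊔ zpowers x := by
      by_contra hno
      exact hx (hRmax.2 hno le_sup_left (mem_sup_right (mem_zpowers x)))
    obtain ⟨m, hm, z, hz, hmz⟩ := mem_sup.1 hmem
    obtain ⟨i, rfl⟩ := mem_zpowers_iff.1 hz
    rw [hτmk, ← hmz, map_mul, show QuotientGroup.mk' R m = 1 from (QuotientGroup.eq_one_iff m).2 hm, one_mul]
    rcases Int.even_or_odd i with ⟨j, rfl⟩ | ⟨j, rfl⟩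
    · exfalso
      rw [← two_mul, zpow_mul, zpow_two, hPsq x, one_zpow, mul_one] at hmz
      exact hRmax.1 (hmz ▸ hm)
    · rw [zpow_add, zpow_mul, zpow_two, hPsq x, one_zpow, one_mul, zpow_one]
  set E' := τ.ker with hE'
  have hLτ : ∀ x : C, (x : K) ∈ L → x ∈ E' := by
    intro x hx
    rw [hE', MonoidHom.mem_ker]
    let f : L →* (P : Subgroup C) ⧸ R := τ.comp (inclusion hLC)
    rcases (inferInstance : f.ker.Normal).eq_bot_or_eq_top with hb | ht
    · refine (hLnc ⟨⟨fun u v => (MonoidHom.ker_eq_bot_iff f).1 hb ?_⟩⟩).elim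
      rw [map_mul, map_mul, mul_comm]
    · exact MonoidHom.mem_ker.1 (ht.symm ▸ mem_top (⟨(x : K), hx⟩ : L) : (⟨(x : K), hx⟩ : L) ∈ f.ker)
  refine ⟨a, E'.map C.subtype, L, hoa, ⟨zpowers_le.2 haC, map_subtype_le _, ?_, ?_, ?_⟩, ?_, ?_, ?_,
    F, i1, i2, hodd, h3, ⟨e⟩⟩
  · intro x hx y hy
    obtain ⟨i, rfl⟩ := mem_zpowers_iff.1 hx
    exact ((Commute.zpow_left (mem_centralizer_singleton_iff.1 (map_subtype_le _ hy) : y * a = a * y).symm) i).eq
  · refine eq_bot_iff.2 fun x hx => ?_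
    obtain ⟨hx1, hx2⟩ := mem_inf.1 hx
    obtain ⟨y, hy, rfl⟩ := mem_map.1 hx2
    rcases (Walter8.mem_sup_cases ha2 (mem_sup_right hx1 :
      (C.subtype y) ∈ ClosedAbelian.core (Walter8.cen a) ⊔ zpowers a)) with h' | ⟨o, ho, he⟩
    · rw [hcore a ha ha1] at h'
      exact h'
    · rw [hcore a ha ha1, mem_bot] at ho
      rw [ho, one_mul] at he
      refine absurd ?_ hτa
      rw [show (⟨a, haC⟩ : C) = y from Subtype.ext he.symm]
      exact hy
  · refine le_antisymm (sup_le (zpowers_le.2 haC) (map_subtype_le _)) fun g hg => ?_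
    rcases hsmall (τ ⟨g, hg⟩) with h | h
    · exact mem_sup_right ⟨⟨g, hg⟩, h, rfl⟩
    · have hker' : (⟨a, haC⟩ : C) * ⟨g, hg⟩ ∈ E' := by
        rw [hE', MonoidHom.mem_ker, map_mul, h, ← map_mul,
          show (⟨a, haC⟩ : C) * ⟨a, haC⟩ = 1 from Subtype.ext ha2, map_one]
      have hm := mul_mem (mem_sup_left (mem_zpowers a) : a ∈ zpowers a ⊔ E'.map C.subtype)
        (mem_sup_right ⟨_, hker', rfl⟩ : (C.subtype (⟨a, haC⟩ * ⟨g, hg⟩) : K) ∈ zpowers a ⊔ E'.map C.subtype)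
      rwa [show a * (C.subtype (⟨a, haC⟩ * ⟨g, hg⟩) : K) = g by
        show a * (a * g) = g
        rw [← mul_assoc, ha2, one_mul]] at hm
  · exact fun x hx => mem_map.2 ⟨⟨x, hLC hx⟩, hLτ _ hx, rfl⟩
  · exact normal_subgroupOf_iff (fun x hx => mem_map.2 ⟨⟨x, hLC hx⟩, hLτ _ hx, rfl⟩) |>.2 fun l g hl hg =>
      (mem_normalizer_iff.1 (hCN (map_subtype_le _ hg)) l).1 hl
  · refine eq_bot_iff.2 fun x hx => ?_
    obtain ⟨hx1, hx2⟩ := mem_inf.1 hx
    obtain ⟨y, hy, rfl⟩ := mem_map.1 hx1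
    obtain ⟨i, hi⟩ := mem_zpowers_iff.1 (hcen _ y.2 fun l hl => by
      have hc : (y : K) * l = l * y := (mem_centralizer_iff.1 hx2 l hl).symm
      rw [mem_bot, hc, mul_inv_cancel_right, mul_inv_cancel])
    rw [mem_bot]
    rcases Int.even_or_odd i with ⟨j, rfl⟩ | ⟨j, rfl⟩
    · show (y : K) = 1
      rw [← hi, ← two_mul, zpow_mul, zpow_two, ha2, one_zpow]
    · refine absurd ?_ hτa
      have e1 : (y : K) = a := by rw [← hi, zpow_add, zpow_mul, zpow_two, ha2, one_zpow, one_mul, zpow_one]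
      rw [show (⟨a, haC⟩ : C) = y from Subtype.ext e1.symm]
      exact hy

end Cfsg.Agent.Walter4
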