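import Cfsg.Agent.Lib.Walter4.Assembly
import Cfsg.Agent.Lib.Walter4.Shape
import Cfsg.Prelude.Def_Spor_J1

/-!
Simple groups all of whose Sylow subgroups are abelian.
-/

set_option autoImplicit false

namespace Cfsg.Agent.Walter4

universe u

/-- In a group of Ree–Janko type with all Sylow subgroups abelian the field has five elements. -/
def RJAbelianStmt : Prop :=
  ∀ (G : Type u) [Group G] [Finite G], IsSimpleGroup G → ¬ IsMulCommutative G → RJType G →
    (∀ p : ℕ, p.Prime → ∀ P : Sylow p G, IsMulCommutative P) → Cfsg.Spor.IsoJ1 G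

/-- The simple groups with all Sylow subgroups abelian. -/
theorem all_abelian_cases (hW : GoodStmt.{u}) (hRJ : RJAbelianStmt.{u}) {G : Type u} [Group G] [Finite G]
    [IsSimpleGroup G] (hna : ¬ IsMulCommutative G)
    (hA : ∀ (p : ℕ), p.Prime → ∀ (P : Sylow p G), IsMulCommutative ↥P) :
    Cfsg.Spor.IsoJ1 G ∨
      ∃ (F : Type) (_ : Field F) (_ : Fintype F), 3 < Fintype.card F ∧
        (Fintype.card F % 8 = 0 ∨ Fintype.card F % 8 = 3 ∨ Fintype.card F % 8 = 5) ∧
        Nonempty (G ≃* Matrix.ProjectiveSpecialLinearGroup (Fin 2) F) := by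
  rcases hW G inferInstance hna fun P => hA 2 Nat.prime_two P with h | h
  · exact Or.inr h.exists_mod_eight
  · exact Or.inl (hRJ G inferInstance hna h hA)

end Cfsg.Agent.Walter4
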