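import Cfsg.Agent.Lib.Walter4.Functor

/-!
The facts provided by the signalizer functor.
-/

set_option autoImplicit false
set_option linter.style.haveILetI false
set_option linter.unusedSectionVars false

namespace Cfsg.Agent.Walter4

open Subgroup
open scoped commutatorElement

universe u

variable {G : Type u} [Group G] [Finite G]

/-- Products with respect to a subgroup of index 2. -/
theorem mul_mem_hyperplane {H A : Subgroup G} (hHA : H ≤ A) (hc : Nat.card H * 2 = Nat.card A)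
    {a b : G} (ha : a ∈ A) (haH : a ∉ H) (hb : b ∈ A) (hbH : b ∉ H) : a * b ∈ H := by
  have h2 : (H.subgroupOf A).index = 2 := by
    have := (H.subgroupOf A).card_mul_index
    rw [Nat.card_congr (subgroupOfEquivOfLe hHA).toEquiv, ← hc] at this
    exact Nat.eq_of_mul_eq_mul_left Nat.card_pos this
  have := (Subgroup.mul_mem_iff_of_index_two h2 (a := ⟨a, ha⟩) (b := ⟨b, hb⟩)).2
    ⟨fun h => absurd (mem_subgroupOf.1 h) haH, fun h => absurd (mem_subgroupOf.1 h) hbH⟩
  exact mem_subgroupOf.1 this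

/-- An element inverted by an element of `V` lies in `[K, V]` for every subgroup `K` containing it. -/
theorem mem_commutator_of_inverted {K V : Subgroup G} {x s : G} (hx : x ∈ K) (hs : s ∈ V)
    (hsx : s * x * s⁻¹ = x⁻¹) (ho : Odd (orderOf x)) : x ∈ ⁅K, V⁆ := by
  have h1 : x * x ∈ ⁅K, V⁆ := by
    have h2 := commutator_mem_commutator hx hs
    have e : x * x = ⁅x, s⁆ := by
      have hi : s * x⁻¹ * s⁻¹ = x := by
        have := congrArg (fun y => y⁻¹) hsx
        simpa [mul_assoc] using this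
      rw [commutatorElement_def]
      conv_lhs => arg 2; rw [← hi]
      group
    rwa [e]
  obtain ⟨k, hk⟩ := ho
  have he : x = (x * x) ^ (k + 1) := by
    rw [← pow_two, ← pow_mul, show 2 * (k + 1) = orderOf x + 1 by omega, pow_succ,
      pow_orderOf_eq_one, one_mul]
  rw [he]
  exact pow_mem h1 _

variable {A : Subgroup G} (D : Blocks A)

namespace Blocks

/-- An element centralising a hyperplane `H` and inverted outside lies in `theta d`. -/
theorem inv_mem_theta (hA : Cfsg.IsElementaryAbelian 2 A) (hD : D.Local) {B₁ H : Subgroup G}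
    (hB₁ : B₁ ≤ A) (hB₁0 : B₁ ≠ ⊥) {d : G} (hd : d ∈ B₁) (hd1 : d ≠ 1) {x : G}
    (hxB : x ∈ cor B₁) (hxH : x ∈ cenS H) (hinv : ∀ s ∈ A, s ∉ H → s * x * s⁻¹ = x⁻¹)
    (hcond : ∀ l, (l ∈ D.F ∨ ∀ b, B₁ ≠ zpowers b) → B₁ ≤ D.rest l ∨ ∃ s ∈ D.rest l, s ∉ H) : x ∈ D.theta d := by
  have hopt : ∀ B l, D.Hard B B₁ l → B₁ ≤ D.rest l ∨
      (∃ B₂ ≤ D.rest l, B₂ ≠ ⊥ ∧ x ∈ cor B₂) ∨ ∃ s ∈ D.rest l, s * x * s⁻¹ = x⁻¹ := fun B l hl =>
    (hcond l (hl.imp And.left And.right)).imp id fun ⟨s, hs, hsH⟩ =>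
      Or.inr ⟨s, hs, hinv s (D.rest_le l hs) hsH⟩
  have hd' : x ∈ cenS (zpowers d) := centralizer_le (zpowers_le.2 hd : zpowers d ≤ B₁) (cor_le B₁ hxB)
  have hxd : x ∈ ocen d := by
    rw [← cor_zpowers]
    exact D.bal_of hA hD _ (zpowers_le.2 (hB₁ hd)) (zpowers_ne_bot' hd1) B₁ hB₁ hB₁0 x hxB hd'
      (hopt _)
  refine mem_inf.2 ⟨hxd, Subgroup.mem_iInf.2 fun V => ?_⟩
  by_cases hVH : (V : Subgroup G) ≤ H
  · have hV0 : (V : Subgroup G) ≠ ⊥ := fun h => by
      have := V.2.four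
      rw [h, Subgroup.card_bot] at this
      omega
    exact mem_sup_right (mem_inf.2 ⟨hxd, D.bal_of hA hD _ V.2.le hV0 B₁ hB₁ hB₁0 x hxB
      (centralizer_le hVH hxH) (hopt _)⟩)
  · obtain ⟨s, hsV, hsH⟩ := SetLike.not_le_iff_exists.1 hVH
    exact mem_sup_left (mem_commutator_of_inverted hxd hsV (hinv s (V.2.le hsV) hsH)
      (orderOf_odd_of_cor hxB))

/-- `C(H) ∩ O(C(B₁))` is in `theta d` up to `C(A)`. -/
theorem hyperplane_piece (hA : Cfsg.IsElementaryAbelian 2 A) (hD : D.Local) {B₁ H : Subgroup G}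
    (hB₁ : B₁ ≤ A) (hB₁0 : B₁ ≠ ⊥) {d : G} (hd : d ∈ B₁) (hd1 : d ≠ 1) (hHA : H ≤ A)
    (hc : Nat.card H * 2 = Nat.card A)
    (hcond : ∀ l, (l ∈ D.F ∨ ∀ b, B₁ ≠ zpowers b) → B₁ ≤ D.rest l ∨ ∃ s ∈ D.rest l, s ∉ H) :
    ∀ x ∈ cor B₁ ⊓ cenS H, ∃ y ∈ D.theta d, ∃ r ∈ cor B₁ ⊓ cenS H, r ∈ cenS A ∧ y * r = x := by
  intro x hx
  set X := cor B₁ ⊓ cenS H
  have hAX : A ≤ normalizer (X : Set G) :=
    (_root_.le_inf ((ea_le_cenS hA hB₁).trans (cor_normalized B₁))
      ((ea_le_cenS hA hHA).trans le_normalizer)).trans inf_normalizer_le_normalizer_inf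
  obtain ⟨y, hy, r, hr, he⟩ := CoprimeAct.exists_commutator_mul hAX
    ((ea_cop hA le_rfl (cor_coprime B₁)).coprime_dvd_right (card_dvd_of_le inf_le_left))
    (Or.inl (ea_solvable hA le_rfl)) hx
  refine ⟨y, ?_, r, hr.1, hr.2, he.symm⟩
  refine (commutator_le.2 fun z hz s hs => ?_ : ⁅X, A⁆ ≤ D.theta d) hy
  by_cases hsH : s ∈ H
  · rw [commutatorElement_eq_one_iff_mul_comm.2 (mem_centralizer_iff.1 hz.2 s hsH).symm]
    exact one_mem _
  have hzc : ⁅z, s⁆ ∈ X := CoprimeAct.commutator_le_left hAX (commutator_mem_commutator hz hs)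
  refine D.inv_mem_theta hA hD hB₁ hB₁0 hd hd1 hzc.1 hzc.2 (fun t ht htH => ?_) hcond
  have hs2 : s * s = 1 := by rw [← pow_two]; exact hA.2 s hs
  have hsi : s⁻¹ = s := inv_eq_of_mul_eq_one_right hs2
  have hts := mul_mem_hyperplane hHA hc ht htH hs hsH
  have h1 : s * ⁅z, s⁆ * s⁻¹ = ⁅z, s⁆⁻¹ := by
    rw [commutatorElement_inv, commutatorElement_def, commutatorElement_def, hsi]
    simp only [mul_assoc, hs2, mul_one]
  calc t * ⁅z, s⁆ * t⁻¹ = (t * s) * (s * ⁅z, s⁆ * s⁻¹) * (t * s)⁻¹ := by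
        simp only [hsi, mul_inv_rev, mul_assoc]
        simp only [← mul_assoc, hs2, one_mul]
    _ = ⁅z, s⁆⁻¹ := by
      rw [h1, mem_centralizer_iff.1 ((cenS H).inv_mem hzc.2) _ hts, mul_inv_cancel_right]

theorem map_theta_le {g : G} (hg : g ∈ normalizer (A : Set G)) (a : G) :
    (D.theta a).map (MulAut.conj g).toMonoidHom ≤ D.theta (g * a * g⁻¹) := by
  refine _root_.le_inf ((map_mono inf_le_left).trans (map_ocen g a).le) (le_iInf fun V => ?_)
  have hV' : D.IsV ((V : Subgroup G).map (MulAut.conj g⁻¹).toMonoidHom) := D.map_isV (inv_mem hg) V.2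
  have e : (((V : Subgroup G).map (MulAut.conj g⁻¹).toMonoidHom)).map (MulAut.conj g).toMonoidHom = V := by
    rw [Subgroup.map_map]
    convert (Subgroup.map_id (V : Subgroup G)) using 2
    ext x
    simp [mul_assoc]
  refine (map_mono (D.theta_le_factor hV' a)).trans ?_
  show (_ ⊔ _ : Subgroup G).map _ ≤ _
  rw [Subgroup.map_sup, Subgroup.map_commutator, map_ocen,
    Subgroup.map_inf _ _ _ (MulAut.conj g).injective, map_ocen, map_cor, e]
  exact le_rfl

theorem api {S : Sylow 2 G} (hS : Setting S A) (hD : D.Local) : D.Api := by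
  haveI : Fact (Nat.Prime 2) := ⟨Nat.prime_two⟩
  have hA := hS.ea
  have h4 : 2 ^ 2 ≤ Nat.card A := by have := hS.big; omega
  have hodd : ∀ X : Subgroup G, ∀ a, X ≤ ocen a → ¬ 2 ∣ Nat.card X := fun X a hX h2 =>
    Nat.prime_two.not_dvd_one (((ocen_coprime a).coprime_dvd_left (card_dvd_of_le hX)) ▸
      Nat.dvd_gcd h2 dvd_rfl)
  refine ⟨?_, ?_, ?_, ?_, D.bal_of hA hD, ?_⟩
  · obtain ⟨hm, hW⟩ := Signalizer.SFT.iSup_props hA (by have := hS.big; omega) (D.signalizer hA hD)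
    refine ⟨_, ?_, fun g hg => ?_, fun a ha ha1 => hW a ha ha1⟩
    · exact Nat.not_even_iff_odd.1 fun he => hm.2.1 (even_iff_two_dvd.1 he)
    rw [← LEBasic.map_conj_eq_iff_mem_normalizer]
    refine eq_of_le_of_card_ge ?_ (card_map_of_injective (MulAut.conj g).injective).ge
    rw [Subgroup.map_iSup]
    refine iSup_le fun a => (D.map_theta_le hg a).trans ?_
    refine le_iSup (fun b : {b : G // b ∈ A ∧ b ≠ 1} => D.theta (b : G))
      ⟨g * a * g⁻¹, (mem_normalizer_iff.1 hg (a : G)).1 a.2.1, fun h => a.2.2 ?_⟩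
    simpa using h
  · intro W hW hNW hWθ B hB hB4 k hk hkθ
    rw [← LEBasic.map_conj_eq_iff_mem_normalizer]
    refine eq_of_le_of_card_ge ?_ (card_map_of_injective (MulAut.conj k).injective).ge
    rw [map_le_iff_le_comap]
    refine Signalizer.le_of_centralizer_le (p := 2) (Signalizer.ea_mono hA hB) (by omega)
      ((hB.trans le_normalizer).trans hNW) (fun h2 => Nat.not_even_iff_odd.2 hW (even_iff_two_dvd.2 h2))
      fun b hb hb1 => ?_
    intro x hx
    rw [mem_comap]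
    show k * x * k⁻¹ ∈ W
    have hxθ : x ∈ D.theta b := (hWθ b (hB hb) hb1).le hx
    exact ((hWθ b (hB hb) hb1).ge ((mem_normalizer_iff.1 (hkθ b hb hb1) x).1 hxθ)).1
  · intro b hb hb1 hbF
    refine le_antisymm (D.theta_le_ocen b) (_root_.le_inf le_rfl (le_iInf fun V => ?_))
    intro x hx
    obtain ⟨d, hd, r, hr, rfl⟩ := CoprimeAct.exists_commutator_mul
      (V.2.le.trans (le_normalizer_ocen hA hb)) (ea_cop hA V.2.le (ocen_coprime b))
      (Or.inl (ea_solvable hA V.2.le)) hx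
    refine mul_mem (mem_sup_left hd) (mem_sup_right (mem_inf.2 ⟨hr.1, ?_⟩))
    refine D.bal_of hA hD _ V.2.le (fun h => ?_) (zpowers b) (zpowers_le.2 hb) (zpowers_ne_bot' hb1) r
      ((cor_zpowers b).symm ▸ hr.1) hr.2 fun l hl => Or.inl (zpowers_le.2 (hbF l (D.mem_F_of_hard hl)))
    have := V.2.four
    rw [h, Subgroup.card_bot] at this
    omega
  · intro a ha ha1
    refine Signalizer.le_of_hyperplane_le hA h4 (le_normalizer_ocen hA ha)
      (hodd _ a le_rfl) fun H hHA hc => ?_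
    by_cases hcase : ∃ l ∈ D.F, D.rest l ≤ H
    · obtain ⟨l, hl, hle⟩ := hcase
      exact le_sup_of_le_right (le_iSup_of_le (⟨l, hl⟩ : {l // l ∈ D.F})
        (inf_le_inf_left _ (centralizer_le hle)))
    push Not at hcase
    intro x hx
    obtain ⟨y, hy, r, hr, hrA, rfl⟩ := D.hyperplane_piece hA hD (zpowers_le.2 ha) (zpowers_ne_bot' ha1)
      (mem_zpowers a) ha1 hHA hc (fun l hl => Or.inr (SetLike.not_le_iff_exists.1
          (hcase l (hl.resolve_right fun h => h a rfl)))) x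
      ⟨(cor_zpowers a).symm ▸ hx.1, hx.2⟩
    exact mul_mem (mem_sup_left (mem_sup_left hy))
      (mem_sup_left (mem_sup_right ⟨cor_zpowers a ▸ hr.1, hrA⟩))
  · intro hθ T hT
    set B := ⨆ i : T, D.U i
    have hBA : B ≤ A := iSup_le fun i => D.U_le i
    obtain ⟨i₀, hi₀⟩ := hT
    have hi₀B : D.U i₀ ≤ B := le_iSup (fun i : T => D.U i) ⟨i₀, hi₀⟩
    have hB0 : B ≠ ⊥ := fun h => D.U_ne_bot i₀ (le_bot_iff.1 (h ▸ hi₀B))
    refine Signalizer.le_of_hyperplane_le hA h4 ((ea_le_cenS hA hBA).trans (cor_normalized B))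
      (fun h2 => Nat.prime_two.not_dvd_one ((cor_coprime B) ▸ Nat.dvd_gcd h2 dvd_rfl))
      fun H hHA hc => ?_
    by_cases hBH : B ≤ H
    · obtain ⟨d, hd, hd1⟩ := B.bot_or_exists_ne_one.resolve_left hB0
      intro x hx
      have hAH : ¬ A ≤ H := fun h => by
        have := Subgroup.card_le_of_le h
        have : 0 < Nat.card H := Nat.card_pos
        omega
      obtain ⟨y, hy, r, -, hrA, rfl⟩ := D.hyperplane_piece hA hD hBA hB0 hd hd1 hHA hc (fun l _ => by
        by_cases hl' : D.rest l ≤ H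
        · refine Or.inl (iSup_le fun i => D.U_le_rest fun hil => hAH ?_)
          exact (D.sup_rest l).ge.trans (sup_le (hil ▸ (le_iSup (fun i : T => D.U i) i).trans hBH) hl')
        · exact Or.inr (SetLike.not_le_iff_exists.1 hl')) x hx
      rw [hθ d (hBA hd) hd1, mem_bot] at hy
      rw [hy, one_mul]
      exact hrA
    · obtain ⟨b, hb, hbH⟩ := SetLike.not_le_iff_exists.1 hBH
      intro x hx
      refine mem_centralizer_iff.2 fun a haA => ?_
      by_cases haH : a ∈ H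
      · exact mem_centralizer_iff.1 hx.2 a haH
      have hab := mem_centralizer_iff.1 hx.2 _ (mul_mem_hyperplane hHA hc haA haH (hBA hb) hbH)
      have hxb := mem_centralizer_iff.1 (cor_le B hx.1) b hb
      have hb2 : b * b = 1 := by rw [← pow_two]; exact hA.2 b (hBA hb)
      calc a * x = a * b * (b * x) := by rw [mul_assoc, ← mul_assoc b, hb2, one_mul]
        _ = a * b * x * b := by rw [hxb, ← mul_assoc]
        _ = x * (a * b) * b := by rw [hab]
        _ = x * a := by rw [mul_assoc, mul_assoc, hb2, mul_one]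

end Blocks

end Cfsg.Agent.Walter4
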