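import Cfsg.Agent.Lib.Walter4.KindTools
import Cfsg.Agent.Lib.Walter8.Socle
import Cfsg.Agent.Lib.Walter8.Climb
import Cfsg.Agent.Lib.PiTwo.PSLTwo

/-!
The facts on the known simple groups with abelian Sylow 2-subgroups.
-/

set_option autoImplicit false
set_option linter.style.haveILetI false
set_option linter.unusedSectionVars false

namespace Cfsg.Agent.Walter4.KindPf

open Subgroup Matrix
open scoped Pointwise

universe u

variable {K : Type u} [Group K] [Finite K]

theorem exists_conj_sylow (P : Sylow 2 K) {W : Subgroup K} (hW : IsPGroup 2 W) (hidx : ¬ 2 ∣ W.index) :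
    ∃ g : K, ∀ x, x ∈ (P : Subgroup K) ↔ g * x * g⁻¹ ∈ W := by
  haveI : Fact (Nat.Prime 2) := ⟨Nat.prime_two⟩
  obtain ⟨g, hg⟩ := MulAction.exists_smul_eq K P (hW.toSylow hidx)
  refine ⟨g, fun x => ?_⟩
  have h1 : g * x * g⁻¹ ∈ ((g • P : Sylow 2 K) : Subgroup K) ↔ x ∈ (P : Subgroup K) := by
    rw [Sylow.coe_subgroup_smul, mem_pointwise_smul_iff_inv_smul_mem,
      MulAut.smul_def, MulAut.conj_inv_apply, show g⁻¹ * (g * x * g⁻¹) * g = x by group]
  rw [hg, IsPGroup.toSylow_coe] at h1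
  exact h1.symm

theorem card_cen_map {L : Type*} [Group L] (f : K ≃* L) (x : K) :
    Nat.card (centralizer ({f x} : Set L)) = Nat.card (centralizer ({x} : Set K)) :=
  (Nat.card_congr (f.toEquiv.subtypeEquiv fun y => by
    rw [mem_centralizer_singleton_iff, mem_centralizer_singleton_iff]
    simp only [MulEquiv.toEquiv_eq_coe, EquivLike.coe_coe, ← map_mul, EquivLike.apply_eq_iff_eq])).symm

theorem conj_eq_one [IsSimpleGroup K] (hnc : ¬ IsMulCommutative K) (y : K) (h : MulAut.conj y = 1) : y = 1 := by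
  have hy : y ∈ center K := mem_center_iff.2 fun z => by
    have h1 := DFunLike.congr_fun h z
    rw [MulAut.conj_apply, MulAut.one_apply, mul_inv_eq_iff_eq_mul] at h1
    exact h1.symm
  rcases IsSimpleGroup.eq_bot_or_eq_top_of_normal (center K) inferInstance with hb | ht
  · rwa [hb, mem_bot] at hy
  · exact absurd ⟨⟨fun a b => mem_center_iff.1 (ht ▸ mem_top b) a⟩⟩ hnc

section OddQ

variable {F : Type} [Field F] [Fintype F]

local notation "L" => Matrix.ProjectiveSpecialLinearGroup (Fin 2) F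

/-- An element of odd order centralising a four-group of `PSL₂(q)`, `q` odd, is trivial. -/
theorem klein_cent (h2 : (2 : F) ≠ 0) {u v z : L} (hu : u * u = 1) (hu1 : u ≠ 1) (hv : v * v = 1) (hv1 : v ≠ 1)
    (huv : v ≠ u) (hc : u * v = v * u) (hzu : z * u = u * z) (hzv : z * v = v * z) (hzo : Odd (orderOf z)) :
    z = 1 := by
  obtain ⟨c, hcu⟩ := isConj_iff.1 (PSL2Inv.isConj_pr_w h2 hu hu1).symm
  set v' := c * v * c⁻¹ with hv'
  set z' := c * z * c⁻¹ with hz'
  suffices h1 : z' = 1 by exact conj_eq_one_iff.1 (hz' ▸ h1)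
  have hz'o : Odd (orderOf z') := by rw [hz', Invol.order_conj]; exact hzo
  have hv'2 : v' * v' = 1 := by
    rw [hv', show c * v * c⁻¹ * (c * v * c⁻¹) = c * (v * v) * c⁻¹ by group, hv, mul_one, mul_inv_cancel]
  have hz'w : z' * PSL2Inv.pr SL2Inv.w = PSL2Inv.pr SL2Inv.w * z' := by
    rw [← hcu, hz', show c * z * c⁻¹ * (c * u * c⁻¹) = c * (z * u) * c⁻¹ by group, hzu]; group
  have hv'w : v' * PSL2Inv.pr SL2Inv.w = PSL2Inv.pr SL2Inv.w * v' := by
    rw [← hcu, hv', show c * v * c⁻¹ * (c * u * c⁻¹) = c * (v * u) * c⁻¹ by group, ← hc]; group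
  have hz'v : z' * v' = v' * z' := by
    rw [hz', hv', show c * z * c⁻¹ * (c * v * c⁻¹) = c * (z * v) * c⁻¹ by group, hzv]; group
  obtain ⟨g, hgtr, hg⟩ := PSL2Inv.exists_lift h2 hv'2 fun e => hv1 (conj_eq_one_iff.1 (hv' ▸ e))
  have hgD : g ∈ (PSL2Inv.D : Subgroup (SpecialLinearGroup (Fin 2) F)) :=
    mem_centralizer_singleton_iff.2 (by rw [hg]; exact hv'w)
  have hganti : PSL2Inv.Anti g := by
    rcases PSL2Inv.mem_D.1 hgD with h | h
    · exfalso
      obtain ⟨e1, e2⟩ := PSL2Inv.C_entries (SL2Inv.mem_C.2 h)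
      rw [Matrix.trace_fin_two, e1, ← two_mul, mul_eq_zero, or_iff_right h2] at hgtr
      have hdet := g.2
      rw [Matrix.det_fin_two, e1, e2, hgtr] at hdet
      have hgw : v' = PSL2Inv.pr SL2Inv.w := by
        rw [← hg, PSL2Inv.pr_eq_iff]
        rcases sq_eq_one_iff.1 (show g.1 1 0 ^ 2 = 1 by linear_combination hdet) with e | e
        · left; apply Subtype.ext; ext i j
          fin_cases i <;> fin_cases j <;> simp [SL2Inv.w, hgtr, e1, e2, e]
        · right; apply Subtype.ext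
          rw [Matrix.SpecialLinearGroup.coe_mul, SL2Inv.coe_negOne]
          ext i j
          fin_cases i <;> fin_cases j <;> simp [SL2Inv.w, hgtr, e1, e2, e]
      exact huv (mul_left_cancel (mul_right_cancel (hgw.trans hcu.symm : c * v * c⁻¹ = c * u * c⁻¹)))
    · exact ⟨hgtr, h⟩
  obtain ⟨y, hy⟩ := PSL2Inv.pr_surjective z'
  have hyD : y ∈ (PSL2Inv.D : Subgroup (SpecialLinearGroup (Fin 2) F)) :=
    mem_centralizer_singleton_iff.2 (by rw [hy]; exact hz'w)
  refine eq_one_of_odd_sq ?_ hz'o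
  rcases PSL2Inv.D_dichotomy hganti hyD with h | h
  · have h1 := congrArg PSL2Inv.pr (hganti.conj_C h)
    rw [map_mul, map_mul, map_inv, map_inv, hg, hy, ← hz'v, mul_inv_cancel_right] at h1
    exact mul_eq_one_iff_eq_inv.2 h1
  · have h1 := hganti.mul_C h
    rw [mul_inv_cancel_left] at h1
    rw [← hy]
    exact PSL2Inv.pr_mul_self h1.1

theorem card_psl (h8 : Fintype.card F % 8 = 3 ∨ Fintype.card F % 8 = 5) :
    ∃ m : ℕ, Odd m ∧ Nat.card L = 4 * m ∧ 2 * (4 * m) = Fintype.card F * (Fintype.card F - 1) * (Fintype.card F + 1) := by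
  have h2 := Walter8.two_ne_zero_of_odd (F := F) (by rw [Nat.odd_iff]; omega)
  have h := SL2Inv.card_sl2 (F := F)
  rw [PSL2Inv.card_sl_eq h2, Nat.card_eq_fintype_card (α := F)] at h
  obtain ⟨k, hk⟩ : ∃ k, Fintype.card F = 8 * k + 3 ∨ Fintype.card F = 8 * k + 5 :=
    ⟨Fintype.card F / 8, by omega⟩
  rcases hk with hk | hk <;> rw [hk] at h ⊢
  · rw [show 8 * k + 3 - 1 = 8 * k + 2 by omega] at h ⊢
    have h' : Nat.card L = 4 * ((8 * k + 3) * (4 * k + 1) * (2 * k + 1)) := by
      refine Nat.eq_of_mul_eq_mul_left (show 0 < 2 by norm_num) (h.trans ?_); ring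
    refine ⟨_, ?_, h', by ring⟩
    exact ((by rw [Nat.odd_iff]; omega : Odd (8 * k + 3)).mul (by rw [Nat.odd_iff]; omega)).mul
      (by rw [Nat.odd_iff]; omega)
  · rw [show 8 * k + 5 - 1 = 8 * k + 4 by omega] at h ⊢
    have h' : Nat.card L = 4 * ((8 * k + 5) * (2 * k + 1) * (4 * k + 3)) := by
      refine Nat.eq_of_mul_eq_mul_left (show 0 < 2 by norm_num) (h.trans ?_); ring
    refine ⟨_, ?_, h', by ring⟩
    exact ((by rw [Nat.odd_iff]; omega : Odd (8 * k + 5)).mul (by rw [Nat.odd_iff]; omega)).mul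
      (by rw [Nat.odd_iff]; omega)

theorem facts_odd (hsimp : IsSimpleGroup K) (h8 : Fintype.card F % 8 = 3 ∨ Fintype.card F % 8 = 5)
    (h5 : 5 ≤ Fintype.card F) (f : K ≃* L) (P : Sylow 2 K) : KindFacts K (P : Subgroup K) := by
  classical
  haveI : Fact (Nat.Prime 2) := ⟨Nat.prime_two⟩
  have hodd : Odd (Fintype.card F) := by rw [Nat.odd_iff]; omega
  have h2 := Walter8.two_ne_zero_of_odd hodd
  haveI : IsSimpleGroup L :=
    Matrix.ProjectiveSpecialLinearGroup.rank_two_simple (by rw [Nat.card_eq_fintype_card]; omega)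
  have hnc : ¬ IsMulCommutative K := fun hc => Walter8.not_comm_psl hodd ⟨⟨fun a b => f.symm.injective (by
    rw [map_mul, map_mul, hc.is_comm.comm])⟩⟩
  obtain ⟨m, hm, hcL, hm2⟩ := card_psl h8
  have hcK : Nat.card K = 4 * m := by rw [Nat.card_congr f.toEquiv, hcL]
  obtain ⟨j, hj⟩ := PSL2Inv.exists_anti h2
  haveI := PSL2Inv.isKleinFour_W h2 hj
  set W := (PSL2Inv.W j hj).map f.symm.toMonoidHom with hW
  have hWc : Nat.card W = 4 := by
    rw [hW, card_map_of_injective f.symm.injective]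
    exact IsKleinFour.card_four
  have hWsq : ∀ w ∈ W, w * w = 1 := by
    rintro _ ⟨w, hw, rfl⟩
    rw [← map_mul, FourGroup.mul_self_of_mem ‹_› hw, map_one]
  have hidx : ¬ 2 ∣ W.index := by
    have h1 := W.card_mul_index
    rw [hWc, hcK] at h1
    rw [Nat.eq_of_mul_eq_mul_left (by norm_num) h1]
    exact Nat.two_dvd_ne_zero.2 (Nat.odd_iff.1 hm)
  obtain ⟨g, hg⟩ := exists_conj_sylow P (IsPGroup.of_card (n := 2) (by rw [hWc]; rfl)) hidx
  have hPc : Nat.card (P : Subgroup K) = 4 := by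
    rw [← hWc]
    exact Nat.card_congr ((MulAut.conj g).toEquiv.subtypeEquiv fun x => hg x)
  have hsq : ∀ x ∈ (P : Subgroup K), x * x = 1 := fun x hx => by
    have h1 := hWsq _ ((hg x).1 hx)
    rw [show g * x * g⁻¹ * (g * x * g⁻¹) = g * (x * x) * g⁻¹ by group] at h1
    exact conj_eq_one_iff.1 h1
  haveI hPcomm : IsMulCommutative (P : Subgroup K) :=
    ⟨⟨fun a b => Subtype.ext (comm_of_sq hsq a.2 b.2)⟩⟩
  have hord : ∀ x ∈ (P : Subgroup K), x ≠ 1 → f x * f x = 1 ∧ f x ≠ 1 := fun x hx hx1 =>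
    ⟨by rw [← map_mul, hsq x hx, map_one], fun e => hx1 (f.injective (e.trans (map_one f).symm))⟩
  have htr : ∀ x ∈ (P : Subgroup K), x ≠ 1 → ∀ y ∈ (P : Subgroup K), y ≠ 1 →
      ∃ g ∈ normalizer ((P : Subgroup K) : Set K), g * x * g⁻¹ = y := by
    intro x hx hx1 y hy hy1
    obtain ⟨c, hc⟩ := isConj_iff.1 ((PSL2Inv.isConj_pr_w h2 (hord x hx hx1).1 (hord x hx hx1).2).symm.trans
      (PSL2Inv.isConj_pr_w h2 (hord y hy hy1).1 (hord y hy hy1).2))
    have hc' : f.symm c * x * (f.symm c)⁻¹ = y := f.injective (by simp [hc])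
    obtain ⟨n, hn, he⟩ := P.conj_eq_normalizer_conj_of_mem x (f.symm c)⁻¹ hx (by rw [inv_inv, hc']; exact hy)
    refine ⟨n⁻¹, inv_mem hn, ?_⟩
    rw [inv_inv] at he ⊢
    rw [← he, hc']
  obtain ⟨h, hh, hreg⟩ := exists_reg Nat.prime_three hPc htr
  refine ⟨hsq, hPc.ge, reg_of_cycle hh hreg, ?_⟩
  by_cases hz : ∃ x ∈ (P : Subgroup K), x ≠ 1 ∧ ∃ z : K, Odd (orderOf z) ∧ z ≠ 1 ∧ z * x = x * z
  · refine Or.inr ⟨hPc, fun M hC hN => ?_⟩
    obtain ⟨x, hx, hx1, z, hzo, hz1, hzx⟩ := hz
    by_contra hne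
    have hzM := hC x hx hx1 (mem_centralizer_singleton_iff.2 hzx)
    have hnorm : ∀ y ∈ (P : Subgroup K), z * y * z⁻¹ ∈ (P : Subgroup K) := fun y hy =>
      conj_mem_of_contains P hsq hPc.ge hne hC hN hzM hy
    obtain ⟨v, hv, hv1, hvx⟩ := two_le_of_four hPc.ge x
    have hz2 : z * z * v = v * (z * z) := by
      have hall : ∀ y ∈ (P : Subgroup K), y = 1 ∨ y = x ∨ y = v ∨ y = x * v := by
        intro y hy
        have hxv : x * v ≠ 1 := fun e => hvx (by
          rw [← inv_eq_of_mul_eq_one_right (hsq x hx)]; exact eq_inv_of_mul_eq_one_right e)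
        have hsub : ({1, x, v, x * v} : Set K) ⊆ ((P : Subgroup K) : Set K) := by
          rintro w (rfl | rfl | rfl | rfl)
          exacts [one_mem _, hx, hv, mul_mem hx hv]
        have hcard : ({1, x, v, x * v} : Set K).ncard = 4 := by
          rw [Set.ncard_insert_of_notMem (by simp [Ne.symm hx1, Ne.symm hv1, Ne.symm hxv]),
            Set.ncard_insert_of_notMem (by simp [Ne.symm hvx, hv1]), Set.ncard_pair (by simp [hx1])]
        have heq := Set.eq_of_subset_of_ncard_le hsub (by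
          rw [hcard, ← Nat.card_coe_set_eq]; exact hPc.le) (Set.toFinite _)
        have : y ∈ ({1, x, v, x * v} : Set K) := heq ▸ hy
        simpa using this
      have hfx : z * x * z⁻¹ = x := by rw [hzx, mul_inv_cancel_right]
      rcases hall _ (hnorm v hv) with e | e | e | e
      · exact absurd (conj_eq_one_iff.1 e) hv1
      · exact absurd (mul_left_cancel (mul_right_cancel (e.trans hfx.symm))) hvx
      · have := mul_inv_eq_iff_eq_mul.1 e
        rw [mul_assoc, this, ← mul_assoc, this, mul_assoc]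
      · refine mul_inv_eq_iff_eq_mul.1 ?_
        rw [show z * z * v * (z * z)⁻¹ = z * (z * v * z⁻¹) * z⁻¹ by group, e,
          show z * (x * v) * z⁻¹ = z * x * z⁻¹ * (z * v * z⁻¹) by group, e, hfx, ← mul_assoc, hsq x hx, one_mul]
    have hzv : z * v = v * z := by
      obtain ⟨k, hk⟩ := hzo
      have e4 : z = (z * z) ^ (k + 1) := by
        rw [← pow_two, ← pow_mul, show 2 * (k + 1) = orderOf z + 1 by omega, pow_succ,
          pow_orderOf_eq_one, one_mul]
      rw [e4]
      exact ((show Commute (z * z) v from hz2).pow_left _).eq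
    refine hz1 (f.injective ((klein_cent h2 (hord x hx hx1).1 (hord x hx hx1).2 (hord v hv hv1).1 (hord v hv hv1).2
      (fun e => hvx (f.injective e)) ?_ ?_ ?_ ?_).trans (map_one f).symm))
    · rw [← map_mul, ← map_mul, comm_of_sq hsq hx hv]
    · rw [← map_mul, ← map_mul, hzx]
    · rw [← map_mul, ← map_mul, hzv]
    · rwa [MulEquiv.orderOf_eq]
  · push Not at hz
    left
    have hcen : ∀ x ∈ (P : Subgroup K), x ≠ 1 → centralizer ({x} : Set K) = P := by
      intro x hx hx1
      have hle : (P : Subgroup K) ≤ centralizer ({x} : Set K) := fun y hy =>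
        mem_centralizer_singleton_iff.2 (comm_of_sq hsq hy hx)
      refine (P.is_maximal' (fun y => ?_) hle)
      obtain ⟨u, w, huw, hu, hw, ⟨k, hk⟩, hwo⟩ := PBasic.exists_pPart_mul (p := 2) (y : K)
      have hw1 : w = 1 := by
        by_contra hw1
        obtain ⟨i, rfl⟩ := mem_zpowers_iff.1 hw
        exact hz x hx hx1 _ (Nat.coprime_two_left.1 hwo.symm) hw1
          ((show Commute (y : K) x from mem_centralizer_singleton_iff.1 y.2).zpow_left i).eq
      refine ⟨k, Subtype.ext ?_⟩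
      rw [SubmonoidClass.coe_pow, Subgroup.coe_one, ← huw, hw1, mul_one, ← hk, pow_orderOf_eq_one]
    obtain ⟨x, hx, hx1, -⟩ := two_le_of_four hPc.ge 1
    have hq5 : Fintype.card F = 5 := by
      obtain ⟨c, hc⟩ := isConj_iff.1 (PSL2Inv.isConj_pr_w h2 (hord x hx hx1).1 (hord x hx hx1).2).symm
      have h1 := card_cen_map (f.trans (MulAut.conj c)) x
      rw [show (f.trans (MulAut.conj c)) x = PSL2Inv.pr SL2Inv.w from hc, PSL2Inv.card_centralizer h2,
        SL2Inv.card_C h2, hcen x hx hx1, hPc, Nat.card_eq_fintype_card (α := F)] at h1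
      split_ifs at h1 <;> omega
    refine balanced_small hnc P hsq hPc.ge (fun x hx hx1 => (hcen x hx hx1).le) hh hreg ?_ (conj_eq_one hnc)
    rw [hPc, hcK]
    rw [hq5] at hm2
    omega

end OddQ

section EvenQ

variable {F : Type} [Field F] [Fintype F]

open PiTwo.PSLTwo in
theorem facts_even (hsimp : IsSimpleGroup K) {n : ℕ} (hn : 2 ≤ n) (hq : Fintype.card F = 2 ^ n)
    (f : K ≃* Matrix.ProjectiveSpecialLinearGroup (Fin 2) F) (P : Sylow 2 K) :
    KindFacts K (P : Subgroup K) := by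
  classical
  haveI : Fact (Nat.Prime 2) := ⟨Nat.prime_two⟩
  have h2 : (2 : F) = 0 := by
    have h1 : ((Fintype.card F : ℕ) : F) = 0 := Nat.cast_card_eq_zero F
    rw [hq, Nat.cast_pow, Nat.cast_ofNat] at h1
    exact (pow_eq_zero_iff (by omega)).1 h1
  have hq4 : 4 ≤ Fintype.card F := by
    rw [hq]; exact le_trans (by norm_num) (Nat.pow_le_pow_right (by norm_num) hn)
  have hsqinj : ∀ a b : F, a * a = b * b → a = b := by
    intro a b hab
    have h1 : (a - b) * (a - b) = 0 := by linear_combination hab + (b * b - a * b) * h2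
    exact sub_eq_zero.1 (mul_self_eq_zero.1 h1)
  have hcen : Subgroup.center (SL F) = ⊥ := by
    refine (eq_bot_iff_forall _).2 fun A hA => ?_
    obtain ⟨r, hr, hrA⟩ := Matrix.SpecialLinearGroup.mem_center_iff.1 hA
    rw [Fintype.card_fin] at hr
    have hr1 : r = 1 := hsqinj r 1 (by rw [← pow_two, hr, one_mul])
    exact Subtype.ext (by rw [← hrA, hr1, map_one]; rfl)
  set pr := QuotientGroup.mk' (Subgroup.center (SL F)) with hpr
  have hprinj : Function.Injective pr := by
    rw [← MonoidHom.ker_eq_bot_iff, hpr, QuotientGroup.ker_mk', hcen]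
  have hcL : Nat.card K = Fintype.card F * (Fintype.card F - 1) * (Fintype.card F + 1) := by
    rw [Nat.card_congr f.toEquiv, ← Nat.card_congr (Equiv.ofBijective pr ⟨hprinj, QuotientGroup.mk'_surjective _⟩),
      SL2Inv.card_sl2, Nat.card_eq_fintype_card]
  -- the root group
  have huinj : Function.Injective (uHom F) := fun a b h => by
    have h1 : uMat a.toAdd = uMat b.toAdd := hprinj h
    exact congrFun (congrFun (congrArg Subtype.val h1) 0) 1
  set W := ((uHom F).range).map f.symm.toMonoidHom with hW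
  have hWc : Nat.card W = Fintype.card F := by
    rw [hW, card_map_of_injective f.symm.injective, ← Nat.card_congr (MonoidHom.ofInjective huinj).toEquiv,
      Nat.card_congr Multiplicative.toAdd, Nat.card_eq_fintype_card]
  have hidx : ¬ 2 ∣ W.index := by
    have h1 := W.card_mul_index
    rw [hWc, hcL, mul_assoc] at h1
    rw [Nat.eq_of_mul_eq_mul_left (by omega) h1]
    have he : 2 ∣ Fintype.card F := hq ▸ dvd_pow_self 2 (by omega)
    intro hd
    rcases (Nat.Prime.dvd_mul Nat.prime_two).1 hd with h3 | h3 <;> omega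
  obtain ⟨g, hg⟩ := exists_conj_sylow P (IsPGroup.of_card (n := n) (by rw [hWc, hq])) hidx
  set e : K ≃* Matrix.ProjectiveSpecialLinearGroup (Fin 2) F := (MulAut.conj g).trans f with he
  have hP : ∀ x, x ∈ (P : Subgroup K) ↔ e x ∈ (uHom F).range := fun x => by
    rw [hg x, hW, Subgroup.mem_map_equiv]
    simp [he]
  have hPc : Nat.card (P : Subgroup K) = Fintype.card F := by
    rw [← hWc]
    exact Nat.card_congr ((MulAut.conj g).toEquiv.subtypeEquiv fun x => hg x)
  have hsq : ∀ x ∈ (P : Subgroup K), x * x = 1 := fun x hx => by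
    obtain ⟨b, hb⟩ := (hP x).1 hx
    refine e.injective ?_
    rw [map_mul, ← hb, ← map_mul, map_one]
    have : b * b = 1 := Multiplicative.toAdd.injective (show b.toAdd + b.toAdd = 0 by linear_combination b.toAdd * h2)
    rw [this, map_one]
  have hnc : ¬ IsMulCommutative K := fun hc => by
    letI : CommGroup K := { (inferInstance : Group K) with mul_comm := hc.is_comm.comm }
    have hp := IsSimpleGroup.prime_card (α := K)
    have h4 : 4 ≤ Nat.card K := hPc ▸ le_trans hq4 le_rfl |>.trans (card_le_card_group _)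
    have h22 : 2 ∣ Nat.card K :=
      (dvd_pow_self 2 (by omega : n ≠ 0)).trans (hq ▸ hPc ▸ card_subgroup_dvd_card (P : Subgroup K))
    rw [← (Nat.prime_dvd_prime_iff_eq Nat.prime_two hp).1 h22] at h4
    omega
  -- the torus
  obtain ⟨a, ha⟩ := IsCyclic.exists_generator (α := Fˣ)
  set h := e.symm (dHom F a) with hh
  have hconj : ∀ (i : ℕ) (x : K) (b : F), e x = uHom F (Multiplicative.ofAdd b) →
      e (h ^ i * x * (h ^ i)⁻¹) = uHom F (Multiplicative.ofAdd ((((a ^ i : Fˣ) : F) * (a ^ i : Fˣ)) * b)) := by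
    intro i x b hb
    rw [map_mul, map_mul, map_inv, map_pow, hh, MulEquiv.apply_symm_apply, hb, ← map_pow,
      mul_inv_eq_iff_eq_mul]
    show pr (dMat (a ^ i)) * pr (uMat b) = pr (uMat _) * pr (dMat (a ^ i))
    rw [← map_mul, dMat_conj_u, ← map_mul]
    rfl
  have hhN : h ∈ normalizer ((P : Subgroup K) : Set K) := SEBrick.mem_normalizer_of fun x hx => by
    obtain ⟨b, hb⟩ := (hP x).1 hx
    have h1 := hconj 1 x b.toAdd hb.symm
    rw [pow_one] at h1
    exact (hP _).2 ⟨_, h1.symm⟩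
  have hreg : ∀ x ∈ (P : Subgroup K), x ≠ 1 → ∀ y ∈ (P : Subgroup K), y ≠ 1 →
      ∃ i : ℕ, h ^ i * x * (h ^ i)⁻¹ = y := by
    intro x hx hx1 y hy hy1
    obtain ⟨b, hb⟩ := (hP x).1 hx
    obtain ⟨d, hd⟩ := (hP y).1 hy
    have hb0 : b.toAdd ≠ 0 := fun h0 => hx1 (e.injective (by
      rw [← hb, map_one, show b = 1 from Multiplicative.toAdd.injective h0, map_one]))
    have hd0 : d.toAdd ≠ 0 := fun h0 => hy1 (e.injective (by
      rw [← hd, map_one, show d = 1 from Multiplicative.toAdd.injective h0, map_one]))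
    obtain ⟨r, hr⟩ := (Finite.injective_iff_surjective.1 (fun a b => hsqinj a b) : Function.Surjective fun r : F => r * r)
      (d.toAdd / b.toAdd)
    have hr0 : r ≠ 0 := fun h0 => by
      exact div_ne_zero hd0 hb0 (by rw [← hr, h0]; exact mul_zero 0)
    obtain ⟨i, hi⟩ := (mem_powers_iff_mem_zpowers.2 (ha (Units.mk0 r hr0)))
    refine ⟨i, e.injective ?_⟩
    rw [hconj i x b.toAdd hb.symm, ← hd]
    refine congrArg (uHom F) ?_
    have hi' : ((a ^ i : Fˣ) : F) = r := by rw [show a ^ i = Units.mk0 r hr0 from hi]; rfl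
    rw [hi', show r * r = d.toAdd / b.toAdd from hr, div_mul_cancel₀ _ hb0]
    rfl
  have hC : ∀ x ∈ (P : Subgroup K), x ≠ 1 → centralizer ({x} : Set K) ≤ P := by
    intro x hx hx1 y hy
    obtain ⟨b, hb⟩ := (hP x).1 hx
    have hb0 : b.toAdd ≠ 0 := fun h0 => hx1 (e.injective (by
      rw [← hb, map_one, show b = 1 from Multiplicative.toAdd.injective h0, map_one]))
    obtain ⟨A, hA⟩ := QuotientGroup.mk'_surjective _ (e y)
    refine (hP y).2 ⟨Multiplicative.ofAdd (A.1 0 1), ?_⟩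
    have hcomm : A * uMat b.toAdd = uMat b.toAdd * A := hprinj (by
      rw [map_mul, map_mul]
      show pr A * uHom F b = uHom F b * pr A
      rw [hA, hb, ← map_mul, ← map_mul, mem_centralizer_singleton_iff.1 hy])
    have hm := congrArg Subtype.val hcomm
    rw [Matrix.SpecialLinearGroup.coe_mul, Matrix.SpecialLinearGroup.coe_mul] at hm
    have e00 := congrFun (congrFun hm 0) 0
    have e01 := congrFun (congrFun hm 0) 1
    simp [uMat, Matrix.mul_apply, Fin.sum_univ_two] at e00 e01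
    have hc0 : A.1 1 0 = 0 := e00.resolve_left hb0
    have had : A.1 1 1 = A.1 0 0 := by
      refine mul_left_cancel₀ hb0 ?_
      linear_combination -e01
    have hdet := A.2
    rw [Matrix.det_fin_two, hc0, had, mul_zero, sub_zero] at hdet
    have ha1 : A.1 0 0 = 1 := hsqinj _ 1 (by rw [hdet, one_mul])
    rw [← hA]
    refine congrArg pr (Subtype.ext ?_)
    rw [Matrix.eta_fin_two A.1, hc0, had, ha1]
    rfl
  refine ⟨hsq, hPc ▸ hq4, reg_of_cycle hhN hreg, Or.inl ?_⟩
  refine balanced_small hnc P hsq (hPc ▸ hq4) hC hhN hreg (le_of_eq ?_) (conj_eq_one hnc)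
  rw [hPc, hcL, mul_assoc]
  obtain ⟨r, hr⟩ : ∃ r, Fintype.card F = r + 1 := ⟨Fintype.card F - 1, by omega⟩
  rw [hr, show (r + 1) ^ 2 = r * (r + 2) + 1 by ring, Nat.add_sub_cancel, Nat.add_sub_cancel]

end EvenQ

section RJ

open Walter8 (cen Eight LType)
open ClosedAbelian (core)

/-- Balance is invariant under conjugation. -/
theorem balanced_conj {P Q : Subgroup K} {g : K} (h : ∀ x, x ∈ P ↔ g * x * g⁻¹ ∈ Q) (hQ : BalancedAt K Q) :
    BalancedAt K P := by
  intro R hRo e he he1 hfix hinv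
  set θ := MulAut.conj (MulAut.conj g : MulAut K) with hθ
  have hR : R.map θ.toMonoidHom = ⊥ := by
    refine hQ _ (by rwa [card_map_of_injective θ.injective]) _ ((h e).1 he)
      (fun h1 => he1 (conj_eq_one_iff.1 h1)) ?_ ?_
    · rintro _ ⟨φ, hφ, rfl⟩
      show MulAut.conj g (φ ((MulAut.conj g)⁻¹ (g * e * g⁻¹))) = _
      rw [MulAut.conj_inv_apply, show g⁻¹ * (g * e * g⁻¹) * g = e by group, hfix φ hφ, MulAut.conj_apply]
    · rintro c hc _ ⟨φ, hφ, rfl⟩
      refine ⟨MulAut.conj (g⁻¹ * c * g) * φ * (MulAut.conj (g⁻¹ * c * g))⁻¹, hinv _ ?_ φ hφ, ?_⟩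
      · calc g⁻¹ * c * g * e = g⁻¹ * (c * (g * e * g⁻¹)) * g := by group
          _ = g⁻¹ * (g * e * g⁻¹ * c) * g := by rw [hc]
          _ = e * (g⁻¹ * c * g) := by group
      · show θ _ = _ * θ φ * _
        rw [hθ]
        simp only [MulAut.conj_apply, map_mul, map_inv]
        group
  rwa [Subgroup.map_eq_bot_iff_of_injective _ θ.injective] at hR

/-- In a group of type Ree–Janko: an element of the normaliser of the Sylow subgroup moving it, fixing a given
involution and commuting with the odd centraliser of the Sylow subgroup. -/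
theorem exists_mover {S : Subgroup K} (hE : Eight S) (hL : LType S) {a : K} (ha : a ∈ S) (ha1 : a ≠ 1)
    (hcore : core (cen a) = ⊥) :
    ∃ y ∈ normalizer (S : Set K), y * a = a * y ∧ (∃ s ∈ S, y * s * y⁻¹ ≠ s) ∧
      ∀ c : K, (∀ s ∈ S, c * s = s * c) → Odd (orderOf c) → c * y = y * c := by
  obtain ⟨Y, _, _, Lb, π, hM⟩ := hL.exists_mod hE ha ha1
  have haa := hE.sq a ha
  have hker : ∀ x : cen a, π x = 1 → (x : K) = 1 ∨ (x : K) = a := by
    intro x hx
    have h1 := (hM.ker x).1 hx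
    rw [hcore, bot_sup_eq] at h1
    exact Walter8.zpowers_two haa h1
  obtain ⟨v, hv, hv1⟩ := SESolv.IsFour.exists_ne (hM.img_isFour hE ha)
  obtain ⟨w, hw, hw1, hwv⟩ := two_le_of_four (hM.img_card hE ha).ge v
  obtain ⟨n, hnL, hnN, hne⟩ := hM.exists_move hE ha hv hv1 hw hw1
  obtain ⟨y, rfl⟩ := hM.surj n
  have hyN : (y : K) ∈ normalizer (S : Set K) := SEBrick.mem_normalizer_of fun s hs => by
    have h1 := SEBrick.conj_mem_of hnN (Walter8.mem_img (π := π) hs (hE.mem_cen ha hs))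
    obtain ⟨s', hs', he⟩ := h1
    have h2 : π ((y * ⟨s, hE.mem_cen ha hs⟩ * y⁻¹) * s'⁻¹) = 1 := by
      rw [map_mul, map_inv, he, map_mul, map_mul, map_inv, mul_inv_cancel]
    have hS' : (s' : K) ∈ S := hs'
    rcases hker _ h2 with h3 | h3
    · simp only [Subgroup.coe_mul, Subgroup.coe_inv] at h3
      rw [mul_inv_eq_one.1 h3]; exact hS'
    · simp only [Subgroup.coe_mul, Subgroup.coe_inv] at h3
      rw [mul_inv_eq_iff_eq_mul.1 h3]; exact mul_mem ha hS'
  refine ⟨y, hyN, mem_centralizer_singleton_iff.1 y.2, ?_, ?_⟩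
  · by_contra hno
    push Not at hno
    obtain ⟨s, hs, rfl⟩ := hv
    refine hwv ?_
    rw [← hne, ← map_inv, ← map_mul, ← map_mul]
    exact congrArg π (Subtype.ext (hno s hs))
  · intro c hc hco
    set c' : cen a := ⟨c, mem_centralizer_singleton_iff.2 (hc a ha)⟩
    have hpc : ∀ x ∈ Walter8.img S π, π c' * x = x * π c' := by
      rintro _ ⟨x, hx, rfl⟩
      rw [← map_mul, ← map_mul, show c' * x = x * c' from Subtype.ext (hc x hx)]
    have hvo := Invol.order_two_of_sq (hM.img_sq hE hv) hv1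
    have hwo := Invol.order_two_of_sq (hM.img_sq hE hw) hw1
    have hcl : (Subgroup.closure {v, w} : Subgroup Y) = Walter8.img S π := by
      refine eq_of_le_of_card_ge ((closure_le _).2 (by rintro x (rfl | rfl) <;> assumption)) ?_
      rw [hM.img_card hE ha]
      have hvw : v * w ≠ 1 := fun e => hwv (by
        rw [← inv_eq_of_mul_eq_one_right (hM.img_sq hE hv)]; exact eq_inv_of_mul_eq_one_right e)
      have hsub : ({1, v, w, v * w} : Set Y) ⊆ (Subgroup.closure {v, w} : Subgroup Y) := by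
        rintro x (rfl | rfl | rfl | rfl)
        exacts [one_mem _, subset_closure (Set.mem_insert _ _), subset_closure (Or.inr rfl),
          mul_mem (subset_closure (Set.mem_insert _ _)) (subset_closure (Or.inr rfl))]
      have hcard : ({1, v, w, v * w} : Set Y).ncard = 4 := by
        rw [Set.ncard_insert_of_notMem (by simp [Ne.symm hv1, Ne.symm hw1, Ne.symm hvw]),
          Set.ncard_insert_of_notMem (by simp [Ne.symm hwv, hw1]), Set.ncard_pair (by simp [hv1])]
      have := Set.ncard_le_ncard hsub (Set.toFinite _)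
      rw [hcard, ← Nat.card_coe_set_eq] at this
      exact this
    have h1 : π c' * π y = π y * π c' := hM.facts.klein_norm v w (π c') (π y) (hM.img_le hE hv) (hM.img_le hE hw)
      hvo hwo (Ne.symm hwv) (hM.img_comm hE hv hw)
      (hco.of_dvd_nat ((orderOf_map_dvd π c').trans (by rw [Subgroup.orderOf_mk])))
      (hpc v hv) (hpc w hw) hnL (by rw [hcl]; exact hnN)
    have h2 : π (c' * y * c'⁻¹ * y⁻¹) = 1 := by
      rw [map_mul, map_mul, map_mul, map_inv, map_inv, h1]; group
    have hcc : c * c * (y : K) = y * (c * c) := by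
      rcases hker _ h2 with h3 | h3 <;> simp only [Subgroup.coe_mul, Subgroup.coe_inv] at h3 <;>
        change c * (y : K) * c⁻¹ * (y : K)⁻¹ = _ at h3
      · rw [mul_inv_eq_one, mul_inv_eq_iff_eq_mul] at h3
        rw [mul_assoc, h3, ← mul_assoc, h3, mul_assoc]
      · rw [mul_inv_eq_iff_eq_mul] at h3
        refine mul_inv_eq_iff_eq_mul.1 ?_
        rw [show c * c * (y : K) * (c * c)⁻¹ = c * (c * y * c⁻¹) * c⁻¹ by group, h3,
          show c * (a * y) * c⁻¹ = c * a * c⁻¹ * (c * y * c⁻¹) by group, h3, hc a ha, mul_inv_cancel_right,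
          ← mul_assoc, haa, one_mul]
    obtain ⟨k, hk⟩ := hco
    have e4 : c = (c * c) ^ (k + 1) := by
      rw [← pow_two, ← pow_mul, show 2 * (k + 1) = orderOf c + 1 by omega, pow_succ,
        pow_orderOf_eq_one, one_mul]
    rw [e4]
    exact ((show Commute (c * c) (y : K) from hcc).pow_left _).eq

/-- The Ree–Janko type is balanced. -/
theorem balanced_rj [IsSimpleGroup K] (S : Sylow 2 K) (hE : Eight (S : Subgroup K)) (hL : LType (S : Subgroup K))
    (hcore : ∀ a ∈ (S : Subgroup K), a ≠ 1 → core (cen a) = ⊥) : BalancedAt K (S : Subgroup K) := by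
  classical
  intro R hRo e he he1 hfix hinv
  obtain ⟨Y, _, _, Lb, π, hM⟩ := hL.exists_mod hE he he1
  haveI := hM.facts.normal
  haveI := hM.facts.simple
  have hnc : ¬ IsMulCommutative K := fun hc => hM.facts.noncomm ⟨⟨fun a b => Subtype.ext (by
    obtain ⟨x, hx⟩ := hM.surj a
    obtain ⟨y, hy⟩ := hM.surj b
    show (a : Y) * b = b * a
    rw [← hx, ← hy, ← map_mul, ← map_mul, show x * y = y * x from Subtype.ext (hc.is_comm.comm _ _)])⟩⟩
  refine (eq_bot_iff_forall _).2 fun φ hφ => ?_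
  have hφo : Odd (orderOf φ) := hRo.of_dvd_nat (Subgroup.orderOf_dvd_natCard _ hφ)
  have hfixC : ∀ c : K, c * e = e * c → φ c = c := fun c hc => by
    refine fix_centraliser (conj_eq_one hnc) hRo hfix hinv (fun O hOC hOo hOn => ?_) hφ hc
    rw [eq_bot_iff, ← hcore e he he1]
    exact ClosedAbelian.le_core hOC
      (fun c hc => SEBrick.mem_normalizer_of fun y hy => hOn c hc y hy) (Nat.two_dvd_ne_zero.2 (Nat.odd_iff.1 hOo))
  set M : Subgroup K :=
    { carrier := {x | φ x = x}
      one_mem' := map_one φ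
      mul_mem' := fun {a b} (ha : φ a = a) (hb : φ b = b) => show φ (a * b) = a * b by rw [map_mul, ha, hb]
      inv_mem' := fun {a} (ha : φ a = a) => show φ a⁻¹ = a⁻¹ by rw [map_inv, ha] } with hMdef
  obtain ⟨y, hyN, hye, ⟨s₀, hs₀, hys⟩, hyc⟩ := exists_mover hE hL he he1 (hcore e he he1)
  -- the conjugates of the mover are fixed
  have hyt : ∀ h ∈ normalizer ((S : Subgroup K) : Set K), h * y * h⁻¹ ∈ M := by
    intro h hh
    obtain ⟨c, hch, hcc, hco⟩ := exists_twist _ hE.sq he hφo hfixC hh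
    show φ (h * y * h⁻¹) = h * y * h⁻¹
    rw [map_mul, map_mul, map_inv, hch, hfixC y hye]
    have h1 : h⁻¹ * c * h * y = y * (h⁻¹ * c * h) := hyc _ (fun s hs => by
      calc h⁻¹ * c * h * s = h⁻¹ * (c * (h * s * h⁻¹)) * h := by group
        _ = h⁻¹ * (h * s * h⁻¹ * c) * h := by rw [hcc _ (SEBrick.conj_mem_of hh hs)]
        _ = s * (h⁻¹ * c * h) := by group)
      (by
        rw [show h⁻¹ * c * h = h⁻¹ * c * h⁻¹⁻¹ by group, Invol.order_conj]
        exact hco)
    calc c * h * y * (c * h)⁻¹ = h * (h⁻¹ * c * h * y) * h⁻¹ * c⁻¹ := by group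
      _ = h * (y * (h⁻¹ * c * h)) * h⁻¹ * c⁻¹ := by rw [h1]
      _ = h * y * h⁻¹ := by group
  -- the normaliser is fixed
  set N := normalizer ((S : Subgroup K) : Set K) with hNdef
  let X := {x : (S : Subgroup K) // x ≠ 1}
  letI : MulAction N X :=
    { smul := fun g x => ⟨⟨(g : K) * x.1 * (g : K)⁻¹, SEBrick.conj_mem_of g.2 x.1.2⟩, fun h =>
        x.2 (Subtype.ext (conj_eq_one_iff.1 (congrArg Subtype.val h :)))⟩
      one_smul := fun x => Subtype.ext (Subtype.ext (by
        show ((1 : N) : K) * _ * _ = _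
        simp))
      mul_smul := fun g g' x => Subtype.ext (Subtype.ext (by
        show ((g * g' : N) : K) * _ * _ = (g : K) * ((g' : K) * _ * _) * _
        rw [Subgroup.coe_mul]; group)) }
  haveI : MulAction.IsPretransitive N X := ⟨fun a b => by
    obtain ⟨g, hg, he'⟩ := hE.trans _ a.1.2 (fun h => a.2 (Subtype.ext h)) _ b.1.2 (fun h => b.2 (Subtype.ext h))
    exact ⟨⟨g, hg⟩, Subtype.ext (Subtype.ext he')⟩⟩
  set x₀ : X := ⟨⟨e, he⟩, fun h => he1 (congrArg Subtype.val h :)⟩ with hx₀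
  have hSt : ∀ g : N, g ∈ MulAction.stabilizer N x₀ ↔ (g : K) * e = e * g := fun g => by
    rw [MulAction.mem_stabilizer_iff]
    refine ⟨fun h => mul_inv_eq_iff_eq_mul.1 (congrArg (fun z : X => ((z.1 : (S : Subgroup K)) : K)) h), fun h => ?_⟩
    exact Subtype.ext (Subtype.ext (mul_inv_eq_iff_eq_mul.2 h))
  have hidx : (MulAction.stabilizer N x₀).index = 7 := by
    haveI := Fintype.ofFinite ↥(S : Subgroup K)
    rw [MulAction.index_stabilizer_of_transitive, Nat.card_eq_fintype_card, Fintype.card_subtype_compl,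
      Fintype.card_subtype_eq, ← Nat.card_eq_fintype_card, hE.card]
  have hle : MulAction.stabilizer N x₀ ≤ M.subgroupOf N := fun g hg => hfixC _ ((hSt g).1 hg)
  have hN : N ≤ M := by
    rw [← subgroupOf_eq_top]
    have h7 : (M.subgroupOf N).index ∣ 7 := hidx ▸ index_dvd_of_le hle
    rcases (Nat.dvd_prime (by norm_num : (7 : ℕ).Prime)).1 h7 with h | h
    · exact index_eq_one.1 h
    exfalso
    have hMSt : M.subgroupOf N = MulAction.stabilizer N x₀ := by
      have h1 := Subgroup.relIndex_mul_index hle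
      rw [hidx, h] at h1
      exact le_antisymm (relIndex_eq_one.1 (by omega)) hle
    by_cases hs1 : s₀ = 1
    · exact hys (by rw [hs1, mul_one, mul_inv_cancel])
    obtain ⟨g, hg, hge⟩ := hE.trans _ hs₀ hs1 _ he he1
    have h2 : (⟨g * y * g⁻¹, mul_mem (mul_mem hg hyN) (inv_mem hg)⟩ : N) ∈ MulAction.stabilizer N x₀ :=
      hMSt ▸ hyt g hg
    have h3 := (hSt _).1 h2
    refine hys (mul_inv_eq_iff_eq_mul.2 ?_)
    rw [← hge] at h3
    calc y * s₀ = g⁻¹ * (g * y * g⁻¹ * (g * s₀ * g⁻¹)) * g := by group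
      _ = g⁻¹ * (g * s₀ * g⁻¹ * (g * y * g⁻¹)) * g := by rw [h3]
      _ = s₀ * y := by group
  have hC : ∀ x ∈ (S : Subgroup K), x ≠ 1 → centralizer ({x} : Set K) ≤ M := by
    intro x hx hx1 z hz
    obtain ⟨n, hn, hne⟩ := hE.trans e he he1 x hx hx1
    have h1 : n⁻¹ * z * n ∈ M := hfixC _ (by
      have hzx := mem_centralizer_singleton_iff.1 hz
      rw [← hne] at hzx
      calc n⁻¹ * z * n * e = n⁻¹ * (z * (n * e * n⁻¹)) * n := by group
        _ = n⁻¹ * (n * e * n⁻¹ * z) * n := by rw [hzx]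
        _ = e * (n⁻¹ * z * n) := by group)
    have h2' := mul_mem (mul_mem (hN hn) h1) (inv_mem (hN hn))
    rwa [show n * (n⁻¹ * z * n) * n⁻¹ = z by group] at h2'
  by_cases hne : M = ⊤
  · exact MulEquiv.ext fun x => (show φ x = x from (hne ▸ mem_top x : x ∈ M))
  exfalso
  haveI : ((S : Subgroup K).subgroupOf (cen e)).Normal := ⟨fun x hx c =>
    conj_mem_of_contains S hE.sq (by rw [hE.card]; norm_num) hne hC hN (hC e he he1 c.2) hx⟩
  haveI : (Walter8.img (S : Subgroup K) π).Normal := Subgroup.Normal.map inferInstance _ hM.surj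
  haveI : ((Walter8.img (S : Subgroup K) π).subgroupOf Lb).Normal := Normal.subgroupOf inferInstance _
  rcases IsSimpleGroup.eq_bot_or_eq_top_of_normal ((Walter8.img (S : Subgroup K) π).subgroupOf Lb) inferInstance
    with hb | ht
  · have h1 := Nat.card_congr (subgroupOfEquivOfLe (hM.img_le hE)).toEquiv
    rw [hb, card_bot, hM.img_card hE he] at h1
    omega
  · exact hM.facts.noncomm ⟨⟨fun a b => Subtype.ext (hM.img_comm hE (ht ▸ mem_top a : a ∈ _) (ht ▸ mem_top b : b ∈ _))⟩⟩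

theorem facts_rj (hsimp : IsSimpleGroup K) (hK : RJType K) (P : Sylow 2 K) : KindFacts K (P : Subgroup K) := by
  classical
  haveI : Fact (Nat.Prime 2) := ⟨Nat.prime_two⟩
  obtain ⟨-, S, hE, hL, hcore⟩ := hK
  obtain ⟨g, hg⟩ := exists_conj_sylow P S.2 S.not_dvd_index
  have hPc : Nat.card (P : Subgroup K) = 8 := by
    rw [← hE.card]
    exact Nat.card_congr ((MulAut.conj g).toEquiv.subtypeEquiv fun x => hg x)
  have hsq : ∀ x ∈ (P : Subgroup K), x * x = 1 := fun x hx => by
    have h1 := hE.sq _ ((hg x).1 hx)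
    rw [show g * x * g⁻¹ * (g * x * g⁻¹) = g * (x * x) * g⁻¹ by group] at h1
    exact conj_eq_one_iff.1 h1
  have htr : ∀ x ∈ (P : Subgroup K), x ≠ 1 → ∀ y ∈ (P : Subgroup K), y ≠ 1 →
      ∃ g ∈ normalizer ((P : Subgroup K) : Set K), g * x * g⁻¹ = y := by
    intro x hx hx1 y hy hy1
    obtain ⟨n, hn, he⟩ := hE.trans _ ((hg x).1 hx) (fun h => hx1 (conj_eq_one_iff.1 h)) _ ((hg y).1 hy)
      fun h => hy1 (conj_eq_one_iff.1 h)
    refine ⟨g⁻¹ * n * g, SEBrick.mem_normalizer_of fun z hz => (hg _).2 ?_, ?_⟩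
    · have := SEBrick.conj_mem_of hn ((hg z).1 hz)
      convert this using 1
      group
    · calc g⁻¹ * n * g * x * (g⁻¹ * n * g)⁻¹ = g⁻¹ * (n * (g * x * g⁻¹) * n⁻¹) * g := by group
        _ = y := by rw [he]; group
  obtain ⟨h, hh, hreg⟩ := exists_reg (show (7 : ℕ).Prime by norm_num) hPc htr
  exact ⟨hsq, by omega, reg_of_cycle hh hreg, Or.inl (balanced_conj hg (balanced_rj S hE hL hcore))⟩

end RJ

end Cfsg.Agent.Walter4.KindPf

namespace Cfsg.Agent.Walter4

universe u

open KindPf in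
/-- The facts hold for every group in the list. -/
theorem kindStmt : KindStmt.{u} := by
  intro K _ _ hs hG P
  rcases hG with ⟨F, _, _, hq, ⟨f⟩⟩ | h
  · rcases hq with ⟨h8, h5⟩ | ⟨n, hn, hq⟩
    · exact facts_odd hs h8 h5 f P
    · exact facts_even hs hn hq f P
  · exact facts_rj hs h P

end Cfsg.Agent.Walter4
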