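import Cfsg.Agent.Lib.Walter4.Quot

/-!
Inverted elements of subgroups of odd order, and the conjugation invariance of the subgroups in the
definition of the functor.
-/

set_option autoImplicit false
set_option linter.style.haveILetI false
set_option linter.unusedSectionVars false

namespace Cfsg.Agent.Walter4

open Subgroup
open scoped commutatorElement

universe u

variable {G : Type u} [Group G] [Finite G]

theorem cenS_zpowers (a : G) : cenS (zpowers a) = cen a := by
  rw [cenS, cen, zpowers_eq_closure, centralizer_closure]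

theorem cenS_anti {B B' : Subgroup G} (h : B ≤ B') : cenS B' ≤ cenS B :=
  centralizer_le (show (B : Set G) ⊆ B' from h)

theorem cenS_le_normalizer_cor (B : Subgroup G) : cenS B ≤ normalizer (cor B : Set G) := by
  intro g hg
  have h : (⟨g, hg⟩ : ↥(cenS B)) ∈ normalizer (Cfsg.pPrimeCore 2 ↥(cenS B) : Set ↥(cenS B)) :=
    le_normalizer_of_normal (K := ⊤) (mem_top _)
  exact le_normalizer_map (cenS B).subtype ⟨_, h, rfl⟩

theorem cen_le_normalizer_ocen (a : G) : cen a ≤ normalizer (ocen a : Set G) := by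
  rw [← cenS_zpowers, ← cor_zpowers]
  exact cenS_le_normalizer_cor _

theorem odd_of_mem_cor {B : Subgroup G} {x : G} (hx : x ∈ cor B) : Odd (orderOf x) := by
  obtain ⟨y, hy, rfl⟩ := hx
  have h : (Nat.card (Cfsg.pPrimeCore 2 ↥(cenS B))).Coprime 2 := FittingCores.pPrimeCore_coprime 2
  refine Odd.of_dvd_nat (Nat.coprime_two_right.1 h) ?_
  rw [show (cenS B).subtype y = ((y : cenS B) : G) from rfl, orderOf_coe]
  exact (orderOf_coe (⟨y, hy⟩ : Cfsg.pPrimeCore 2 ↥(cenS B))).symm ▸ orderOf_dvd_natCard _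

theorem mem_zpowers_sq {x : G} (h : Odd (orderOf x)) : x ∈ zpowers (x * x) := by
  obtain ⟨m, hm⟩ := h
  refine mem_zpowers_iff.2 ⟨((m + 1 : ℕ) : ℤ), ?_⟩
  rw [zpow_natCast, ← pow_two, ← pow_mul, show 2 * (m + 1) = orderOf x + 1 by omega, pow_succ,
    pow_orderOf_eq_one, one_mul]

theorem mem_normalizer_of_forall {k : G} {H : Subgroup G} (h : ∀ q ∈ H, k * q * k⁻¹ ∈ H) :
    k ∈ normalizer (H : Set G) := by
  rw [mem_normalizer_iff_map_conj_eq]
  refine eq_of_le_of_card_ge ?_ (card_map_of_injective (MulAut.conj k).injective).ge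
  rintro _ ⟨q, hq, rfl⟩
  exact h q hq

/-- An element normalising two subgroups normalises their commutator. -/
theorem mem_normalizer_commutator {k : G} {H K : Subgroup G} (hH : k ∈ normalizer (H : Set G))
    (hK : k ∈ normalizer (K : Set G)) : k ∈ normalizer ((⁅H, K⁆ : Subgroup G) : Set G) := by
  rw [mem_normalizer_iff_map_conj_eq] at hH hK ⊢
  rw [map_commutator, hH, hK]

theorem cenS_le_normalizer (V : Subgroup G) : cenS V ≤ normalizer (V : Set G) := by
  intro g hg
  rw [mem_normalizer_iff]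
  intro x
  constructor
  · intro hx
    rwa [← mem_centralizer_iff.1 hg x hx, mul_inv_cancel_right]
  · intro hx
    have h := mem_centralizer_iff.1 hg _ hx
    rw [inv_mul_cancel_right] at h
    rwa [← mul_left_cancel h] at hx

/-- An element of `C(V)` normalising `O(C(a))` normalises the factor at `V`. -/
theorem mem_normalizer_factor {k a : G} {V : Subgroup G} (ha : k ∈ normalizer (ocen a : Set G))
    (hk : k ∈ cenS V) : k ∈ normalizer (Blocks.factor V a : Set G) :=
  normalizer_inf_normalizer_le_normalizer_sup _ _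
    ⟨mem_normalizer_commutator ha (cenS_le_normalizer V hk),
      inf_normalizer_le_normalizer_inf ⟨ha, cenS_le_normalizer_cor V hk⟩⟩

/-- An element of `O(C(a))` of odd order inverted by an element of `V` lies in the factor at `V`. -/
theorem mem_factor {i a s : G} {V : Subgroup G} (hi : i ∈ ocen a) (hs : s ∈ V)
    (ho : Odd (orderOf i)) (hsi : s * i * s⁻¹ = i⁻¹) : i ∈ Blocks.factor V a := by
  have h : i * i ∈ ⁅ocen a, V⁆ := by
    have h1 := commutator_mem_commutator hi hs
    rwa [commutatorElement_def, show i * s * i⁻¹ * s⁻¹ = i * (s * i * s⁻¹)⁻¹ by group, hsi,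
      inv_inv] at h1
  exact le_sup_left (a := ⁅ocen a, V⁆) (zpowers_le.2 h (mem_zpowers_sq ho))

/-- An element of odd order normalised by an involution is a centralised element times an inverted one. -/
theorem exists_split {Q : Subgroup G} (hQ : ∀ q ∈ Q, Odd (orderOf q)) {x : G} (hx : x * x = 1)
    (hxQ : ∀ q ∈ Q, x * q * x⁻¹ ∈ Q) {q : G} (hq : q ∈ Q) :
    ∃ c ∈ Q, ∃ i ∈ Q, x * c = c * x ∧ x * i * x⁻¹ = i⁻¹ ∧ q = c * i := by
  set d := q⁻¹ * (x * q * x⁻¹) with hd
  have hdQ : d ∈ Q := mul_mem (inv_mem hq) (hxQ q hq)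
  obtain ⟨m, hm⟩ := hQ d hdQ
  have hxi : x⁻¹ = x := inv_eq_of_mul_eq_one_right hx
  have hxd : x * d * x⁻¹ = d⁻¹ := by
    rw [hd, hxi]
    calc x * (q⁻¹ * (x * q * x)) * x = x * q⁻¹ * x * q * (x * x) := by group
      _ = x * q⁻¹ * x * q := by rw [hx, mul_one]
      _ = (q⁻¹ * (x * q * x))⁻¹ := by rw [mul_inv_rev, mul_inv_rev, mul_inv_rev, hxi]; group
  set i := d ^ (m + 1) with hi
  have hii : i * i = d := by
    rw [hi, ← pow_add, show m + 1 + (m + 1) = orderOf d + 1 by omega, pow_succ, pow_orderOf_eq_one,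
      one_mul]
  have hinv : x * i * x⁻¹ = i⁻¹ := by rw [hi, ← conj_pow, hxd, inv_pow]
  have hc : x * (q * i) * x⁻¹ = q * i := by
    rw [← conj_mul, hinv, show x * q * x⁻¹ = q * d by rw [hd, mul_inv_cancel_left], ← hii]
    group
  refine ⟨q * i, mul_mem hq (pow_mem hdQ _), i⁻¹, inv_mem (pow_mem hdQ _),
    mul_inv_eq_iff_eq_mul.1 hc, ?_, by rw [mul_inv_cancel_right]⟩
  rw [← conj_inv, hinv]

/-- Generation by the elements centralised by `U` and those inverted by a member of `U`. -/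
theorem mem_of_inverted {Q U M : Subgroup G} (hQ : ∀ q ∈ Q, Odd (orderOf q))
    (hU : ∀ s ∈ U, s * s = 1) (hUc : ∀ s ∈ U, ∀ t ∈ U, s * t = t * s)
    (hUQ : ∀ s ∈ U, ∀ q ∈ Q, s * q * s⁻¹ ∈ Q)
    (hC : ∀ q ∈ Q, q ∈ cenS U → q ∈ M)
    (hI : ∀ q ∈ Q, ∀ s ∈ U, s * q * s⁻¹ = q⁻¹ → q ∈ M) : Q ≤ M := by
  classical
  haveI : Fintype U := Fintype.ofFinite U
  suffices key : ∀ T : Finset U, ∀ q ∈ Q, (∀ s : U, s ∉ T → (s : G) * q = q * s) → q ∈ M from
    fun q hq => key Finset.univ q hq fun s hs => absurd (Finset.mem_univ s) hs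
  intro T
  induction T using Finset.induction with
  | empty =>
    intro q hq h
    exact hC q hq (mem_centralizer_iff.2 fun s hs => h ⟨s, hs⟩ (Finset.notMem_empty _))
  | @insert t T ht ih =>
    intro q hq h
    -- the members of `Q` centralised outside `insert t T`
    let Q' : Subgroup G := Q ⊓ centralizer (((↑) : U → G) '' {s | s ∉ insert t T})
    have hq' : q ∈ Q' := ⟨hq, mem_centralizer_iff.2 (by rintro _ ⟨s, hs, rfl⟩; exact h s hs)⟩
    have hinv : ∀ p ∈ Q', (t : G) * p * (t : G)⁻¹ ∈ Q' := by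
      rintro p ⟨hp, hp'⟩
      refine ⟨hUQ t t.2 p hp, mem_centralizer_iff.2 ?_⟩
      rintro _ ⟨s, hs, rfl⟩
      have h1 := mem_centralizer_iff.1 hp' _ ⟨s, hs, rfl⟩
      have h2 := hUc s s.2 t t.2
      calc (s : G) * ((t : G) * p * (t : G)⁻¹) = ((s : G) * t) * p * (t : G)⁻¹ := by group
        _ = (t : G) * ((s : G) * p) * (t : G)⁻¹ := by rw [h2]; group
        _ = (t : G) * p * ((s : G) * (t : G)⁻¹) := by rw [h1]; group
        _ = (t : G) * p * (t : G)⁻¹ * s := by
          rw [hUc s s.2 _ (inv_mem t.2)]; group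
    obtain ⟨c, hc, i, hi, hcc, hii, rfl⟩ :=
      exists_split (Q := Q') (fun p hp => hQ p hp.1) (hU t t.2) hinv hq'
    refine mul_mem (ih c hc.1 fun s hs => ?_) (hI i hi.1 t t.2 hii)
    by_cases hst : s = t
    · exact hst ▸ hcc
    · exact mem_centralizer_iff.1 hc.2 _ ⟨s, fun h => hs ((Finset.mem_insert.1 h).resolve_left hst), rfl⟩

end Cfsg.Agent.Walter4
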