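import Cfsg.Agent.Lib.Walter4.Base
import Cfsg.Agent.Lib.OddDown.CoreSeparated
import Cfsg.Agent.Lib.OddChar.OddTheorem

/-!
The image of `O(C(B₁))` in `C(B) ⧸ O(C(B))` and its action on the components.
-/

set_option autoImplicit false
set_option linter.style.haveILetI false
set_option linter.unusedSectionVars false

namespace Cfsg.Agent.Walter4

open Subgroup Cfsg.Agent.Components Cfsg.Agent.BpBalance
open Cfsg.Agent.OddDown.CoreSep (q im mem_im)
open scoped commutatorElement

universe u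

attribute [local instance] FittingCores.pPrimeCore_normal

variable {G : Type u} [Group G] [Finite G]

theorem cor_le (B : Subgroup G) : cor B ≤ cenS B := map_subtype_le _

theorem cor_normalized (B : Subgroup G) : cenS B ≤ normalizer (cor B : Set G) :=
  OddDown.CoreSep.Q_normalized

theorem cor_coprime (B : Subgroup G) : (Nat.card (cor B)).Coprime 2 := by
  haveI : Fact (Nat.Prime 2) := ⟨Nat.prime_two⟩
  rw [card_map_of_injective (cenS B).subtype_injective]
  exact FittingCores.pPrimeCore_coprime 2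

theorem solvable_of_coprime {X : Type u} [Group X] [Finite X] (h : (Nat.card X).Coprime 2) :
    Group.IsSolvable X :=
  OddChar.oddSolvable X (Nat.coprime_two_left.1 h.symm)

variable {H B₁ : Subgroup G}

theorem coprime_im {X : Subgroup G} (hX : (Nat.card X).Coprime 2) : (Nat.card (im H X)).Coprime 2 := by
  refine Nat.Coprime.coprime_dvd_left (card_map_dvd _ _) ?_
  refine Nat.Coprime.coprime_dvd_left (dvd_trans (dvd_of_eq ?_)
    (card_dvd_of_le (inf_le_left : X ⊓ H ≤ _))) hX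
  rw [← inf_subgroupOf_right, Nat.card_congr (subgroupOfEquivOfLe inf_le_right).toEquiv]

/-- The image of `O(C(B₁))` centralises that of `B₁` and is normalised by its centraliser. -/
theorem cor_setting (hB₁H : B₁ ≤ H) (hB₁ : IsPGroup 2 B₁) :
    IsPGroup 2 (im H B₁) ∧
      im H (cor B₁) ≤ centralizer (im H B₁ : Set (↥H ⧸ Cfsg.pPrimeCore 2 ↥H)) ∧
      centralizer (im H B₁ : Set (↥H ⧸ Cfsg.pPrimeCore 2 ↥H)) ≤
        normalizer (im H (cor B₁) : Set (↥H ⧸ Cfsg.pPrimeCore 2 ↥H)) ∧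
      (Nat.card (im H (cor B₁))).Coprime 2 := by
  haveI : Fact (Nat.Prime 2) := ⟨Nat.prime_two⟩
  have hp : IsPGroup 2 (B₁.subgroupOf H) := hB₁.comap_of_injective H.subtype H.subtype_injective
  have hker : (Nat.card (q H).ker).Coprime 2 := by
    rw [QuotientGroup.ker_mk']
    exact FittingCores.pPrimeCore_coprime 2
  have hC := CoprimeQuotient.centralizer_map (q H) (QuotientGroup.mk'_surjective _) hker hp
  refine ⟨hp.map _, ?_, ?_, coprime_im (cor_coprime B₁)⟩
  · rw [hC]
    refine map_mono fun x hx => mem_centralizer_iff.2 fun b hb => Subtype.ext ?_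
    exact mem_centralizer_iff.1 (cor_le B₁ hx) (b : G) hb
  · rw [hC]
    refine (map_mono ?_).trans (le_normalizer_map (q H))
    intro c hc
    have hcB : (c : G) ∈ cenS B₁ := mem_centralizer_iff.2 fun b hb =>
      congrArg Subtype.val (mem_centralizer_iff.1 hc ⟨b, hB₁H hb⟩ hb)
    rw [mem_normalizer_iff]
    exact fun v => mem_normalizer_iff.1 (cor_normalized B₁ hcB) (v : G)

/-- The image of `O(C(B₁))` normalises each component. -/
theorem cor_le_normalizer_component (hB₁H : B₁ ≤ H) (hB₁ : IsPGroup 2 B₁)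
    {L : Subgroup (↥H ⧸ Cfsg.pPrimeCore 2 ↥H)} (hL : Cfsg.IsComponent L) :
    im H (cor B₁) ≤ normalizer (L : Set (↥H ⧸ Cfsg.pPrimeCore 2 ↥H)) := by
  haveI : Fact (Nat.Prime 2) := ⟨Nat.prime_two⟩
  obtain ⟨hP, h2, h3, h4⟩ := cor_setting hB₁H hB₁
  exact fun r hr => mem_fixesComponents.1
    (coprime_fixesComponents (Components.pPrimeCore_quotient ↥H) hP h2 h3 h4 hr) L hL

/-- A component centralised by `B₁` is centralised by the image of `O(C(B₁))`. -/
theorem cor_centralizes (hB₁H : B₁ ≤ H) (hB₁ : IsPGroup 2 B₁)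
    {L : Subgroup (↥H ⧸ Cfsg.pPrimeCore 2 ↥H)} (hL : Cfsg.IsComponent L)
    (hLB : L ≤ centralizer (im H B₁ : Set (↥H ⧸ Cfsg.pPrimeCore 2 ↥H))) :
    im H (cor B₁) ≤ centralizer (L : Set (↥H ⧸ Cfsg.pPrimeCore 2 ↥H)) := by
  obtain ⟨-, -, h3, h4⟩ := cor_setting hB₁H hB₁
  have hs : Group.IsSolvable (im H (cor B₁)) := solvable_of_coprime h4
  exact commutator_eq_bot_iff_le_centralizer.1
    (by rw [commutator_comm]; exact component_commute_solvable hL hs (hLB.trans h3))

/-- An element of `O(C(B₁)) ∩ H` centralising every component lies in `O(H)`. -/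
theorem mem_cor (hB₁H : B₁ ≤ H) (hB₁ : IsPGroup 2 B₁) {u : G} (hu : u ∈ cor B₁) (huH : u ∈ H)
    (hcomp : ∀ L : Subgroup (↥H ⧸ Cfsg.pPrimeCore 2 ↥H), Cfsg.IsComponent L →
      L ≤ centralizer {q H ⟨u, huH⟩}) :
    (⟨u, huH⟩ : ↥H) ∈ Cfsg.pPrimeCore 2 ↥H := by
  haveI : Fact (Nat.Prime 2) := ⟨Nat.prime_two⟩
  obtain ⟨hP, h2, h3, h4⟩ := cor_setting hB₁H hB₁
  set R := im H (cor B₁) ⊓
    centralizer (Cfsg.layer (↥H ⧸ Cfsg.pPrimeCore 2 ↥H) : Set _) with hR
  haveI := layer_normal (G := ↥H ⧸ Cfsg.pPrimeCore 2 ↥H)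
  have hn : centralizer (im H B₁ : Set (↥H ⧸ Cfsg.pPrimeCore 2 ↥H)) ≤
      normalizer (R : Set (↥H ⧸ Cfsg.pPrimeCore 2 ↥H)) :=
    (_root_.le_inf h3 le_normalizer_of_normal).trans inf_normalizer_le_normalizer_inf
  have hbot : R = ⊥ := eq_bot_of_centralizes_layer (Components.pPrimeCore_quotient ↥H) hP
    (inf_le_left.trans h2) hn (h4.coprime_dvd_left (card_dvd_of_le inf_le_left)) inf_le_right
  have hmem : q H ⟨u, huH⟩ ∈ R := ⟨mem_im hu huH, mem_centralizer_iff.2 fun l hl =>
    mem_centralizer_singleton_iff.1 (layer_le_iff.2 hcomp hl)⟩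
  rw [hbot, mem_bot] at hmem
  exact (QuotientGroup.eq_one_iff _).1 hmem

/-- An element inverted by an element centralising `L` and normalising `L` centralises it if it has odd
order. -/
theorem centralizes_of_inverted {X : Type u} [Group X] [Finite X] {L : Subgroup X} {s x : X}
    (hs : s ∈ centralizer (L : Set X)) (hx : x ∈ normalizer (L : Set X))
    (hsx : s * x * s⁻¹ = x⁻¹) (ho : Odd (orderOf x)) : x ∈ centralizer (L : Set X) := by
  have hx2 : x * x ∈ centralizer (L : Set X) := by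
    refine mem_centralizer_iff.2 fun l hl => ?_
    have h1 : s * (x * l * x⁻¹) * s⁻¹ = x * l * x⁻¹ := by
      have := mem_centralizer_iff.1 hs _ ((mem_normalizer_iff.1 hx l).1 hl)
      rw [← this, mul_inv_cancel_right]
    have h2 : s * (x * l * x⁻¹) * s⁻¹ = x⁻¹ * l * x := by
      have hl' : s * l * s⁻¹ = l := by
        rw [← mem_centralizer_iff.1 hs l hl, mul_inv_cancel_right]
      calc s * (x * l * x⁻¹) * s⁻¹ = (s * x * s⁻¹) * (s * l * s⁻¹) * (s * x * s⁻¹)⁻¹ := by group
        _ = x⁻¹ * l * x := by rw [hsx, hl', inv_inv]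
    rw [h1] at h2
    calc l * (x * x) = x * (x⁻¹ * l * x) * x := by group
      _ = x * (x * l * x⁻¹) * x := by rw [← h2]
      _ = x * x * l := by group
  obtain ⟨k, hk⟩ := ho
  have he : x = (x * x) ^ (k + 1) := by
    rw [← pow_two, ← pow_mul, show 2 * (k + 1) = orderOf x + 1 by omega, pow_succ,
      pow_orderOf_eq_one, one_mul]
  rw [he]
  exact pow_mem hx2 _

end Cfsg.Agent.Walter4
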