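import Cfsg.Agent.Lib.Walter4.BlockBasic
import Cfsg.Agent.Lib.Walter4.Quot
import Cfsg.Agent.Lib.Walter4.NontrivialTools
import Cfsg.Agent.Lib.Walter4.Endings
import Cfsg.Agent.Lib.Walter8.Local
import Cfsg.Agent.Lib.Components.Extended
import Cfsg.Agent.Lib.Components.Fitting
import Cfsg.Agent.Lib.OddDown.RealTwoPart
import Cfsg.Agent.Lib.OddChar.OddTheorem
import Cfsg.Agent.Lib.Transfer.Fusion

/-!
General facts about the setting and the blocks of an abelian Sylow 2-subgroup of rank at least four: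
fusion in `A`, the normaliser of `A` is solvable and permutes the layers, and a layer is non-trivial.
-/

set_option autoImplicit false
set_option linter.style.haveILetI false
set_option linter.unusedSectionVars false

namespace Cfsg.Agent.Walter4

open Subgroup
open scoped commutatorElement

universe u

variable {G : Type u} [Group G]

theorem le_normalizer_of_conj {H Y : Subgroup G} (h : ∀ g ∈ H, ∀ y ∈ Y, g * y * g⁻¹ ∈ Y) :
    H ≤ normalizer (Y : Set G) := by
  intro g hg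
  refine mem_normalizer_iff.2 fun y => ⟨h g hg y, fun hy => ?_⟩
  have := h g⁻¹ (inv_mem hg) _ hy
  rwa [show g⁻¹ * (g * y * g⁻¹) * g⁻¹⁻¹ = y by group] at this

/-- Conjugation carries the layer of a centraliser to that of the conjugate one. -/
theorem lay_conj [Finite G] {B B' : Subgroup G} {n : G}
    (h : ∀ g : G, g ∈ cenS B ↔ n * g * n⁻¹ ∈ cenS B') {x : G} (hx : x ∈ lay B) :
    n * x * n⁻¹ ∈ lay B' := by
  let e : ↥(cenS B) ≃* ↥(cenS B') :=
    { toFun := fun g => ⟨n * g * n⁻¹, (h g).1 g.2⟩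
      invFun := fun g => ⟨n⁻¹ * g * n, (h _).2 (by
        rw [show n * (n⁻¹ * (g : G) * n) * n⁻¹ = g by group]; exact g.2)⟩
      left_inv := fun g => Subtype.ext (show n⁻¹ * (n * (g : G) * n⁻¹) * n = g by group)
      right_inv := fun g => Subtype.ext (show n * (n⁻¹ * (g : G) * n) * n⁻¹ = g by group)
      map_mul' := fun a b => Subtype.ext
        (show n * ((a : G) * b) * n⁻¹ = (n * a * n⁻¹) * (n * b * n⁻¹) by group) }
  obtain ⟨y, hy, rfl⟩ := hx
  exact ⟨e y, Components.pLayer_map_equiv_le e ⟨y, hy, rfl⟩, rfl⟩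

namespace Setting

variable [Finite G] {S : Sylow 2 G} {A : Subgroup G} (hS : Setting S A)
include hS

theorem comm {x y : G} (hx : x ∈ (S : Subgroup G)) (hy : y ∈ (S : Subgroup G)) : x * y = y * x :=
  congrArg Subtype.val (hS.ab.is_comm.comm ⟨x, hx⟩ ⟨y, hy⟩)

theorem le : A ≤ (S : Subgroup G) := fun _ h => ((hS.mem _).1 h).1

theorem sq {a : G} (ha : a ∈ A) : a * a = 1 := ((hS.mem _).1 ha).2

theorem comm_A {a b : G} (ha : a ∈ A) (hb : b ∈ A) : a * b = b * a := hS.comm (hS.le ha) (hS.le hb)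

theorem A_le_cenS {X : Subgroup G} (hX : X ≤ A) : A ≤ cenS X := fun _ ha =>
  mem_centralizer_iff.2 fun _ hx => hS.comm_A (hX hx) ha

theorem A_le_cen {a : G} (ha : a ∈ A) : A ≤ cen a := fun _ hb =>
  mem_centralizer_singleton_iff.2 (hS.comm_A hb ha)

theorem S_le_cenA : (S : Subgroup G) ≤ cenS A := fun _ hs =>
  mem_centralizer_iff.2 fun _ ha => hS.comm (hS.le ha) hs

theorem mem_of_normalizing {n : G} (hn : n ∈ normalizer ((S : Subgroup G) : Set G)) :
    n ∈ normalizer (A : Set G) := by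
  refine le_normalizer_of_conj (fun m hm y hy => (hS.mem _).2
    ⟨(mem_normalizer_iff.1 hm y).1 (hS.le hy), ?_⟩) hn
  rw [conj_mul, hS.sq hy, mul_one, mul_inv_cancel]

/-- Conjugate elements of `A` are conjugate in `N(A)`. -/
theorem exists_conj {e b : G} (he : e ∈ A) (hb : b ∈ A) (h : IsConj e b) :
    ∃ n ∈ normalizer (A : Set G), n * e * n⁻¹ = b := by
  haveI : Fact (Nat.Prime 2) := ⟨Nat.prime_two⟩
  obtain ⟨g, hg⟩ := isConj_iff.1 h
  have hC : ∀ x ∈ A, x ∈ centralizer ((S : Subgroup G) : Set G) := fun x hx =>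
    mem_centralizer_iff.2 fun y hy => hS.comm hy (hS.le hx)
  obtain ⟨n, hn, hne⟩ := S.conj_eq_normalizer_conj_of_mem_centralizer e g⁻¹ (hC e he)
    (by rw [inv_inv, hg]; exact hC b hb)
  rw [inv_inv, hg] at hne
  exact ⟨n⁻¹, hS.mem_of_normalizing (inv_mem hn), by rw [inv_inv, ← hne]⟩

/-- An element of odd order of `N(S) ∩ C(A)` centralises `S`. -/
theorem fix_S {x : G} (hxS : x ∈ normalizer ((S : Subgroup G) : Set G)) (hxA : x ∈ cenS A)
    (hodd : Odd (orderOf x)) {y : G} (hy : y ∈ (S : Subgroup G)) : x * y = y * x := by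
  induction hn : orderOf y using Nat.strong_induction_on generalizing y with
  | _ k ih =>
    by_cases hyA : y * y = 1
    · exact (mem_centralizer_iff.1 hxA y ((hS.mem y).2 ⟨hy, hyA⟩)).symm
    haveI : Fact (Nat.Prime 2) := ⟨Nat.prime_two⟩
    obtain ⟨m, hm⟩ := IsPGroup.iff_orderOf.1 S.isPGroup' ⟨y, hy⟩
    rw [orderOf_mk] at hm
    have hy1 : y ≠ 1 := fun e => hyA (by rw [e, one_mul])
    have hm1 : 0 < m := Nat.pos_of_ne_zero fun e => hy1 (orderOf_eq_one_iff.1 (by rw [hm, e, pow_zero]))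
    have hlt : orderOf (y * y) < k := by
      rw [← hn, ← pow_two, orderOf_pow, hm, Nat.gcd_eq_right (dvd_pow_self 2 hm1.ne')]
      exact Nat.div_lt_self (by positivity) one_lt_two
    have hfix : x * (y * y) = (y * y) * x := ih _ hlt (mul_mem hy hy) rfl
    set d := x * y * x⁻¹ * y⁻¹ with hd
    have hxy : x * y * x⁻¹ ∈ (S : Subgroup G) := (mem_normalizer_iff.1 hxS y).1 hy
    have hdS : d ∈ (S : Subgroup G) := mul_mem hxy (inv_mem hy)
    have hd2 : d * d = 1 := by
      have hc : y⁻¹ * (x * y * x⁻¹) = (x * y * x⁻¹) * y⁻¹ := hS.comm (inv_mem hy) hxy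
      calc d * d = x * y * x⁻¹ * (y⁻¹ * (x * y * x⁻¹)) * y⁻¹ := by rw [hd]; group
        _ = (x * (y * y) * x⁻¹) * (y * y)⁻¹ := by rw [hc]; group
        _ = 1 := by rw [hfix, mul_inv_cancel_right, mul_inv_cancel]
    have hxd : x * d = d * x := (mem_centralizer_iff.1 hxA d ((hS.mem d).2 ⟨hdS, hd2⟩)).symm
    have hstep : x * y * x⁻¹ = d * y := by rw [hd, inv_mul_cancel_right]
    have hpow : ∀ i : ℕ, x ^ i * y * (x ^ i)⁻¹ = d ^ i * y := by
      intro i
      induction i with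
      | zero => simp
      | succ i hi =>
        rw [pow_succ', show x * x ^ i * y * (x * x ^ i)⁻¹ = x * (x ^ i * y * (x ^ i)⁻¹) * x⁻¹ by group,
          hi, show x * (d ^ i * y) * x⁻¹ = (x * d ^ i * x⁻¹) * (x * y * x⁻¹) by group, hstep,
          (Commute.pow_right (show Commute x d from hxd) i).eq, mul_inv_cancel_right, ← mul_assoc,
          ← pow_succ, pow_succ']
    obtain ⟨j, hj⟩ := hodd
    have h := hpow (orderOf x)
    rw [pow_orderOf_eq_one, hj, pow_succ, pow_mul, pow_two, hd2, one_pow, one_mul] at h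
    have hd1 : d = 1 := by
      simpa using h.symm
    rw [hd1, one_mul] at hstep
    exact mul_inv_eq_iff_eq_mul.1 hstep

theorem cenA_solvable : Group.IsSolvable ↥(cenS A) := by
  haveI : Fact (Nat.Prime 2) := ⟨Nat.prime_two⟩
  refine RealTwoPart.isSolvable_of_hasNormalPComplement OddChar.oddSolvable
    (Fusion.hasNormalPComplement_of_normalizer_le_centralizer (S.subtype hS.S_le_cenA) fun x hx => ?_)
  refine mem_centralizer_iff.2 fun y hy => Subtype.ext ?_
  have hyS : (y : G) ∈ (S : Subgroup G) := hy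
  obtain ⟨u, v, huv, hu, hv, hu2, hvo⟩ := ClosedAbelian.exists_parts (x : G)
  have hxn : (x : G) ∈ normalizer ((S : Subgroup G) : Set G) := by
    refine mem_normalizer_iff.2 fun z => ⟨fun hz => ?_, fun hz => ?_⟩
    · exact (mem_normalizer_iff.1 hx ⟨z, hS.S_le_cenA hz⟩).1 hz
    · have hzC : z ∈ cenS A := by
        simpa [mul_assoc] using mul_mem (mul_mem (inv_mem x.2) (hS.S_le_cenA hz)) x.2
      exact (mem_normalizer_iff.1 hx ⟨z, hzC⟩).2 hz
  have hmem : ∀ {w : G}, w ∈ zpowers (x : G) → w ∈ normalizer ((S : Subgroup G) : Set G) ∧ w ∈ cenS A :=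
    fun hw => ⟨(zpowers_le.2 hxn) hw, (zpowers_le.2 x.2) hw⟩
  have huS : u ∈ (S : Subgroup G) := by
    have hW : IsPGroup 2 ↥(zpowers u ⊔ (S : Subgroup G)) :=
      hu2.isPGroup.to_sup_of_normal_right' S.isPGroup' (zpowers_le.2 (hmem hu).1)
    exact (S.is_maximal' hW le_sup_right) ▸ mem_sup_left (mem_zpowers u)
  show (y : G) * (x : G) = x * y
  rw [← huv]
  exact ((show Commute (y : G) u from hS.comm hyS huS).mul_right
    (show Commute (y : G) v from (hS.fix_S (hmem hv).1 (hmem hv).2 hvo hyS).symm)).eq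

theorem normalizer_solvable : Group.IsSolvable ↥(normalizer (A : Set G)) := by
  set N := normalizer (A : Set G) with hN
  have hCN : cenS A ≤ N := centralizer_le_normalizer _
  haveI := hS.cenA_solvable
  haveI : ((cenS A).subgroupOf N).Normal :=
    (normal_subgroupOf_iff_le_normalizer hCN).2 (le_normalizer_of_conj fun g hg y hy => by
      refine mem_centralizer_iff.2 fun a ha => ?_
      have ha' : g⁻¹ * a * g ∈ A := by
        have := (mem_normalizer_iff.1 (inv_mem hg) a).1 ha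
        rwa [inv_inv] at this
      calc a * (g * y * g⁻¹) = g * ((g⁻¹ * a * g) * y) * g⁻¹ := by group
        _ = g * y * g⁻¹ * a := by rw [mem_centralizer_iff.1 hy _ ha']; group)
  have hodd : Odd (Nat.card (↥N ⧸ (cenS A).subgroupOf N)) := by
    rw [← index_eq_card, ← Nat.not_even_iff_odd, even_iff_two_dvd]
    intro h
    haveI : Fact (Nat.Prime 2) := ⟨Nat.prime_two⟩
    refine S.not_dvd_index (h.trans ?_)
    exact (relIndex_dvd_of_le_left N hS.S_le_cenA).trans
      (relIndex_dvd_index_of_le (hS.S_le_cenA.trans hCN))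
  haveI : Group.IsSolvable (↥N ⧸ (cenS A).subgroupOf N) := OddChar.oddSolvable _ hodd
  haveI : Group.IsSolvable ↥((cenS A).subgroupOf N) :=
    (Components.isSolvable_congr (subgroupOfEquivOfLe hCN)).2 inferInstance
  exact Group.isSolvable_of_ker_le_range ((cenS A).subgroupOf N).subtype
    (QuotientGroup.mk' ((cenS A).subgroupOf N))
    (le_of_eq ((QuotientGroup.ker_mk' _).trans (range_subtype _).symm))

end Setting

theorem lay_le (B : Subgroup G) : lay B ≤ cenS B := map_subtype_le _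

theorem cor_odd [Finite G] (B : Subgroup G) : ¬ 2 ∣ Nat.card (cor B) := ClosedAbelian.core_odd (cenS B)

theorem cen_le {a : G} {T : Subgroup G} (h : a ∈ T) : cenS T ≤ cen a :=
  centralizer_le (Set.singleton_subset_iff.2 h)

namespace Blocks

variable [Finite G] {A : Subgroup G} (D : Blocks A)

theorem rest_le_iff {j : D.ι} {T : Subgroup G} : D.rest j ≤ T ↔ ∀ i, i ≠ j → D.U i ≤ T :=
  ⟨fun h _ hi => (D.U_le_rest hi).trans h, fun h => iSup_le fun i => h i.1 i.2⟩

theorem rest_eq (j : D.ι) : D.rest j = ⨆ i : ({i | i ≠ j} : Set D.ι), D.U i := rfl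

theorem exists_ne (i : D.ι) : ∃ e ∈ D.U i, e ≠ 1 := by
  refine (D.U i).bot_or_exists_ne_one.resolve_left fun h => ?_
  have := D.four i
  rw [h, card_bot] at this
  omega

theorem rest_ne (j : D.ι) : D.rest j ≠ ⊥ := by
  obtain ⟨i, hi⟩ := D.two j
  obtain ⟨e, he, he1⟩ := D.exists_ne i
  exact fun h => he1 (mem_bot.1 (h ▸ D.U_le_rest hi he))

theorem disj {i : D.ι} {x : G} (h : x ∈ D.U i) (h' : x ∈ D.rest i) : x = 1 := by
  have := (D.indep i).le_bot
  refine mem_bot.1 (this ⟨h, ?_⟩)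
  exact (iSup_le fun k => le_iSup₂_of_le k.1 k.2 le_rfl : D.rest i ≤ ⨆ (k : D.ι) (_ : k ≠ i), D.U k) h'

theorem not_both {i j : D.ι} (h : i ≠ j) {x : G} (hi : x ∈ D.U i) (hj : x ∈ D.U j) : x = 1 :=
  D.disj hj (D.U_le_rest h hi)

theorem perm_mem {g : G} (hg : g ∈ normalizer (A : Set G)) (i : D.ι) :
    ∃ j, ∀ x, x ∈ D.U i ↔ g * x * g⁻¹ ∈ D.U j := by
  obtain ⟨j, hj, -⟩ := D.perm g hg i
  refine ⟨j, fun x => ⟨fun hx => hj ▸ ⟨x, hx, rfl⟩, fun hx => ?_⟩⟩
  rw [← hj] at hx
  obtain ⟨y, hy, he⟩ := hx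
  rwa [show y = x from mul_left_cancel (mul_right_cancel he)] at hy

/-- `N(A)` permutes the sums of all blocks but one. -/
theorem rest_perm {g : G} (hg : g ∈ normalizer (A : Set G)) (j : D.ι) :
    ∃ k, ∀ x, x ∈ D.rest j ↔ g * x * g⁻¹ ∈ D.rest k := by
  obtain ⟨k, hk⟩ := D.perm_mem hg j
  have h1 : ∀ {i : D.ι}, i ≠ j → D.U i ≤ (D.rest k).comap (MulAut.conj g).toMonoidHom := by
    intro i hi x hx
    obtain ⟨l, hl⟩ := D.perm_mem hg i
    refine D.U_le_rest (fun e => ?_) ((hl x).1 hx)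
    subst e
    obtain ⟨y, hy, hy1⟩ := D.exists_ne i
    exact hy1 (D.not_both hi hy ((hk y).2 ((hl y).1 hy)))
  have h2 : ∀ {i : D.ι}, i ≠ k → D.U i ≤ (D.rest j).comap (MulAut.conj g⁻¹).toMonoidHom := by
    intro i hi x hx
    obtain ⟨l, hl⟩ := D.perm_mem (inv_mem hg) i
    refine D.U_le_rest (fun e => ?_) ((hl x).1 hx)
    subst e
    obtain ⟨y, hy, hy1⟩ := D.exists_ne i
    have := (hk _).1 ((hl y).1 hy)
    rw [show g * (g⁻¹ * y * g⁻¹⁻¹) * g⁻¹ = y by group] at this
    exact hy1 (D.not_both hi hy this)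
  refine ⟨k, fun x => ⟨fun hx => (D.rest_le_iff.2 fun i hi => h1 hi) hx, fun hx => ?_⟩⟩
  have h3 : g⁻¹ * (g * x * g⁻¹) * g⁻¹⁻¹ ∈ D.rest j := (D.rest_le_iff.2 fun i hi => h2 hi) hx
  rwa [show g⁻¹ * (g * x * g⁻¹) * g⁻¹⁻¹ = x by group] at h3

theorem lay_perm [Finite G] {g : G} (hg : g ∈ normalizer (A : Set G)) (j : D.ι) :
    ∃ k, ∀ x ∈ lay (D.rest j), g * x * g⁻¹ ∈ lay (D.rest k) := by
  obtain ⟨k, hk⟩ := D.rest_perm hg j
  refine ⟨k, fun x hx => lay_conj (fun y => ?_) hx⟩
  simp only [cenS, mem_centralizer_iff, SetLike.mem_coe]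
  constructor
  · intro h b hb
    have hb' : g⁻¹ * b * g ∈ D.rest j := (hk _).2 (by
      rwa [show g * (g⁻¹ * b * g) * g⁻¹ = b by group])
    calc b * (g * y * g⁻¹) = g * ((g⁻¹ * b * g) * y) * g⁻¹ := by group
      _ = g * y * g⁻¹ * b := by rw [h _ hb']; group
  · intro h b hb
    have := h _ ((hk b).1 hb)
    rw [conj_mul, conj_mul] at this
    exact mul_left_cancel (mul_right_cancel this)

variable {D}

/-- A centraliser in `A` is the core, the layers of the blocks and the part normalising `A`. -/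
theorem Local.cenS_le (hL : D.Local) {B : Subgroup G} (hB : B ≤ A) (hB1 : B ≠ ⊥) :
    cenS B ≤ cor B ⊔ (⨆ j, lay (B ⊔ D.rest j)) ⊔ (normalizer (A : Set G) ⊓ cenS B) :=
  (hL.gen B hB hB1).trans (sup_le (sup_le (le_sup_of_le_left le_sup_left)
    (le_sup_of_le_left (hL.split B hB hB1))) le_sup_right)

theorem Local.cen_le (hL : D.Local) {a : G} (ha : a ∈ A) (ha1 : a ≠ 1) :
    cen a ≤ ocen a ⊔ (⨆ j, lay (zpowers a ⊔ D.rest j)) ⊔ (normalizer (A : Set G) ⊓ cen a) := by
  have h := hL.cenS_le (zpowers_le.2 ha) fun h => ha1 (mem_bot.1 (h ▸ mem_zpowers a))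
  rwa [cor_zpowers, cenS_zpowers] at h

theorem Local.lay_mono (hL : D.Local) {B : Subgroup G} (hB : B ≤ A) (j : D.ι) :
    lay (B ⊔ D.rest j) ≤ lay (D.rest j) :=
  hL.mono _ _ le_sup_right (sup_le hB (D.rest_le j)) (D.rest_ne j)

/-- Some layer is non-trivial. -/
theorem Local.exists_lay (hL : D.Local) {S : Sylow 2 G} (hS : Setting S A) :
    ∃ j, lay (D.rest j) ≠ ⊥ := by
  by_contra h
  push Not at h
  obtain ⟨a, ha, ha1, hns⟩ := hS.nonsol
  refine hns ?_
  set N := normalizer (A : Set G) ⊓ cen a with hN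
  have hle : cen a = ocen a ⊔ N := by
    refine le_antisymm ((hL.cen_le ha ha1).trans (sup_le (sup_le le_sup_left (iSup_le fun j => ?_))
      le_sup_right)) (sup_le ?_ inf_le_right)
    · rw [eq_bot_iff.2 ((hL.lay_mono (zpowers_le.2 ha) j).trans (h j).le)]
      exact bot_le
    · rw [← cor_zpowers, ← cenS_zpowers]; exact cor_le _
  haveI : Group.IsSolvable ↥(ocen a) := OddChar.oddSolvable _ (by
    rw [← cor_zpowers, ← Nat.not_even_iff_odd, even_iff_two_dvd]; exact cor_odd _)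
  haveI := hS.normalizer_solvable
  haveI : Group.IsSolvable ↥N := Group.isSolvable_of_isSolvable_injective
    (f := inclusion (inf_le_left : N ≤ normalizer (A : Set G))) (inclusion_injective _)
  rw [hle]
  refine Components.isSolvable_sup _ _ ?_
  rw [← cor_zpowers]
  exact inf_le_right.trans ((cenS_zpowers a).ge.trans (cor_normalized _))

end Blocks

end Cfsg.Agent.Walter4
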