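import Cfsg.Agent.Lib.Walter4.NontrivialTools
import Cfsg.Agent.Lib.Walter4.Endings
import Cfsg.Agent.Lib.Walter4.Trivial

/-!
No group has a block configuration with a non-trivial closure of the functor: the normaliser of the
closure contains a whole class of involutions.
-/

set_option autoImplicit false
set_option linter.style.haveILetI false
set_option linter.unusedSectionVars false

namespace Cfsg.Agent.Walter4

open Subgroup

universe u

variable {G : Type u} [Group G] [Finite G]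

namespace Setting

variable {S : Sylow 2 G} {A : Subgroup G} (hA : Setting S A)
include hA

theorem le_sylow : A ≤ S := fun _ hx => ((hA.mem _).1 hx).1

theorem sylow_comm : ∀ x ∈ (S : Subgroup G), ∀ y ∈ (S : Subgroup G), x * y = y * x := fun x hx y hy =>
  congrArg Subtype.val (hA.ab.is_comm.comm (⟨x, hx⟩ : (S : Subgroup G)) ⟨y, hy⟩)

theorem le_cenS {B : Subgroup G} (hB : B ≤ A) : A ≤ cenS B := fun _ hx =>
  mem_centralizer_iff.2 fun _ hb => hA.comm_A (hB hb) hx

theorem normalizer_le : normalizer ((S : Subgroup G) : Set G) ≤ normalizer (A : Set G) := by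
  intro g hg
  rw [mem_normalizer_iff] at hg ⊢
  intro x
  rw [hA.mem, hA.mem, ← hg x, conj_mul]
  constructor
  · rintro ⟨h1, h2⟩
    exact ⟨h1, by rw [h2, mul_one, mul_inv_cancel]⟩
  · rintro ⟨h1, h2⟩
    exact ⟨h1, mul_left_cancel (mul_right_cancel (h2.trans (by group : (1 : G) = g * 1 * g⁻¹)))⟩

/-- Fusion is controlled by `N(A)`. -/
theorem fusion {x y : G} (hx : x ∈ A) (hy : y ∈ (S : Subgroup G)) (h : IsConj x y) :
    ∃ n ∈ normalizer (A : Set G), n * x * n⁻¹ = y := by
  haveI : Fact (Nat.Prime 2) := ⟨Nat.prime_two⟩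
  haveI := hA.ab
  obtain ⟨g, hg⟩ := isConj_iff.1 h
  obtain ⟨n, hn, he⟩ := Sylow.conj_eq_normalizer_conj_of_mem S x g⁻¹ (hA.le_sylow hx)
    (by rwa [inv_inv, hg])
  rw [inv_inv, hg] at he
  exact ⟨n⁻¹, inv_mem (hA.normalizer_le hn), by rw [inv_inv]; exact he.symm⟩

end Setting

namespace Blocks

variable {A : Subgroup G} (D : Blocks A)

theorem le_rest {i j : D.ι} (h : i ≠ j) : D.U i ≤ D.rest j :=
  le_iSup_of_le ⟨i, h⟩ le_rfl

theorem le_sup_rest (j : D.ι) : A ≤ D.U j ⊔ D.rest j := by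
  refine D.eq.symm.le.trans (iSup_le fun i => ?_)
  rcases eq_or_ne i j with rfl | h
  · exact le_sup_left
  · exact (D.le_rest h).trans le_sup_right

theorem eq_one {j : D.ι} {x : G} (hx : x ∈ D.U j) (hx' : x ∈ D.rest j) : x = 1 := by
  have h : D.rest j ≤ ⨆ (i) (_ : i ≠ j), D.U i := iSup_le fun i => le_iSup₂_of_le i.1 i.2 le_rfl
  exact mem_bot.1 ((D.indep j).le_bot ⟨hx, h hx'⟩)

theorem card_rest (j : D.ι) : 4 ≤ Nat.card (D.rest j) :=
  have ⟨i, hi⟩ := D.two j
  (D.four i).trans (card_le_of_le (D.le_rest hi))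

theorem exists_ne_one (i : D.ι) : ∃ u ∈ D.U i, u ≠ 1 := by
  by_contra h
  push Not at h
  have := D.four i
  rw [(eq_bot_iff_forall _).2 h, card_bot] at this
  omega

theorem mem_theta_iff {a x : G} :
    x ∈ D.theta a ↔ x ∈ ocen a ∧ ∀ V, D.IsV V → x ∈ factor V a := by
  simp only [theta, mem_inf, mem_iInf, Subtype.forall]

theorem mem_normalizer_theta {k a : G} (ha : k ∈ normalizer (ocen a : Set G))
    (hV : ∀ V, D.IsV V → k ∈ normalizer (factor V a : Set G)) :
    k ∈ normalizer (D.theta a : Set G) := by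
  rw [mem_normalizer_iff] at ha ⊢
  intro x
  rw [mem_theta_iff, mem_theta_iff, ← ha x]
  exact and_congr_right fun _ =>
    forall_congr' fun V => forall_congr' fun h => mem_normalizer_iff.1 (hV V h) x

/-- An element centralising `b` and every subgroup defining the functor normalises `theta b`. -/
theorem mem_normalizer_theta_of_central {k b : G} (hb : k ∈ cen b)
    (hV : ∀ V, D.IsV V → k ∈ cenS V) : k ∈ normalizer (D.theta b : Set G) :=
  D.mem_normalizer_theta (cen_le_normalizer_ocen b hb) fun V h =>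
    mem_normalizer_factor (cen_le_normalizer_ocen b hb) (hV V h)

end Blocks

/-- The closure. -/
structure Clo {A : Subgroup G} (D : Blocks A) (W : Subgroup G) : Prop where
  odd : Odd (Nat.card W)
  normal : normalizer (A : Set G) ≤ normalizer (W : Set G)
  meet : ∀ a ∈ A, a ≠ 1 → W ⊓ cen a = D.theta a

namespace Clo

variable {S : Sylow 2 G} {A : Subgroup G} {D : Blocks A} {W : Subgroup G}

theorem theta_le (hW : Clo D W) {a : G} (ha : a ∈ A) (h1 : a ≠ 1) :
    D.theta a ≤ normalizer (W : Set G) :=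
  ((hW.meet a ha h1).symm.le.trans inf_le_left).trans le_normalizer

theorem cenS_A_le (hW : Clo D W) : cenS A ≤ normalizer (W : Set G) :=
  (cenS_le_normalizer A).trans hW.normal

/-- An element centralising `b` and the involution `x`, which lies in every subgroup it does not
centralise, normalises `theta b` if it normalises `theta x`. -/
theorem mem_normalizer_theta (hA : Setting S A) (hW : Clo D W) {k b x : G} (hb : b ∈ A) (hb1 : b ≠ 1)
    (hx : x ∈ A) (hx1 : x ≠ 1) (hkb : k ∈ cen b) (hkx : k ∈ cen x)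
    (hkt : k ∈ normalizer (D.theta x : Set G))
    (hV : ∀ V, D.IsV V → k ∈ cenS V ∨ x ∈ V) : k ∈ normalizer (D.theta b : Set G) := by
  have hxn : x ∈ normalizer (W : Set G) :=
    hW.cenS_A_le (hA.le_cenS le_rfl hx)
  have hxb : x ∈ cen b := mem_centralizer_singleton_iff.2 (hA.comm_A hx hb)
  have hxx : x * x = 1 := hA.sq hx
  have hinv : ∀ q ∈ D.theta b, x * q * x⁻¹ ∈ D.theta b := by
    intro q hq
    rw [← hW.meet b hb hb1] at hq ⊢
    exact ⟨(mem_normalizer_iff.1 hxn q).1 hq.1,
      (cen b).mul_mem ((cen b).mul_mem hxb hq.2) ((cen b).inv_mem hxb)⟩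
  have hodd : ∀ q ∈ D.theta b, Odd (orderOf q) := by
    intro q hq
    rw [← hW.meet b hb hb1] at hq
    exact hW.odd.of_dvd_nat
      ((orderOf_coe (⟨q, hq.1⟩ : W)).symm ▸ orderOf_dvd_natCard _)
  refine mem_normalizer_of_forall fun q hq => ?_
  obtain ⟨c, hc, i, hi, hcc, hii, rfl⟩ := exists_split hodd hxx hinv hq
  rw [← conj_mul]
  refine mul_mem ?_ ?_
  · -- the centralised part lies in `theta x`
    have hc' : c ∈ D.theta x := by
      rw [← hW.meet b hb hb1] at hc
      rw [← hW.meet x hx hx1]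
      exact ⟨hc.1, mem_centralizer_singleton_iff.2 hcc.symm⟩
    have h1 := (mem_normalizer_iff.1 hkt c).1 hc'
    rw [← hW.meet x hx hx1] at h1
    rw [← hW.meet b hb hb1] at hc ⊢
    exact ⟨h1.1, (cen b).mul_mem ((cen b).mul_mem hkb hc.2) ((cen b).inv_mem hkb)⟩
  · rw [Blocks.mem_theta_iff] at hi ⊢
    refine ⟨(mem_normalizer_iff.1 (cen_le_normalizer_ocen b hkb) i).1 hi.1, fun V h => ?_⟩
    rcases hV V h with h' | h'
    · exact (mem_normalizer_iff.1
        (mem_normalizer_factor (cen_le_normalizer_ocen b hkb) h') i).1 (hi.2 V h)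
    · refine mem_factor ((mem_normalizer_iff.1 (cen_le_normalizer_ocen b hkb) i).1 hi.1) h' ?_ ?_
      · rw [show orderOf (k * i * k⁻¹) = orderOf i from
          orderOf_injective (MulAut.conj k).toMonoidHom (MulAut.conj k).injective i]
        exact hodd i (by rw [Blocks.mem_theta_iff]; exact hi)
      · have hkx' : x * k = k * x := (mem_centralizer_singleton_iff.1 hkx).symm
        calc x * (k * i * k⁻¹) * x⁻¹ = (x * k) * i * (x * k)⁻¹ := by group
          _ = k * (x * i * x⁻¹) * k⁻¹ := by rw [hkx']; group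
          _ = (k * i * k⁻¹)⁻¹ := by rw [hii]; group

/-- `C(B)` normalises the closure if its core and the parts of its layer do. -/
theorem cenS_le (hL : D.Local) (hW : Clo D W) {B : Subgroup G} (hB : B ≤ A) (hB1 : B ≠ ⊥)
    (hc : cor B ≤ normalizer (W : Set G))
    (hlay : ∀ j, lay (B ⊔ D.rest j) ≤ normalizer (W : Set G)) :
    cenS B ≤ normalizer (W : Set G) :=
  (hL.gen B hB hB1).trans (sup_le
    (sup_le hc ((hL.split B hB hB1).trans (sup_le hc (iSup_le hlay))))
    (inf_le_left.trans hW.normal))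

/-- `C(B)` normalises the closure if it centralises every subgroup defining the functor. -/
theorem cenS_le_of_V (hD : D.Api) (hW : Clo D W) {B : Subgroup G} (hB : B ≤ A) (h4 : 4 ≤ Nat.card B)
    (hV : ∀ V, D.IsV V → V ≤ B) : cenS B ≤ normalizer (W : Set G) := fun k hk =>
  hD.key W hW.odd hW.normal hW.meet B hB h4 k hk fun b hb _ =>
    D.mem_normalizer_theta_of_central (cenS_zpowers b ▸ cenS_anti (zpowers_le.2 hb) hk)
      fun V h => cenS_anti (hV V h) hk

/-- At least two blocks in `F`: `C(rest j)` for `j ∈ F`. -/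
theorem cenS_rest_le (hA : Setting S A) (hL : D.Local) (hD : D.Api) (hW : Clo D W) {j : D.ι}
    (hj : j ∈ D.F) (hV : ∀ V, D.IsV V → ∃ l, V = D.U l) :
    cenS (D.rest j) ≤ normalizer (W : Set G) := by
  refine (hL.dih j hj).trans (sup_le (iSup_le ?_) hW.normal)
  rintro ⟨x, hx, hx1⟩
  set B := D.rest j ⊔ zpowers x with hBdef
  have hxA : x ∈ A := D.U_le j hx
  have hB : B ≤ A := sup_le (D.rest_le j) (zpowers_le.2 hxA)
  have hxB : x ∈ B := le_sup_right (a := D.rest j) (mem_zpowers x)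
  have hnr : ¬ zpowers x ≤ D.rest j := fun h => hx1 (D.eq_one hx (zpowers_le.1 h))
  refine cenS_le hL hW hB (fun h => hx1 (mem_bot.1 (h ▸ hxB))) ?_ fun i => ?_
  swap
  · rcases eq_or_ne i j with rfl | hij
    · rw [hBdef, sup_assoc, sup_comm (zpowers x), ← sup_assoc, sup_idem, sup_comm,
        hL.vanish i hj _ (zpowers_le.2 hxA) hnr]
      exact bot_le
    · refine ((map_subtype_le _).trans (cenS_anti ?_)).trans hW.cenS_A_le
      exact (D.le_sup_rest j).trans
        (sup_le ((D.le_rest hij.symm).trans le_sup_right) (le_sup_left.trans le_sup_left))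
  refine mem_of_inverted (fun q hq => odd_of_mem_cor hq) (fun s hs => hA.sq (D.U_le j hs))
    (fun s hs t ht => hA.comm_A (D.U_le j hs) (D.U_le j ht)) ?_ ?_ ?_
  · exact fun s hs q hq =>
      (mem_normalizer_iff.1 (cenS_le_normalizer_cor B (hA.le_cenS hB (D.U_le j hs))) q).1 hq
  · intro q hq hqU
    refine hW.cenS_A_le (cenS_anti (D.le_sup_rest j) ?_)
    refine mem_centralizer_iff.2 fun y hy => ?_
    exact mem_centralizer_singleton_iff.1
      ((sup_le (a := D.U j) (b := D.rest j) (c := centralizer ({q} : Set G))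
        (fun z hz => mem_centralizer_singleton_iff.2 (mem_centralizer_iff.1 hqU z hz))
        (fun z hz => mem_centralizer_singleton_iff.2
          (mem_centralizer_iff.1 (cor_le B hq) z (le_sup_left (b := zpowers x) hz)))) hy)
  intro k hk s hs hsk
  have hkB : k ∈ cenS B := cor_le B hk
  have hkx : k ∈ cen x := cenS_zpowers x ▸ cenS_anti (le_sup_right : zpowers x ≤ B) hkB
  have hko : k ∈ ocen x := by
    rw [← cor_zpowers]
    refine hD.bal _ (zpowers_le.2 hxA) (by simpa using hx1) B hB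
      (fun h => hx1 (mem_bot.1 (h ▸ hxB))) k hk (cenS_zpowers x ▸ hkx) fun l hl => ?_
    refine Or.inr (Or.inr ⟨s, D.le_rest (i := j) (j := l) (fun h => ?_) hs, hsk⟩)
    subst h
    exact hl.elim (fun h' => hnr h'.2) fun h' => h'.1 hj
  have hodd : Odd (orderOf k) := odd_of_mem_cor hk
  have hV' : ∀ V, D.IsV V → k ∈ cenS V ∨ (x ∈ V ∧ s ∈ V) := by
    intro V h
    obtain ⟨l, rfl⟩ := hV V h
    rcases eq_or_ne l j with rfl | hl
    · exact Or.inr ⟨hx, hs⟩
    · exact Or.inl (cenS_anti ((D.le_rest hl).trans le_sup_left) hkB)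
  have hkt : k ∈ normalizer (D.theta x : Set G) := by
    refine D.mem_normalizer_theta (cen_le_normalizer_ocen x hkx) fun V h => ?_
    rcases hV' V h with h' | ⟨-, h'⟩
    · exact mem_normalizer_factor (cen_le_normalizer_ocen x hkx) h'
    · exact le_normalizer (mem_factor hko h' hodd hsk)
  refine hD.key W hW.odd hW.normal hW.meet _ (D.rest_le j) (D.card_rest j) k
    (cenS_anti le_sup_left hkB) fun b hb hb1 => ?_
  exact hW.mem_normalizer_theta hA (D.rest_le j hb) hb1 hxA hx1
    (cenS_zpowers b ▸ cenS_anti (zpowers_le.2 (le_sup_left (b := zpowers x) hb)) hkB) hkx hkt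
    fun V h => (hV' V h).imp_right And.left

/-- One block `e` in `F`: the centralisers of the involutions outside `U e`. -/
theorem cen_le_of_single (hA : Setting S A) (hL : D.Local) (hD : D.Api) (hW : Clo D W) {e : D.ι}
    (he : e ∈ D.F) (huniq : ∀ l ∈ D.F, l = e) {a : G} (ha : a ∈ A) (hae : a ∉ D.U e) :
    cen a ≤ normalizer (W : Set G) := by
  have ha1 : a ≠ 1 := fun h => hae (h ▸ one_mem _)
  have hR : cenS (D.rest e) ≤ normalizer (W : Set G) := by
    refine cenS_le_of_V hD hW (D.rest_le e) (D.card_rest e) fun V h => ?_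
    rcases h with ⟨l, hl, l', hl', hne, -⟩ | ⟨l, hl, -, rfl⟩
    · exact absurd ((huniq l hl).trans (huniq l' hl').symm) hne
    · rw [huniq l hl]
  have hVe : ∀ V, D.IsV V → V = D.rest e := by
    rintro V (⟨l, hl, l', hl', hne, -⟩ | ⟨l, hl, -, rfl⟩)
    · exact absurd ((huniq l hl).trans (huniq l' hl').symm) hne
    · rw [huniq l hl]
  obtain ⟨u, hu, w, hw, huw⟩ : ∃ u ∈ D.U e, ∃ w ∈ D.rest e, u * w = a := by
    have hn : D.rest e ≤ normalizer (D.U e : Set G) :=
      fun y hy => cenS_le_normalizer _ (hA.le_cenS (D.U_le e) (D.rest_le e hy))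
    have h : a ∈ ((D.U e ⊔ D.rest e : Subgroup G) : Set G) := D.le_sup_rest e ha
    rw [coe_mul_of_right_le_normalizer_left _ _ hn] at h
    exact h
  have hw1 : w ≠ 1 := fun h => hae (by rw [← huw, h, mul_one]; exact hu)
  rw [← cenS_zpowers]
  refine cenS_le hL hW (zpowers_le.2 ha) (by simpa using ha1) ?_ fun j => ?_
  · rw [cor_zpowers]
    refine (hD.pieces a ha ha1).trans (sup_le (sup_le (hW.theta_le ha ha1)
      (inf_le_right.trans hW.cenS_A_le)) (iSup_le fun l => inf_le_right.trans ?_))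
    rw [huniq l.1 l.2]
    exact hR
  refine (map_subtype_le _).trans ?_
  rcases eq_or_ne j e with rfl | hje
  · exact (cenS_anti le_sup_right).trans hR
  set B := D.U e ⊔ zpowers w with hBdef
  have hwA : w ∈ A := D.rest_le e hw
  have hwB : w ∈ B := le_sup_right (a := D.U e) (mem_zpowers w)
  refine (cenS_anti (B := B) (sup_le ((D.le_rest hje.symm).trans le_sup_right) (zpowers_le.2 ?_))).trans ?_
  · rw [show w = u⁻¹ * a by rw [← huw, inv_mul_cancel_left]]
    exact mul_mem (inv_mem (le_sup_right (a := zpowers a) (D.le_rest hje.symm hu)))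
      (le_sup_left (b := D.rest j) (mem_zpowers a))
  intro k hk
  have hkw : k ∈ cen w := cenS_zpowers w ▸ cenS_anti (le_sup_right : zpowers w ≤ B) hk
  have hkt : k ∈ normalizer (D.theta w : Set G) := by
    rw [hD.eq_ocen w hwA hw1 fun l hl => by rw [huniq l hl]; exact hw]
    exact cen_le_normalizer_ocen w hkw
  refine hD.key W hW.odd hW.normal hW.meet B (sup_le (D.U_le e) (zpowers_le.2 hwA))
    ((D.four e).trans (card_le_of_le le_sup_left)) k hk fun b hb hb1 => ?_
  exact hW.mem_normalizer_theta hA (sup_le (D.U_le e) (zpowers_le.2 hwA) hb) hb1 hwA hw1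
    (cenS_zpowers b ▸ cenS_anti (zpowers_le.2 hb) hk) hkw hkt fun V h => Or.inr (hVe V h ▸ hw)

/-- Not exactly one block in `F`: the centralisers of all involutions of `A`. -/
theorem cen_le_of_not_single (hA : Setting S A) (hL : D.Local) (hD : D.Api) (hW : Clo D W)
    (hns : ¬ ∃ e ∈ D.F, ∀ l ∈ D.F, l = e) {a : G} (ha : a ∈ A) (ha1 : a ≠ 1) :
    cen a ≤ normalizer (W : Set G) := by
  have hV : ∀ V, D.IsV V → ∃ l ∈ D.F, V = D.U l := by
    rintro V (⟨l, hl, l', -, -, rfl⟩ | ⟨l, hl, huniq, rfl⟩)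
    · exact ⟨l, hl, rfl⟩
    · exact absurd ⟨l, hl, huniq⟩ hns
  have hrest : ∀ j, cenS (D.rest j) ≤ normalizer (W : Set G) := by
    intro j
    by_cases hj : j ∈ D.F
    · exact hW.cenS_rest_le hA hL hD hj fun V h => (hV V h).imp fun _ h => h.2
    · refine cenS_le_of_V hD hW (D.rest_le j) (D.card_rest j) fun V h => ?_
      obtain ⟨l, hl, rfl⟩ := hV V h
      exact D.le_rest fun h => hj (h ▸ hl)
  rw [← cenS_zpowers]
  refine cenS_le hL hW (zpowers_le.2 ha) (by simpa using ha1) ?_ fun j =>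
    ((map_subtype_le _).trans (cenS_anti le_sup_right)).trans (hrest j)
  rw [cor_zpowers]
  exact (hD.pieces a ha ha1).trans (sup_le (sup_le (hW.theta_le ha ha1)
    (inf_le_right.trans hW.cenS_A_le)) (iSup_le fun l => inf_le_right.trans (hrest l.1)))

end Clo

theorem nontrivial : NontrivialStmt.{u} := by
  intro G _ _ _ S A _ hA D hL hD a₀ ha₀ ha₀1
  by_contra hth
  obtain ⟨W, hodd, hnorm, hmeet⟩ := hD.closure
  have hW : Clo D W := ⟨hodd, hnorm, hmeet⟩
  have hWne : W ≠ ⊥ := fun h => hth (by rw [← hmeet a₀ ha₀ ha₀1, h, bot_inf_eq])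
  have hM : normalizer (W : Set G) ≠ ⊤ := by
    intro h
    haveI : W.Normal := normalizer_eq_top_iff.1 h
    rcases (inferInstance : W.Normal).eq_bot_or_eq_top with h' | h'
    · exact hWne h'
    rw [h', card_top] at hodd
    obtain ⟨t, ht⟩ := hodd
    have h1 : orderOf a₀ = 2 := orderOf_eq_prime (by rw [pow_two, hA.sq ha₀]) ha₀1
    have h2 : 2 ∣ Nat.card G := h1 ▸ orderOf_dvd_natCard a₀
    omega
  haveI : Nonempty D.ι := by
    by_contra h
    rw [not_nonempty_iff] at h
    have : A = ⊥ := D.eq ▸ iSup_of_empty _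
    exact ha₀1 (mem_bot.1 (this ▸ ha₀))
  -- a block element `u₀` and an involution `v` outside its class
  suffices h : ∃ u₀ v : G, u₀ ≠ 1 ∧ u₀ ∈ A ∧ v ∈ A ∧ ¬ IsConj u₀ v ∧
      cen v ≤ normalizer (W : Set G) ∧
      ∀ a ∈ A, a ≠ v → IsConj u₀ a → cen (a * v) ≤ normalizer (W : Set G) by
    obtain ⟨u₀, v, hu1, huA, hvA, hne, hcv, hcav⟩ := h
    refine not_class_mem hu1 hM fun x hx =>
      class_mem hA.sylow_comm (hA.sq huA) (hA.le_sylow hvA) (hA.sq hvA) hne hcv ?_ hx
    intro a ha hua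
    obtain ⟨n, hn, rfl⟩ := hA.fusion huA ha hua
    exact hcav _ ((mem_normalizer_iff.1 hn u₀).1 huA) (fun h => hne (h ▸ hua)) hua
  by_cases hs : ∃ e ∈ D.F, ∀ l ∈ D.F, l = e
  · obtain ⟨e, he, huniq⟩ := hs
    obtain ⟨u₀, hu, hu1⟩ := D.exists_ne_one e
    obtain ⟨i, hi⟩ := D.two e
    obtain ⟨v, hv, hv1⟩ := D.exists_ne_one i
    have hve : v ∉ D.U e := fun h => hv1 (D.eq_one h (D.le_rest hi hv))
    have himage : ∀ x ∈ A, IsConj u₀ x → x ∈ D.U e := by
      intro x hx hux
      obtain ⟨n, hn, rfl⟩ := hA.fusion (D.U_le e hu) (hA.le_sylow hx) hux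
      obtain ⟨k, hk, hF⟩ := D.perm n hn e
      have hke : k = e := huniq k (hF.1 he)
      subst hke
      rw [← hk]
      exact mem_map_of_mem _ hu
    refine ⟨u₀, v, hu1, D.U_le e hu, D.U_le i hv, fun h => hve (himage v (D.U_le i hv) h),
      hW.cen_le_of_single hA hL hD he huniq (D.U_le i hv) hve, fun a ha _ hua => ?_⟩
    refine hW.cen_le_of_single hA hL hD he huniq (mul_mem ha (D.U_le i hv)) fun h => hve ?_
    simpa using mul_mem (inv_mem (himage a ha hua)) h
  · obtain ⟨i⟩ := ‹Nonempty D.ι›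
    obtain ⟨i', hi'⟩ := D.two i
    obtain ⟨u, hu, hu1⟩ := D.exists_ne_one i
    obtain ⟨u', hu', hu'1⟩ := D.exists_ne_one i'
    have hvA : u * u' ∈ A := mul_mem (D.U_le i hu) (D.U_le i' hu')
    have hne : ¬ IsConj u (u * u') := by
      intro h
      obtain ⟨n, hn, he⟩ := hA.fusion (D.U_le i hu) (hA.le_sylow hvA) h
      obtain ⟨k, hk, -⟩ := D.perm n hn i
      have hm : u * u' ∈ D.U k := by rw [← he, ← hk]; exact mem_map_of_mem _ hu
      rcases eq_or_ne k i with rfl | hki
      · exact hu'1 (D.eq_one (j := i') hu' (D.le_rest hi'.symm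
          (by simpa using mul_mem (inv_mem hu) hm)))
      · refine hu1 (D.eq_one hu ?_)
        simpa using mul_mem (D.le_rest hki hm) (inv_mem (D.le_rest hi' hu'))
    have h1 : u * u' ≠ 1 := fun h => hu1 (D.eq_one hu (by
      rw [eq_inv_of_mul_eq_one_left h]; exact inv_mem (D.le_rest hi' hu')))
    refine ⟨u, u * u', hu1, D.U_le i hu, hvA, hne, hW.cen_le_of_not_single hA hL hD hs hvA h1,
      fun a ha hav _ => hW.cen_le_of_not_single hA hL hD hs (mul_mem ha hvA) fun h => hav ?_⟩
    rw [eq_inv_of_mul_eq_one_left h, inv_eq_of_mul_eq_one_right (hA.sq hvA)]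

end Cfsg.Agent.Walter4
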