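import Cfsg.Agent.Lib.Walter4.Trivial
import Cfsg.Agent.Lib.OddDown.FixedGenKey

/-!
Trivial signalizer closure in a non-abelian simple group: no group has the configuration. With three
blocks the normaliser of the join of the layers contains every centraliser in `A`; with two blocks it
contains enough of them for the class trick, or the classes of the two blocks commute.
-/

set_option autoImplicit false
set_option linter.style.haveILetI false
set_option linter.unusedSectionVars false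

namespace Cfsg.Agent.Walter4

open Subgroup
open scoped commutatorElement

universe u

variable {G : Type u} [Group G] [Finite G] [IsSimpleGroup G]

/-- The centraliser of a subgroup is proper. -/
theorem not_top_le_cenS (hG : ¬ IsMulCommutative G) {B : Subgroup G} (hB : B ≠ ⊥) :
    ¬ (⊤ : Subgroup G) ≤ cenS B := by
  intro h
  obtain ⟨b, hb, hb1⟩ := B.bot_or_exists_ne_one.resolve_left hB
  have hz : b ∈ center G := mem_center_iff.2 fun g =>
    (mem_centralizer_iff.1 (h (mem_top g)) b hb).symm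
  rcases (inferInstance : (center G).Normal).eq_bot_or_eq_top with hc | hc
  · exact hb1 (mem_bot.1 (hc ▸ hz))
  · exact hG ⟨⟨fun x y => mem_center_iff.1 (hc ▸ mem_top y) x⟩⟩

variable {S : Sylow 2 G} {A : Subgroup G} (hS : Setting S A) (D : Blocks A) (hL : D.Local) (hP : D.Api)
  (hθ : ∀ a ∈ A, a ≠ 1 → D.theta a = ⊥)
include hS hL hP hθ

theorem core_rest_le (j : D.ι) : cor (D.rest j) ≤ cenS A :=
  D.rest_eq j ▸ hP.core_le hθ _ (D.two j)

theorem cenS_rest_le {j : D.ι} {M : Subgroup G} (hAM : normalizer (A : Set G) ≤ M)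
    (hj : lay (D.rest j) ≤ M) : cenS (D.rest j) ≤ M :=
  (hL.gen _ (D.rest_le j) (D.rest_ne j)).trans (sup_le (sup_le
    ((core_rest_le hS D hL hP hθ j).trans ((centralizer_le_normalizer _).trans hAM)) hj)
    (inf_le_left.trans hAM))

/-- The core of a centraliser lies in a subgroup containing `N(A)` and the centralisers of the sums of
all blocks but one in `F`. -/
theorem ocen_le {a : G} (ha : a ∈ A) (ha1 : a ≠ 1) {M : Subgroup G}
    (hAM : normalizer (A : Set G) ≤ M) (hM : ∀ l ∈ D.F, cenS (D.rest l) ≤ M) : ocen a ≤ M := by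
  refine (hP.pieces a ha ha1).trans (sup_le (sup_le ?_ ?_) (iSup_le fun l => ?_))
  · exact (hθ a ha ha1).le.trans bot_le
  · exact inf_le_right.trans ((centralizer_le_normalizer _).trans hAM)
  · exact inf_le_right.trans (hM l.1 l.2)

/-- Three blocks. -/
theorem three_absurd (hG : ¬ IsMulCommutative G) (h3 : ∀ j k : D.ι, ∃ l, l ≠ j ∧ l ≠ k) : False := by
  classical
  set P := ⨆ j, lay (D.rest j) with hPdef
  set M := normalizer (P : Set G) with hM
  have hAM : normalizer (A : Set G) ≤ M := le_normalizer_of_conj fun g hg => by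
    have : P ≤ P.comap (MulAut.conj g).toMonoidHom := iSup_le fun j x hx => by
      obtain ⟨k, hk⟩ := D.lay_perm hg j
      exact le_iSup (fun j => lay (D.rest j)) k (hk x hx)
    exact fun y hy => this hy
  have hlayM : ∀ j, lay (D.rest j) ≤ M := fun j =>
    (le_iSup (fun j => lay (D.rest j)) j).trans le_normalizer
  have hBM : ∀ j, cenS (D.rest j) ≤ M := fun j => cenS_rest_le hS D hL hP hθ hAM (hlayM j)
  have hcen : ∀ a ∈ A, a ≠ 1 → cen a ≤ M := fun a ha ha1 =>
    (hL.cen_le ha ha1).trans (sup_le (sup_le (ocen_le hS D hL hP hθ ha ha1 hAM fun l _ => hBM l)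
      (iSup_le fun j => (hL.lay_mono (zpowers_le.2 ha) j).trans (hlayM j))) (inf_le_left.trans hAM))
  have hcomm : ∀ j k, j ≠ k → lay (D.rest j) ≤ cenS (lay (D.rest k)) := by
    intro j k hjk
    obtain ⟨l, hlj, hlk⟩ := h3 j k
    set T : Set D.ι := {i | i ≠ j ∧ i ≠ k} with hT
    set B := ⨆ i : T, D.U i with hB
    have hBj : B ≤ D.rest j := iSup_le fun i => D.U_le_rest i.2.1
    have hBk : B ≤ D.rest k := iSup_le fun i => D.U_le_rest i.2.2
    have hB1 : B ≠ ⊥ := by
      obtain ⟨e, he, he1⟩ := D.exists_ne l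
      exact fun h => he1 (mem_bot.1 (h ▸ le_iSup (fun i : T => D.U i) ⟨l, hlj, hlk⟩ he))
    have := hL.comm B (hBj.trans (D.rest_le j)) hB1 (hP.core_le hθ T ⟨l, hlj, hlk⟩) j k hjk
    rwa [sup_of_le_right hBj, sup_of_le_right hBk] at this
  obtain ⟨j₀, hj₀⟩ := hL.exists_lay hS
  have htop : M ≠ ⊤ := by
    intro h
    rcases (normalizer_eq_top_iff.1 h).eq_bot_or_eq_top with hb | hb
    · exact hj₀ (eq_bot_iff.2 ((le_iSup (fun j => lay (D.rest j)) j₀).trans hb.le))
    · have hn : normalizer (lay (D.rest j₀) : Set G) = ⊤ := top_le_iff.1 (hb ▸ iSup_le fun j => by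
        by_cases hj : j = j₀
        · exact hj ▸ le_normalizer
        · exact (hcomm j j₀ hj).trans (centralizer_le_normalizer _))
      rcases (normalizer_eq_top_iff.1 hn).eq_bot_or_eq_top with hb' | hb'
      · exact hj₀ hb'
      · exact not_top_le_cenS hG (D.rest_ne j₀) (hb' ▸ lay_le _)
  obtain ⟨j₁, hj₁, -⟩ := h3 j₀ j₀
  obtain ⟨j₂, hj₂, hj₂₁⟩ := h3 j₀ j₁
  obtain ⟨e, he, he1⟩ := D.exists_ne j₀
  obtain ⟨f, hf, hf1⟩ := D.exists_ne j₁
  obtain ⟨g, hg, hg1⟩ := D.exists_ne j₂
  have hb : f * g ∈ A := mul_mem (D.U_le j₁ hf) (D.U_le j₂ hg)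
  have hb1 : f * g ≠ 1 := fun h => hf1 (D.not_both hj₂₁.symm hf (by
    rw [eq_inv_of_mul_eq_one_left h]; exact inv_mem hg))
  have hne : ¬ IsConj e (f * g) := by
    intro h
    obtain ⟨n, hn, hne⟩ := hS.exists_conj (D.U_le j₀ he) hb h
    obtain ⟨k, hk⟩ := D.perm_mem hn j₀
    have hk' : f * g ∈ D.U k := hne ▸ (hk e).1 he
    by_cases hk1 : k = j₁
    · subst hk1
      have : g ∈ D.U k := by simpa using mul_mem (inv_mem hf) hk'
      exact hg1 (D.not_both hj₂₁ hg this)
    · have : f ∈ D.rest j₁ := by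
        simpa using mul_mem (D.U_le_rest hk1 hk') (inv_mem (D.U_le_rest hj₂₁ hg))
      exact hf1 (D.disj hf this)
  refine not_class_mem he1 htop fun u hu => class_mem (fun x hx y hy => hS.comm hx hy)
    (hS.sq (D.U_le j₀ he)) (hS.le hb) (hS.sq hb) hne (hcen _ hb hb1) (fun a ha hea => ?_) hu
  obtain ⟨c, hc⟩ := isConj_iff.1 hea
  have haA : a ∈ A := (hS.mem a).2 ⟨ha, by
    rw [← hc, conj_mul, hS.sq (D.U_le j₀ he), mul_one, mul_inv_cancel]⟩
  refine hcen _ (mul_mem haA hb) fun h => hne ?_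
  rwa [← (eq_inv_of_mul_eq_one_left h).trans (inv_eq_of_mul_eq_one_right (hS.sq hb))]

omit hL hP hθ in
/-- Two blocks are fixed by `N(A)`. -/
theorem fix_two {j w : D.ι} (hjw : j ≠ w) (hι : ∀ i, i = j ∨ i = w) {g : G}
    (hg : g ∈ normalizer (A : Set G)) (i : D.ι) : ∀ x, x ∈ D.U i ↔ g * x * g⁻¹ ∈ D.U i := by
  haveI : Fact (Nat.Prime 2) := ⟨Nat.prime_two⟩
  suffices key : ∀ h ∈ normalizer (A : Set G), ∀ k, (∀ x, x ∈ D.U i ↔ h * x * h⁻¹ ∈ D.U k) → k = i by
    obtain ⟨k, hk⟩ := D.perm_mem hg i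
    exact key g hg k hk ▸ hk
  intro h hh k hk
  by_contra hki
  -- a power of odd exponent interchanging the blocks, and one of even exponent fixing them
  obtain ⟨l, hl⟩ := D.perm_mem hh k
  have hother : ∀ m, m ≠ k → m = i := fun m hm => by
    rcases hι m with a | a <;> rcases hι k with b | b <;> rcases hι i with c | c <;>
      subst a <;> simp_all
  have hlk : l = i := hother l fun hlk => by
    subst hlk
    obtain ⟨y, hy, hy1⟩ := D.exists_ne i
    have h1 : h * y * h⁻¹ ∈ D.U l := (hk y).1 hy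
    obtain ⟨z, hz, hz1⟩ := D.exists_ne l
    exact hy1 (D.not_both (Ne.symm hki) hy ((hl y).2 h1))
  subst hlk
  have hsq : ∀ n : ℕ, ∀ x, x ∈ D.U l ↔ h ^ (2 * n) * x * (h ^ (2 * n))⁻¹ ∈ D.U l := by
    intro n
    induction n with
    | zero => simp
    | succ n ih =>
      intro x
      rw [ih x, hk, hl]
      rw [show h * (h * (h ^ (2 * n) * x * (h ^ (2 * n))⁻¹) * h⁻¹) * h⁻¹ =
        h * h * h ^ (2 * n) * x * (h * h * h ^ (2 * n))⁻¹ by group]
      rw [show h * h * h ^ (2 * n) = h ^ (2 * (n + 1)) by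
        rw [← pow_two, ← pow_add, mul_add, mul_one, add_comm]]
  obtain ⟨u, v, huv, hu, hv, hu2, ⟨m, hm⟩⟩ := ClosedAbelian.exists_parts h
  have huA : ∀ a ∈ A, u * a = a * u := by
    intro a ha
    obtain ⟨r, hr⟩ := hu2
    have hun : u ∈ normalizer (A : Set G) := (zpowers_le.2 hh) hu
    have hp : IsPGroup 2 ↥(zpowers u ⊔ A) :=
      (ClosedAbelian.TwoEl.isPGroup ⟨r, hr⟩).to_sup_of_normal_right'
        (S.isPGroup'.to_le hS.le) (zpowers_le.2 hun)
    obtain ⟨T, hT⟩ := hp.exists_le_sylow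
    obtain ⟨c, hc⟩ := MulAction.exists_smul_eq G T S
    have hmem : ∀ x ∈ zpowers u ⊔ A, c * x * c⁻¹ ∈ (S : Subgroup G) := by
      intro x hx
      rw [← hc, Sylow.coe_subgroup_smul]
      exact ⟨x, hT hx, rfl⟩
    have := hS.comm (hmem u (le_sup_left (b := A) (mem_zpowers u))) (hmem a (le_sup_right (a := zpowers u) ha))
    rw [conj_mul, conj_mul] at this
    exact mul_left_cancel (mul_right_cancel this)
  -- `h ^ orderOf v` centralises `A`
  have hpow : ∀ a ∈ A, h ^ (2 * m + 1) * a * (h ^ (2 * m + 1))⁻¹ = a := by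
    intro a ha
    have hcuv : Commute u v := by
      obtain ⟨i, rfl⟩ := mem_zpowers_iff.1 hu
      obtain ⟨i', rfl⟩ := mem_zpowers_iff.1 hv
      exact Commute.zpow_zpow_self _ _ _
    rw [← huv, hcuv.mul_pow, ← hm, pow_orderOf_eq_one, mul_one,
      ((show Commute u a from huA a ha).pow_left _).eq, mul_inv_cancel_right]
  obtain ⟨y, hy, hy1⟩ := D.exists_ne l
  have h1 : h * (h ^ (2 * m) * y * (h ^ (2 * m))⁻¹) * h⁻¹ ∈ D.U k := (hk _).1 ((hsq m y).1 hy)
  rw [show h * (h ^ (2 * m) * y * (h ^ (2 * m))⁻¹) * h⁻¹ = h ^ (2 * m + 1) * y * (h ^ (2 * m + 1))⁻¹ by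
    group, hpow y (D.U_le l hy)] at h1
  exact hy1 (D.not_both (Ne.symm hki) hy h1)

/-- Two blocks, the second one not in `F`. -/
theorem two_absurd (hG : ¬ IsMulCommutative G) {j w : D.ι} (hjw : j ≠ w)
    (hι : ∀ i, i = j ∨ i = w) (hw : w ∉ D.F) (hj : lay (D.rest j) ≠ ⊥) : False := by
  set M := normalizer (lay (D.rest j) : Set G) with hM
  have hrj : D.rest j ≤ D.U w := D.rest_le_iff.2 fun i hi => (hι i).resolve_left hi ▸ le_rfl
  have hrw : D.U j ≤ D.rest w := D.U_le_rest hjw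
  have hfix := fun {g : G} (hg : g ∈ normalizer (A : Set G)) i => fix_two hS D hjw hι hg i
  have hAM : normalizer (A : Set G) ≤ M := le_normalizer_of_conj fun g hg x hx => by
    obtain ⟨k, hk⟩ := D.rest_perm hg j
    have hkj : k = j := by
      by_contra hne
      obtain ⟨e, he, he1⟩ := D.exists_ne j
      -- `g` moves `U w` into `rest k`, which is then `U j`
      obtain ⟨f, hf, hf1⟩ := D.exists_ne w
      have h1 : g * f * g⁻¹ ∈ D.rest k := (hk f).1 (D.U_le_rest hjw.symm hf)
      have h2 : g * f * g⁻¹ ∈ D.U w := (hfix hg w f).1 hf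
      have hkw : k = w := (hι k).resolve_left hne
      subst hkw
      exact hf1 (conj_eq_one_iff.1 (D.disj h2 h1))
    subst hkj
    refine lay_conj (fun y => ?_) hx
    simp only [cenS, mem_centralizer_iff, SetLike.mem_coe]
    constructor
    · intro h b hb
      have hb' : g⁻¹ * b * g ∈ D.rest k := (hk _).2 (by
        rwa [show g * (g⁻¹ * b * g) * g⁻¹ = b by group])
      calc b * (g * y * g⁻¹) = g * ((g⁻¹ * b * g) * y) * g⁻¹ := by group
        _ = g * y * g⁻¹ * b := by rw [h _ hb']; group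
    · intro h b hb
      have := h _ ((hk b).1 hb)
      rw [conj_mul, conj_mul] at this
      exact mul_left_cancel (mul_right_cancel this)
  have hBM : cenS (D.rest j) ≤ M := cenS_rest_le hS D hL hP hθ hAM le_normalizer
  have hFj : ∀ l ∈ D.F, l = j := fun l hl => (hι l).resolve_right fun e => hw (e ▸ hl)
  have hcore : ∀ a ∈ A, a ≠ 1 → ocen a ≤ M := fun a ha ha1 =>
    ocen_le hS D hL hP hθ ha ha1 hAM fun l hl => hFj l hl ▸ hBM
  have hwrest : D.U w ≤ D.rest j := D.U_le_rest hjw.symm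
  -- centralisers of the elements of the second block
  have hcenb : ∀ b ∈ D.U w, b ≠ 1 → cen b ≤ M := by
    intro b hb hb1
    have hbA := D.U_le w hb
    have h0 : ocen b = ⊥ := (hP.eq_ocen b hbA hb1 fun l hl => hFj l hl ▸ hwrest hb) ▸ hθ b hbA hb1
    have hz : zpowers b ≤ A := zpowers_le.2 hbA
    have hz1 : zpowers b ≠ ⊥ := fun h => hb1 (mem_bot.1 (h ▸ mem_zpowers b))
    refine (hL.cen_le hbA hb1).trans (sup_le (sup_le (hcore b hbA hb1) (iSup_le fun i => ?_))
      (inf_le_left.trans hAM))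
    rcases hι i with e | e <;> subst e
    · exact (hL.lay_mono hz i).trans le_normalizer
    · refine le_trans ?_ (centralizer_le_normalizer _)
      have := hL.comm _ hz hz1 (by rw [cor_zpowers, h0]; exact bot_le) i j hjw.symm
      rwa [sup_of_le_right (zpowers_le.2 (hwrest hb) : zpowers b ≤ D.rest j)] at this
  have htop : M ≠ ⊤ := by
    intro h
    rcases (normalizer_eq_top_iff.1 h).eq_bot_or_eq_top with hb | hb
    · exact hj hb
    · exact not_top_le_cenS hG (D.rest_ne j) (hb ▸ lay_le _)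
  obtain ⟨e, he, he1⟩ := D.exists_ne j
  obtain ⟨b, hb, hb1⟩ := D.exists_ne w
  have hne : ¬ IsConj e b := by
    intro h
    obtain ⟨n, hn, hne⟩ := hS.exists_conj (D.U_le j he) (D.U_le w hb) h
    exact hb1 (D.not_both hjw.symm hb (hne ▸ (hfix hn j e).1 he))
  refine not_class_mem he1 htop fun u hu => class_mem (fun x hx y hy => hS.comm hx hy)
    (hS.sq (D.U_le j he)) (hS.le (D.U_le w hb)) (hS.sq (D.U_le w hb)) hne (hcenb b hb hb1)
    (fun a ha hea => ?_) hu
  obtain ⟨c, hc⟩ := isConj_iff.1 hea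
  have haA : a ∈ A := (hS.mem a).2 ⟨ha, by
    rw [← hc, conj_mul, hS.sq (D.U_le j he), mul_one, mul_inv_cancel]⟩
  obtain ⟨n, hn, hna⟩ := hS.exists_conj (D.U_le j he) haA hea
  have haj : a ∈ D.U j := hna ▸ (hfix hn j e).1 he
  have hab : a * b ∈ A := mul_mem haA (D.U_le w hb)
  have hab1 : a * b ≠ 1 := fun h => hb1 (D.not_both hjw.symm hb (by
    rw [eq_inv_of_mul_eq_one_right h]; exact inv_mem haj))
  show cen (a * b) ≤ M
  refine (hL.cen_le hab hab1).trans (sup_le (sup_le (hcore _ hab hab1) (iSup_le fun i => ?_))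
    (inf_le_left.trans hAM))
  rcases hι i with e' | e' <;> subst e'
  · exact (hL.lay_mono (zpowers_le.2 hab) i).trans le_normalizer
  · refine (lay_le _).trans ((cen_le ?_).trans (hcenb b hb hb1))
    have := mul_mem (inv_mem (mem_sup_right (S := zpowers (a * b)) (hrw haj)))
      (mem_sup_left (T := D.rest i) (mem_zpowers (a * b)))
    rwa [inv_mul_cancel_left] at this

/-- Two blocks, both in `F`. -/
theorem pair_absurd (hG : ¬ IsMulCommutative G) {j w : D.ι} (hjw : j ≠ w)
    (hι : ∀ i, i = j ∨ i = w) (hj : j ∈ D.F) (hw : w ∈ D.F) : False := by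
  obtain ⟨e, he, he1⟩ := D.exists_ne j
  obtain ⟨f, hf, hf1⟩ := D.exists_ne w
  have hfix := fun {g : G} (hg : g ∈ normalizer (A : Set G)) i => fix_two hS D hjw hι hg i
  have hne : ¬ IsConj e f := by
    intro h
    obtain ⟨n, hn, hne⟩ := hS.exists_conj (D.U_le j he) (D.U_le w hf) h
    exact hf1 (D.not_both hjw.symm hf (hne ▸ (hfix hn j e).1 he))
  have hblock : ∀ {i : D.ι} {x a : G}, x ∈ D.U i → a ∈ (S : Subgroup G) → IsConj x a → a ∈ D.U i := by
    intro i x a hx ha hxa
    obtain ⟨c, hc⟩ := isConj_iff.1 hxa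
    have haA : a ∈ A := (hS.mem a).2 ⟨ha, by
      rw [← hc, conj_mul, hS.sq (D.U_le i hx), mul_one, mul_inv_cancel]⟩
    obtain ⟨n, hn, hna⟩ := hS.exists_conj (D.U_le i hx) haA hxa
    exact hna ▸ (hfix hn i x).1 hx
  refine not_class_commute hG he1 hf1 fun u hu => class_commute (fun x hx y hy => hS.comm hx hy)
    (hS.sq (D.U_le j he)) (hS.sq (D.U_le w hf)) hne
    (fun a ha b hb hea hfb u hu v hv hue hvf => ?_) hu (IsConj.refl f)
  have haj := hblock he ha hea
  have hbw := hblock hf hb hfb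
  have ha1 : a ≠ 1 := fun h => by subst h; exact he1 (isConj_one_left.1 hea)
  have hb1 : b ≠ 1 := fun h => by subst h; exact hf1 (isConj_one_left.1 hfb)
  set z := a * b with hz
  have hzA : z ∈ A := mul_mem (D.U_le j haj) (D.U_le w hbw)
  have hz1 : z ≠ 1 := fun h => ha1 (D.not_both hjw haj (by
    rw [eq_inv_of_mul_eq_one_left h]; exact inv_mem hbw))
  set O := ocen z with hO
  have hCN : cen z ≤ normalizer (O : Set G) := (OddDown.CoreSep.core_props z).2.1
  have hAO : A ≤ normalizer (O : Set G) := (hS.A_le_cen hzA).trans hCN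
  -- no components at a mixed involution
  have hzr : ∀ i, ¬ zpowers z ≤ D.rest i := by
    intro i h
    have hzi : z ∈ D.rest i := h (mem_zpowers z)
    rcases hι i with e' | e' <;> subst e'
    · refine ha1 (D.disj haj ?_)
      have := mul_mem hzi (inv_mem (D.U_le_rest hjw.symm hbw))
      rwa [hz, mul_inv_cancel_right] at this
    · refine hb1 (D.disj hbw ?_)
      have := mul_mem (inv_mem (D.U_le_rest hjw haj)) hzi
      rwa [hz, inv_mul_cancel_left] at this
  have hmix : cen z ≤ O ⊔ (normalizer (A : Set G) ⊓ cen z) :=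
    (hL.cen_le hzA hz1).trans (sup_le (sup_le le_sup_left (iSup_le fun i => by
      rw [hL.vanish i (by rcases hι i with e' | e' <;> subst e' <;> assumption) _
        (zpowers_le.2 hzA) (hzr i)]
      exact bot_le)) le_sup_right)
  have hsplit : ∀ {i : D.ι} {x y : G}, x ∈ D.U i → y ∈ cen z → IsConj x y →
      ∃ e' ∈ D.U i, ∃ o ∈ O, y = ⁅o, e'⁆ * e' := by
    intro i x y hx hy hxy
    obtain ⟨c, hc⟩ := isConj_iff.1 hxy
    have hy2 : y * y = 1 := by rw [← hc, conj_mul, hS.sq (D.U_le i hx), mul_one, mul_inv_cancel]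
    obtain ⟨g, hg, hgS⟩ := exists_conj_mem (fun x hx y hy => hS.comm hx hy) (hS.le hzA) hy2
      (mem_centralizer_singleton_iff.1 hy)
    have hgi : g * y * g⁻¹ ∈ D.U i := hblock hx hgS (hxy.trans (isConj_iff.2 ⟨g, rfl⟩))
    obtain ⟨o, ho, n, hn, hon⟩ := (SolvBasic.mem_sup_iff_of_le_normalizer
      (inf_le_right.trans hCN)).1 (hmix (inv_mem (mul_mem_cen hg)))
    refine ⟨n * (g * y * g⁻¹) * n⁻¹, (hfix hn.1 i _).1 hgi, o, ho, ?_⟩
    rw [commutatorElement_def]
    have hg' : g = (o * n)⁻¹ := by rw [← hon, inv_inv]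
    subst hg'
    group
  obtain ⟨e', he', o, ho, rfl⟩ := hsplit he hu hue
  obtain ⟨f', hf', p, hp, rfl⟩ := hsplit hf hv hvf
  have hjn : D.U j ≤ normalizer (O : Set G) := (D.U_le j).trans hAO
  have hwn : D.U w ≤ normalizer (O : Set G) := (D.U_le w).trans hAO
  have hboth : ∀ x ∈ ⁅O, D.U j⁆, x ∈ ⁅O, D.U w⁆ → x = 1 := fun x h1 h2 => by
    have hx : x ∈ D.theta z := by
      refine ⟨CoprimeAct.commutator_le_left hjn h1, mem_iInf.2 fun V => mem_sup_left ?_⟩
      rcases V.2 with ⟨l, -, l', -, -, e⟩ | ⟨l, -, hall, -⟩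
      · rw [e]
        rcases hι l with e' | e' <;> subst e' <;> assumption
      · exact absurd ((hall j hj).trans (hall w hw).symm) hjw
    rwa [hθ z hzA hz1, mem_bot] at hx
  set q := ⁅o, e'⁆ with hq
  set r := ⁅p, f'⁆ with hr
  have hqP : q ∈ ⁅O, D.U j⁆ := commutator_mem_commutator ho he'
  have hrP : r ∈ ⁅O, D.U w⁆ := commutator_mem_commutator hp hf'
  have hqO : q ∈ O := CoprimeAct.commutator_le_left hjn hqP
  have hrO : r ∈ O := CoprimeAct.commutator_le_left hwn hrP
  have nO : ∀ {i : D.ι}, A ⊔ O ≤ normalizer ((⁅O, D.U i⁆ : Subgroup G) : Set G) := fun {i} =>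
    sup_le (OddDown.FixedGen.le_normalizer_commutator' hAO (fun a ha => (centralizer_le_normalizer _)
      (mem_centralizer_iff.2 fun x hx => hS.comm_A (D.U_le i hx) ha)))
      (normalizer_commutator_ge_left _ _)
  have hconj : ∀ {i : D.ι} {x y : G}, x ∈ A ⊔ O → y ∈ ⁅O, D.U i⁆ → x * y * x⁻¹ ∈ ⁅O, D.U i⁆ :=
    fun {i x y} hx hy => (mem_normalizer_iff.1 (nO hx) y).1 hy
  have hqf : Commute q f' := commutatorElement_eq_one_iff_mul_comm.1 (hboth _
    (by
      rw [commutatorElement_def, show q * f' * q⁻¹ * f'⁻¹ = q * (f' * q⁻¹ * f'⁻¹) by group]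
      exact mul_mem hqP (hconj (mem_sup_left (D.U_le w hf')) (inv_mem hqP)))
    (commutator_mem_commutator hqO hf'))
  have hre : Commute r e' := commutatorElement_eq_one_iff_mul_comm.1 (hboth _
    (commutator_mem_commutator hrO he')
    (by
      rw [commutatorElement_def, show r * e' * r⁻¹ * e'⁻¹ = r * (e' * r⁻¹ * e'⁻¹) by group]
      exact mul_mem hrP (hconj (mem_sup_left (D.U_le j he')) (inv_mem hrP))))
  have hqr : Commute q r := commutatorElement_eq_one_iff_mul_comm.1 (hboth _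
    (by
      rw [commutatorElement_def, show q * r * q⁻¹ * r⁻¹ = q * (r * q⁻¹ * r⁻¹) by group]
      exact mul_mem hqP (hconj (mem_sup_right hrO) (inv_mem hqP)))
    (by
      rw [commutatorElement_def]
      exact mul_mem (hconj (mem_sup_right hqO) hrP) (inv_mem hrP)))
  have hef : Commute e' f' := hS.comm_A (D.U_le j he') (D.U_le w hf')
  exact ((hqr.mul_right hqf).mul_left (hre.symm.mul_right hef)).eq

omit hS hL hP hθ in
/-- The configuration with trivial closure does not occur. -/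
theorem trivial : TrivialStmt.{u} := by
  intro G _ _ _ S A hG hS D hL hP hθ
  by_cases h3 : ∀ j k : D.ι, ∃ l, l ≠ j ∧ l ≠ k
  · exact three_absurd hS D hL hP hθ hG h3
  push Not at h3
  obtain ⟨j, k, hjk⟩ := h3
  have hι : ∀ i, i = j ∨ i = k := fun i => (em (i = j)).imp_right (hjk i)
  have hne : j ≠ k := by
    rintro rfl
    obtain ⟨l, hl⟩ := D.two j
    exact hl (hjk l hl)
  by_cases hj : j ∈ D.F
  · by_cases hk : k ∈ D.F
    · exact pair_absurd hS D hL hP hθ hG hne hι hj hk
    · exact two_absurd hS D hL hP hθ hG hne hι hk (hL.full j hj)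
  by_cases hk : k ∈ D.F
  · exact two_absurd hS D hL hP hθ hG hne.symm (fun i => (hι i).symm) hj (hL.full k hk)
  obtain ⟨i, hi⟩ := hL.exists_lay hS
  rcases hι i with rfl | rfl
  · exact two_absurd hS D hL hP hθ hG hne hι hk hi
  · exact two_absurd hS D hL hP hθ hG hne.symm (fun l => (hι l).symm) hj hi

end Cfsg.Agent.Walter4
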