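import Cfsg.Agent.Lib.Walter4.LocalProof
import Cfsg.Agent.Lib.Walter4.KindProof
import Cfsg.Agent.Lib.Walter4.ApiProof
import Cfsg.Agent.Lib.Walter4.Nontrivial
import Cfsg.Agent.Lib.Walter4.TrivialMain
import Cfsg.Agent.Lib.Walter4.Assembly

/-!
No simple group with abelian Sylow 2-subgroups of rank at least four has a non-soluble centraliser of
an involution, if the smaller ones are known.
-/

set_option autoImplicit false
set_option linter.style.haveILetI false
set_option linter.unusedSectionVars false

namespace Cfsg.Agent.Walter4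

open Subgroup

universe u

theorem false_of_rank4 {G : Type u} [Group G] [Finite G] [IsSimpleGroup G] (hna : ¬ IsMulCommutative G)
    (S : Sylow 2 G) (hS : IsMulCommutative ↥(S : Subgroup G)) (hI : Ind G)
    (h16 : 16 ≤ Nat.card {x : (S : Subgroup G) // x * x = 1}) {t : G} (ht : orderOf t = 2)
    (hns : ¬ Group.IsSolvable ↥(centralizer ({t} : Set G))) : False := by
  haveI : Fact (Nat.Prime 2) := ⟨Nat.prime_two⟩
  have hcomm : ∀ {x y : G}, x ∈ (S : Subgroup G) → y ∈ (S : Subgroup G) → x * y = y * x := fun hx hy =>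
    congrArg Subtype.val (hS.is_comm.comm (⟨_, hx⟩ : (S : Subgroup G)) ⟨_, hy⟩)
  let A : Subgroup G :=
    { carrier := {x | x ∈ (S : Subgroup G) ∧ x * x = 1}
      mul_mem' := fun {x y} hx hy => ⟨mul_mem hx.1 hy.1, by
        rw [mul_assoc, ← mul_assoc y x y, hcomm hy.1 hx.1, mul_assoc x y y, hy.2, mul_one, hx.2]⟩
      one_mem' := ⟨one_mem _, one_mul 1⟩
      inv_mem' := fun {x} hx => ⟨inv_mem hx.1, by rw [← mul_inv_rev, hx.2, inv_one]⟩ }
  have hbig : 16 ≤ Nat.card A := by
    refine h16.trans (Nat.card_le_card_of_injective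
      (fun x => (⟨(x.1 : G), x.1.2, congrArg Subtype.val x.2⟩ : A)) fun x y h => ?_)
    have h' : (x.1 : G) = (y.1 : G) := congrArg (fun z : A => (z : G)) h
    exact Subtype.ext (Subtype.ext h')
  -- an involution of `A` with a non-soluble centraliser
  obtain ⟨P, hP⟩ := (IsPGroup.of_card (n := 1) (p := 2)
    (by rw [Nat.card_zpowers, ht, pow_one]) : IsPGroup 2 (zpowers t)).exists_le_sylow
  obtain ⟨g, hg⟩ := MulAction.exists_smul_eq G P S
  have haS : g * t * g⁻¹ ∈ (S : Subgroup G) := by
    rw [← hg, Sylow.coe_subgroup_smul]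
    exact ⟨t, hP (mem_zpowers t), rfl⟩
  have ha2 : g * t * g⁻¹ * (g * t * g⁻¹) = 1 := by
    rw [conj_mul, ← pow_two, ← ht, pow_orderOf_eq_one, mul_one, mul_inv_cancel]
  have hset : Setting S A := by
    refine ⟨hS, fun x => Iff.rfl, hbig, g * t * g⁻¹, ⟨haS, ha2⟩, fun e => ?_, fun h => hns ?_⟩
    · rw [conj_eq_one_iff.1 e, orderOf_one] at ht
      exact absurd ht (by norm_num)
    · refine (Components.isSolvable_congr ?_).2 h
      have e : (centralizer ({t} : Set G)).map (MulAut.conj g).toMonoidHom =
          centralizer ({g * t * g⁻¹} : Set G) := by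
        have := Components.map_centralizer_equiv (MulAut.conj g) (zpowers t)
        rw [MonoidHom.map_zpowers] at this
        simpa [zpowers_eq_closure, centralizer_closure] using this
      exact (equivMapOfInjective _ _ (MulAut.conj g).injective).trans (MulEquiv.subgroupCongr e)
  have hC : Ctx S A := ⟨hset, ‹_›, hna, hI, kindStmt⟩
  have hL := hC.local_blocks
  have hApi := hC.blocks.api hset hL
  exact trivial G S A hna hset hC.blocks hL hApi (nontrivial G S A hna hset hC.blocks hL hApi)

/-- The configuration of rank at least four does not occur. -/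
theorem rank4Stmt : Rank4Stmt.{u} :=
  fun _ _ _ _ hna S hS hI h16 _ ht hns => false_of_rank4 hna S hS hI h16 ht hns

/-- The simple groups with abelian Sylow 2-subgroups. -/
theorem good : GoodStmt.{u} := goodStmt kindStmt rank4Stmt

end Cfsg.Agent.Walter4
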