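import Cfsg.Agent.Lib.Walter4.Comb
import Mathlib.GroupTheory.GroupAction.Basic
import Mathlib.GroupTheory.Index

/-!
The counting statement on systems: any two distinct pairs of a system are orthogonal.
-/

set_option autoImplicit false
set_option linter.style.haveILetI false
set_option linter.unusedSectionVars false

namespace Cfsg.Agent.Walter4.CombAux

open Subgroup

universe u

variable {G : Type u} [Group G]

/-- The conjugate of a subgroup. -/
def cj (g : G) (X : Subgroup G) : Subgroup G := X.map (MulAut.conj g).toMonoidHom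

/-- The conjugate of a pair. -/
def cp (g : G) (p : Subgroup G × Subgroup G) : Subgroup G × Subgroup G := (cj g p.1, cj g p.2)

theorem mem_cj {g x : G} {X : Subgroup G} : x ∈ cj g X ↔ g⁻¹ * x * g ∈ X := by
  rw [cj, Subgroup.mem_map_equiv, MulAut.conj_symm_apply]

theorem conj_mem_cj {g x : G} {X : Subgroup G} (hx : x ∈ X) : g * x * g⁻¹ ∈ cj g X :=
  mem_cj.2 (by simpa [mul_assoc] using hx)

theorem cj_one (X : Subgroup G) : cj 1 X = X := by
  ext x; simp [mem_cj]

theorem cj_mul (g h : G) (X : Subgroup G) : cj (g * h) X = cj g (cj h X) := by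
  ext x
  simp only [mem_cj, mul_inv_rev, mul_assoc]

theorem cp_one (p : Subgroup G × Subgroup G) : cp 1 p = p := by simp [cp, cj_one]

theorem cp_mul (g h : G) (p : Subgroup G × Subgroup G) : cp (g * h) p = cp g (cp h p) := by
  simp [cp, cj_mul]

theorem cj_le_iff {g : G} {X Y : Subgroup G} : cj g X ≤ cj g Y ↔ X ≤ Y :=
  Subgroup.map_le_map_iff_of_injective (MulAut.conj g).injective

theorem cj_eq_self {g : G} {X : Subgroup G} (h : g ∈ normalizer (X : Set G)) : cj g X = X := by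
  ext x
  rw [mem_cj, (mem_normalizer_iff.1 (inv_mem h)) x, inv_inv]

theorem card_cj (g : G) (X : Subgroup G) : Nat.card (cj g X) = Nat.card X :=
  Subgroup.card_map_of_injective (MulAut.conj g).injective

variable {A : Subgroup G} {P : Set (Subgroup G × Subgroup G)} (h : SysSet A P)

include h

theorem le_left {p : Subgroup G × Subgroup G} (hp : p ∈ P) {x : G} (hx : x ∈ p.1) : x ∈ A :=
  (h.sub p hp).1 hx

theorem le_right {p : Subgroup G × Subgroup G} (hp : p ∈ P) {x : G} (hx : x ∈ p.2) : x ∈ A :=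
  (h.sub p hp).2 hx

theorem eq_one {p : Subgroup G × Subgroup G} (hp : p ∈ P) {x : G} (h1 : x ∈ p.1) (h2 : x ∈ p.2) : x = 1 :=
  Subgroup.mem_bot.1 (h.inf p hp ▸ Subgroup.mem_inf.2 ⟨h1, h2⟩)

theorem inv_eq {x : G} (hx : x ∈ A) : x⁻¹ = x := inv_eq_of_mul_eq_one_right (h.sq x hx)

theorem mul_comm4 {a b c d : G} (hb : b ∈ A) (hc : c ∈ A) : a * b * (c * d) = a * c * (b * d) := by
  rw [mul_assoc a b, ← mul_assoc b c d, h.comm b hb c hc, mul_assoc c b d, ← mul_assoc a c]

/-- The decomposition of an element. -/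
theorem decomp {p : Subgroup G × Subgroup G} (hp : p ∈ P) {a : G} (ha : a ∈ A) :
    ∃ u ∈ p.1, ∃ w ∈ p.2, a = u * w := by
  let K : Subgroup G :=
    { carrier := {a | ∃ u ∈ p.1, ∃ w ∈ p.2, a = u * w}
      one_mem' := ⟨1, one_mem _, 1, one_mem _, by simp⟩
      mul_mem' := by
        rintro a b ⟨u, hu, w, hw, rfl⟩ ⟨u', hu', w', hw', rfl⟩
        exact ⟨u * u', mul_mem hu hu', w * w', mul_mem hw hw',
          mul_comm4 h (le_right h hp hw) (le_left h hp hu')⟩
      inv_mem' := by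
        rintro a ⟨u, hu, w, hw, rfl⟩
        refine ⟨u⁻¹, inv_mem hu, w⁻¹, inv_mem hw, ?_⟩
        rw [mul_inv_rev, h.comm _ (inv_mem (le_right h hp hw)) _ (inv_mem (le_left h hp hu))] }
  have hle : p.1 ⊔ p.2 ≤ K :=
    sup_le (fun u hu => ⟨u, hu, 1, one_mem _, (mul_one u).symm⟩)
      (fun w hw => ⟨1, one_mem _, w, hw, (one_mul w).symm⟩)
  rw [h.sup p hp] at hle
  exact hle ha

/-- The order of `A` is the product. -/
theorem card_eq {p : Subgroup G × Subgroup G} (hp : p ∈ P) :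
    Nat.card p.1 * Nat.card p.2 = Nat.card A := by
  rw [← Nat.card_prod]
  refine Nat.card_eq_of_bijective
    (fun x : p.1 × p.2 => (⟨x.1 * x.2, mul_mem (le_left h hp x.1.2) (le_right h hp x.2.2)⟩ : A)) ⟨?_, ?_⟩
  · rintro ⟨u, w⟩ ⟨u', w'⟩ e
    have e' : (u : G) * w = u' * w' := congrArg Subtype.val e
    have hmem : (u' : G)⁻¹ * u = w' * (w : G)⁻¹ := by
      calc (u' : G)⁻¹ * u = (u' : G)⁻¹ * (u * w) * (w : G)⁻¹ := by group
        _ = _ := by rw [e']; group
    have h1 := eq_one h hp (mul_mem (inv_mem u'.2) u.2) (hmem ▸ mul_mem w'.2 (inv_mem w.2))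
    have hu : (u : G) = u' := (inv_mul_eq_one.1 h1).symm
    rw [hu] at e'
    exact Prod.ext (Subtype.ext hu) (Subtype.ext (mul_left_cancel e'))
  · rintro ⟨a, ha⟩
    obtain ⟨u, hu, w, hw, rfl⟩ := decomp h hp ha
    exact ⟨(⟨u, hu⟩, ⟨w, hw⟩), rfl⟩

/-- The second member determines the pair. -/
theorem snd_inj {p q : Subgroup G × Subgroup G} (hp : p ∈ P) (hq : q ∈ P) (e : p.2 = q.2) : p = q := by
  by_contra hne
  obtain ⟨h1, -⟩ := h.share p hp q hq hne (by rw [e, inf_idem]; exact h.ne q hq)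
  rw [e] at h1
  have h4 := h.four q hq
  have : q.1 = ⊥ := eq_bot_iff.2 fun x hx => Subgroup.mem_bot.2 (eq_one h hq hx (h1 hx))
  rw [this, Subgroup.card_bot] at h4
  omega

theorem cp_fix {g : G} (hg : g ∈ centralizer (A : Set G)) {p : Subgroup G × Subgroup G} (hp : p ∈ P) :
    cp g p = p := by
  have key : ∀ X : Subgroup G, X ≤ A → cj g X = X := by
    intro X hX
    have : ∀ x ∈ X, g⁻¹ * x * g = x := fun x hx => by
      rw [mul_assoc, mem_centralizer_iff.1 hg x (hX hx), inv_mul_cancel_left]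
    ext x
    rw [mem_cj]
    refine ⟨fun hx => ?_, fun hx => (this x hx).symm ▸ hx⟩
    have h2 : g * (g⁻¹ * x * g) = g⁻¹ * x * g * g := (mem_centralizer_iff.1 hg _ (hX hx)).symm
    have h3 : g⁻¹ * x * g = x := by
      apply mul_right_cancel (b := g)
      rw [← h2]; group
    exact h3 ▸ hx
  exact Prod.ext (key _ (h.sub p hp).1) (key _ (h.sub p hp).2)

theorem cp_mem {g : G} (hg : g ∈ normalizer (A : Set G)) {p : Subgroup G × Subgroup G} (hp : p ∈ P) :
    cp g p ∈ P := h.inv g hg p hp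

omit h in
theorem normal_cent : ((centralizer (A : Set G)).subgroupOf (normalizer (A : Set G))).Normal :=
  ⟨fun x hx g => by
    refine mem_centralizer_iff.2 fun t ht => ?_
    have h1 : (g : G)⁻¹ * t * g ∈ A := by
      have := (mem_normalizer_iff.1 (inv_mem g.2) t).1 ht
      rwa [inv_inv] at this
    have h2 : ((g : G)⁻¹ * t * g) * (x : G) = x * ((g : G)⁻¹ * t * g) := mem_centralizer_iff.1 hx _ h1
    change t * ((g : G) * x * (g : G)⁻¹) = (g : G) * x * (g : G)⁻¹ * t
    calc t * ((g : G) * x * (g : G)⁻¹) = g * (((g : G)⁻¹ * t * g) * x) * (g : G)⁻¹ := by group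
      _ = g * ((x : G) * ((g : G)⁻¹ * t * g)) * (g : G)⁻¹ := by rw [h2]
      _ = g * x * (g : G)⁻¹ * t := by group⟩

/-- No element interchanges two pairs. -/
theorem no_swap {g : G} (hg : g ∈ normalizer (A : Set G)) {p q : Subgroup G × Subgroup G} (hp : p ∈ P)
    (h1 : cp g p = q) (h2 : cp g q = p) : p = q := by
  haveI := normal_cent (A := A)
  have hk : g ^ (centralizer (A : Set G)).relIndex (normalizer (A : Set G)) ∈ centralizer (A : Set G) :=
    Subgroup.pow_index_mem ((centralizer (A : Set G)).subgroupOf (normalizer (A : Set G))) ⟨g, hg⟩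
  obtain ⟨i, hi⟩ := h.odd
  have hev : ∀ j, cp (g ^ (2 * j)) p = p := by
    intro j
    induction j with
    | zero => rw [mul_zero, pow_zero, cp_one]
    | succ j ih => rw [show 2 * (j + 1) = 2 * j + 2 by ring, pow_add, cp_mul, pow_two, cp_mul, h1, h2, ih]
  have h3 := cp_fix h hk hp
  rw [hi, pow_succ', cp_mul, hev, h1] at h3
  exact h3.symm

/-- The orbit of a pair. -/
def orb (A : Subgroup G) (p : Subgroup G × Subgroup G) : Set (Subgroup G × Subgroup G) :=
  {q | ∃ g ∈ normalizer (A : Set G), cp g p = q}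

omit h in
theorem self_orb (p : Subgroup G × Subgroup G) : p ∈ orb A p := ⟨1, one_mem _, cp_one p⟩

omit h in
theorem orb_trans {p q q' : Subgroup G × Subgroup G} (hq : q ∈ orb A p) (hq' : q' ∈ orb A p) :
    ∃ g ∈ normalizer (A : Set G), cp g q = q' := by
  obtain ⟨a, ha, rfl⟩ := hq
  obtain ⟨b, hb, rfl⟩ := hq'
  exact ⟨b * a⁻¹, mul_mem hb (inv_mem ha), by rw [← cp_mul, inv_mul_cancel_right]⟩

omit h in
theorem orb_cp {p q : Subgroup G × Subgroup G} (hq : q ∈ orb A p) {g : G}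
    (hg : g ∈ normalizer (A : Set G)) : cp g q ∈ orb A p := by
  obtain ⟨a, ha, rfl⟩ := hq
  exact ⟨g * a, mul_mem hg ha, cp_mul g a p⟩

theorem orb_sub {p q : Subgroup G × Subgroup G} (hp : p ∈ P) (hq : q ∈ orb A p) : q ∈ P := by
  obtain ⟨a, ha, rfl⟩ := hq
  exact cp_mem h ha hp

theorem orb_odd {p : Subgroup G × Subgroup G} (hp : p ∈ P) : Odd (orb A p).ncard := by
  letI : MulAction (normalizer (A : Set G)) (Subgroup G × Subgroup G) :=
    { smul := fun g q => cp (g : G) q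
      one_smul := fun q => cp_one q
      mul_smul := fun g g' q => cp_mul (g : G) g' q }
  have he : orb A p = MulAction.orbit (normalizer (A : Set G)) p := by
    ext q
    constructor
    · rintro ⟨g, hg, rfl⟩; exact ⟨⟨g, hg⟩, rfl⟩
    · rintro ⟨g, rfl⟩; exact ⟨g, g.2, rfl⟩
  rw [he, ← MulAction.index_stabilizer]
  have hle : (centralizer (A : Set G)).subgroupOf (normalizer (A : Set G)) ≤
      MulAction.stabilizer (normalizer (A : Set G)) p := fun g hg => cp_fix h hg hp
  exact Odd.of_dvd_nat h.odd (Subgroup.index_dvd_of_le hle)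

/-- The cyclic group of a pair. -/
theorem regular [Finite G] {p : Subgroup G × Subgroup G} (hp : p ∈ P) : ∃ D : Subgroup G,
    D ≤ normalizer (A : Set G) ∧ (∀ d ∈ D, cp d p = p) ∧ (∀ d ∈ D, ∀ w ∈ p.2, d * w = w * d) ∧
    (∀ x ∈ p.1, x ≠ 1 → ∀ y ∈ p.1, y ≠ 1 → ∃ d ∈ D, d * x * d⁻¹ = y) ∧
    (∀ d ∈ D, ∀ x ∈ p.1, x ≠ 1 → d * x * d⁻¹ = x → ∀ y ∈ p.1, d * y * d⁻¹ = y) := by
  obtain ⟨k, hkA, hkU, hkW, htr, hsemi⟩ := h.reg p hp
  have hD : ∀ d ∈ zpowers k, ∃ i : ℕ, k ^ i = d := fun d hd =>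
    (Submonoid.mem_powers_iff _ _).1 (mem_powers_iff_mem_zpowers.2 hd)
  refine ⟨zpowers k, zpowers_le.2 hkA, fun d hd => ?_, fun d hd w hw => ?_, fun x hx hx1 y hy hy1 => ?_,
    fun d hd x hx hx1 e y hy => ?_⟩
  · refine Prod.ext (cj_eq_self (zpowers_le.2 hkU hd)) (cj_eq_self ?_)
    refine zpowers_le.2 ?_ hd
    refine mem_normalizer_iff.2 fun z => ⟨fun hz => ?_, fun hz => ?_⟩
    · rwa [hkW z hz, mul_inv_cancel_right]
    · have h1 := hkW _ hz
      have h2 : k * z * k⁻¹ = z := by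
        apply mul_left_cancel (a := k)
        rw [h1]; group
      rwa [h2] at hz
  · obtain ⟨i, rfl⟩ := hD d hd
    exact (Commute.pow_left (hkW w hw) i).eq
  · obtain ⟨i, hi⟩ := htr x hx hx1 y hy hy1
    exact ⟨_, npow_mem_zpowers k i, hi⟩
  · obtain ⟨i, rfl⟩ := hD d hd
    exact hsemi i x hx hx1 e y hy

variable [Fintype G]

open scoped Classical in
/-- The points of a subgroup. -/
noncomputable def pts (X : Subgroup G) : Finset G := Finset.univ.filter (· ∈ X)

omit h in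
theorem card_pts (X : Subgroup G) : (pts X).card = Nat.card X := by
  classical
  rw [Nat.card_eq_fintype_card, pts, Fintype.card_subtype]

omit h in
theorem mem_pts {X : Subgroup G} {x : G} : x ∈ pts X ↔ x ∈ X := by simp [pts]

omit h in
theorem card_pts_erase [DecidableEq G] (X : Subgroup G) : ((pts X).erase 1).card = Nat.card X - 1 := by
  rw [Finset.card_erase_of_mem (mem_pts.2 X.one_mem), card_pts]

theorem even_card {p : Subgroup G × Subgroup G} (hp : p ∈ P) {X : Subgroup G} (hX : X ≤ A) (h1 : X ≠ ⊥) :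
    2 ∣ Nat.card X := by
  obtain ⟨x, hx, hx1⟩ := (Subgroup.bot_or_exists_ne_one X).resolve_left h1
  have ho : orderOf x = 2 := orderOf_eq_prime (by rw [pow_two]; exact h.sq x (hX hx)) hx1
  exact ho ▸ Subgroup.orderOf_dvd_natCard X hx

omit h in
theorem card_le_of_inf {B C : Subgroup G} (hB : B ≤ A) (hC : C ≤ A) (hBC : B ⊓ C = ⊥) :
    Nat.card B * Nat.card C ≤ Nat.card A := by
  rw [← Nat.card_prod]
  refine Nat.card_le_card_of_injective
    (fun x : B × C => (⟨x.1 * x.2, mul_mem (hB x.1.2) (hC x.2.2)⟩ : A)) ?_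
  rintro ⟨u, w⟩ ⟨u', w'⟩ e
  have e' : (u : G) * w = u' * w' := congrArg Subtype.val e
  have hmem : (u' : G)⁻¹ * u = w' * (w : G)⁻¹ := by
    calc (u' : G)⁻¹ * u = (u' : G)⁻¹ * (u * w) * (w : G)⁻¹ := by group
      _ = _ := by rw [e']; group
  have h1 : (u' : G)⁻¹ * u = 1 := Subgroup.mem_bot.1
    (hBC ▸ Subgroup.mem_inf.2 ⟨mul_mem (inv_mem u'.2) u.2, hmem ▸ mul_mem w'.2 (inv_mem w.2)⟩)
  have hu : (u : G) = u' := (inv_mul_eq_one.1 h1).symm
  rw [hu] at e'
  exact Prod.ext (Subtype.ext hu) (Subtype.ext (mul_left_cancel e'))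

/-- A conjugate of a member not inside `U` is different, unless the element acts trivially on `U`. -/
theorem free {p q : Subgroup G × Subgroup G} (hp : p ∈ P) (hq : q ∈ P) (hd0 : p.2 ⊓ q.2 = ⊥)
    (hn : ¬ q.2 ≤ p.1) {d : G} (hfix : cp d p = p) (hW : ∀ w ∈ p.2, d * w = w * d)
    (hsemi : ∀ x ∈ p.1, x ≠ 1 → d * x * d⁻¹ = x → ∀ y ∈ p.1, d * y * d⁻¹ = y)
    (hd : cj d q.2 = q.2) : ∀ x ∈ p.1, d * x * d⁻¹ = x := by
  by_contra hne
  simp only [not_forall] at hne
  obtain ⟨x0, hx0, hne⟩ := hne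
  refine hn fun a ha => ?_
  have hU : ∀ x ∈ p.1, d * x * d⁻¹ ∈ p.1 := fun x hx => by
    have : d * x * d⁻¹ ∈ cj d p.1 := conj_mem_cj hx
    rwa [show cj d p.1 = p.1 from congrArg Prod.fst hfix] at this
  have hker : ∀ a ∈ q.2, d * a * d⁻¹ = a → a = 1 := by
    intro a ha e
    obtain ⟨u, hu, w, hw, rfl⟩ := decomp h hp (le_right h hq ha)
    have hc : d * (u * w) * d⁻¹ = d * u * d⁻¹ * w := by
      rw [show d * (u * w) * d⁻¹ = d * u * d⁻¹ * (d * w * d⁻¹) by group, hW w hw, mul_inv_cancel_right]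
    rw [hc] at e
    have hu1 : u = 1 := by
      by_contra hu1
      exact hne (hsemi u hu hu1 (mul_right_cancel e) x0 hx0)
    rw [hu1, one_mul] at ha ⊢
    exact Subgroup.mem_bot.1 (hd0 ▸ Subgroup.mem_inf.2 ⟨hw, ha⟩)
  have hmem : ∀ a : q.2, d * (a : G) * d⁻¹ * (a : G) ∈ p.1 ⊓ q.2 := by
    intro a
    have h1 : d * (a : G) * d⁻¹ ∈ q.2 := by
      have : d * (a : G) * d⁻¹ ∈ cj d q.2 := conj_mem_cj a.2
      rwa [hd] at this
    refine Subgroup.mem_inf.2 ⟨?_, mul_mem h1 a.2⟩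
    obtain ⟨u, hu, w, hw, e⟩ := decomp h hp (le_right h hq a.2)
    rw [e, show d * (u * w) * d⁻¹ = d * u * d⁻¹ * (d * w * d⁻¹) by group, hW w hw, mul_inv_cancel_right,
      mul_comm4 h (le_right h hp hw) (le_left h hp hu), h.sq w (le_right h hp hw), mul_one]
    exact mul_mem (hU u hu) hu
  let F : q.2 → (p.1 ⊓ q.2 : Subgroup G) := fun a => ⟨_, hmem a⟩
  have hF : Function.Injective F := by
    intro a b e
    have e' : d * (a : G) * d⁻¹ * (a : G) = d * (b : G) * d⁻¹ * (b : G) := congrArg Subtype.val e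
    refine Subtype.ext ?_
    have hab : (a : G) * b ∈ q.2 := mul_mem a.2 b.2
    have hb := le_right h hq b.2
    have hz : d * ((a : G) * b) * d⁻¹ = (a : G) * b := by
      have h1 : d * (a : G) * d⁻¹ ∈ A := le_right h hq (by
        have : d * (a : G) * d⁻¹ ∈ cj d q.2 := conj_mem_cj a.2
        rwa [hd] at this)
      calc d * ((a : G) * b) * d⁻¹ = d * a * d⁻¹ * (d * b * d⁻¹ * b) * (b : G)⁻¹ := by group
        _ = d * a * d⁻¹ * (d * a * d⁻¹ * a) * b := by rw [← e', inv_eq h hb]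
        _ = (d * a * d⁻¹ * (d * a * d⁻¹)) * (a * b) := by group
        _ = (a : G) * b := by rw [h.sq _ h1, one_mul]
    have := hker _ hab hz
    calc (a : G) = a * (b * b) := by rw [h.sq _ hb, mul_one]
      _ = b := by rw [← mul_assoc, this, one_mul]
  have := Subgroup.eq_of_le_of_card_ge (inf_le_right : p.1 ⊓ q.2 ≤ q.2)
    (Nat.card_le_card_of_injective F hF)
  exact (Subgroup.mem_inf.1 (this.symm ▸ ha : a ∈ p.1 ⊓ q.2)).1

section Orbit

variable {O : Finset (Subgroup G × Subgroup G)} {p0 : Subgroup G × Subgroup G} (hp0 : p0 ∈ P)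
  (hO : ∀ q, q ∈ O ↔ q ∈ orb A p0) (hdis : ∀ a ∈ O, ∀ b ∈ O, a ≠ b → a.2 ⊓ b.2 = ⊥) (hm : 1 < O.card)

include hp0 hO hdis hm

theorem memP {q : Subgroup G × Subgroup G} (hq : q ∈ O) : q ∈ P := orb_sub h hp0 ((hO q).1 hq)

open scoped Classical in
/-- The numbers of members inside and outside. -/
theorem suborbits {p : Subgroup G × Subgroup G} (hpO : p ∈ O) :
    ((O.erase p).filter fun q => ¬ q.2 ≤ p.1).card = Nat.card p.1 - 1 ∧
    ((O.erase p).filter fun q => q.2 ≤ p.1).card * (Nat.card p.2 - 1) = Nat.card p.1 - 1 ∧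
    ∀ q ∈ O.erase p, ∀ q' ∈ O.erase p, (q.2 ≤ p.1 ↔ q'.2 ≤ p.1) →
      ∃ d ∈ normalizer (A : Set G), cp d p = p ∧ cp d q = q' := by
  have hp := memP h hp0 hO hdis hm hpO
  obtain ⟨D, hDN, hDp, hDW, hDtr, hDsemi⟩ := regular h hp
  set F := (O.erase p).filter fun q => ¬ q.2 ≤ p.1 with hFdef
  set I := (O.erase p).filter fun q => q.2 ≤ p.1 with hIdef
  have hkeep : ∀ d ∈ D, ∀ q ∈ O.erase p,
      cp d q ∈ O.erase p ∧ ((cp d q).2 ≤ p.1 ↔ q.2 ≤ p.1) := by
    intro d hd q hq
    obtain ⟨hne, hqO⟩ := Finset.mem_erase.1 hq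
    refine ⟨Finset.mem_erase.2 ⟨fun e => hne ?_, (hO _).2 (orb_cp ((hO q).1 hqO) (hDN hd))⟩, ?_⟩
    · have := congrArg (cp d⁻¹) e
      rwa [← cp_mul, inv_mul_cancel, cp_one, hDp _ (inv_mem hd)] at this
    · conv_lhs => rhs; rw [← congrArg Prod.fst (hDp d hd)]
      exact cj_le_iff
  have hdp : ∀ q ∈ O.erase p, p.2 ⊓ q.2 = ⊥ := fun q hq =>
    hdis p hpO q (Finset.mem_erase.1 hq).2 (Finset.mem_erase.1 hq).1.symm
  obtain ⟨x0, hx0, hx01⟩ := (Subgroup.bot_or_exists_ne_one p.1).resolve_left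
    (fun e => by have := h.four p hp; rw [e, Subgroup.card_bot] at this; omega)
  -- the orbits outside
  have hcent : ∀ d ∈ D, d * x0 * d⁻¹ = x0 → ∀ q ∈ P, cp d q = q := by
    intro d hd e q hq
    have hU := hDsemi d hd x0 hx0 hx01 e
    refine cp_fix h (mem_centralizer_iff.2 fun a ha => ?_) hq
    obtain ⟨u, hu, w, hw, rfl⟩ := decomp h hp ha
    have h1 : d * u = u * d := by
      calc d * u = d * u * d⁻¹ * d := by group
        _ = u * d := by rw [hU u hu]
    rw [← mul_assoc, h1, mul_assoc u w d, ← hDW d hd w hw, ← mul_assoc]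
  have hex : ∀ y ∈ (pts p.1).erase 1, ∃ d ∈ D, d * x0 * d⁻¹ = y := fun y hy =>
    hDtr x0 hx0 hx01 y (mem_pts.1 (Finset.mem_erase.1 hy).2) (Finset.mem_erase.1 hy).1
  choose δ hδ hδx using hex
  set T : Subgroup G × Subgroup G → Finset (Subgroup G × Subgroup G) := fun q =>
    (pts D).image fun d => cp d q with hT
  have hmemT : ∀ q a, a ∈ T q ↔ ∃ d ∈ D, cp d q = a := fun q a => by simp [hT, mem_pts]
  have horbit : ∀ q ∈ F, T q ⊆ F ∧ (T q).card = Nat.card p.1 - 1 := by
    intro q hqF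
    obtain ⟨hq, hqn⟩ := Finset.mem_filter.1 hqF
    have hqP := memP h hp0 hO hdis hm (Finset.mem_erase.1 hq).2
    refine ⟨fun a ha => ?_, ?_⟩
    · obtain ⟨d, hd, rfl⟩ := (hmemT q a).1 ha
      have := hkeep d hd q hq
      exact Finset.mem_filter.2 ⟨this.1, fun e => hqn (this.2.1 e)⟩
    · have himg : T q = ((pts p.1).erase 1).attach.image fun y => cp (δ y.1 y.2) q := by
        ext a
        rw [hmemT, Finset.mem_image]
        constructor
        · rintro ⟨d, hd, rfl⟩
          have hy : d * x0 * d⁻¹ ∈ (pts p.1).erase 1 := by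
            refine Finset.mem_erase.2 ⟨fun e => hx01 (conj_eq_one_iff.1 e), mem_pts.2 ?_⟩
            have := conj_mem_cj (g := d) hx0
            rwa [show cj d p.1 = p.1 from congrArg Prod.fst (hDp d hd)] at this
          refine ⟨⟨_, hy⟩, Finset.mem_attach _ _, ?_⟩
          have hfix : d⁻¹ * δ _ hy * x0 * (d⁻¹ * δ _ hy)⁻¹ = x0 := by
            calc d⁻¹ * δ _ hy * x0 * (d⁻¹ * δ _ hy)⁻¹ = d⁻¹ * (δ _ hy * x0 * (δ _ hy)⁻¹) * d := by group
              _ = x0 := by rw [hδx]; group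
          have := congrArg (cp d) (hcent _ (mul_mem (inv_mem hd) (hδ _ hy)) hfix q hqP)
          rwa [← cp_mul, mul_inv_cancel_left] at this
        · rintro ⟨y, -, rfl⟩
          exact ⟨_, hδ y.1 y.2, rfl⟩
      have hinj : ∀ y y' : {x // x ∈ (pts p.1).erase 1}, cp (δ y.1 y.2) q = cp (δ y'.1 y'.2) q → y = y' := by
        intro y y' e
        have hdD : (δ y'.1 y'.2)⁻¹ * δ y.1 y.2 ∈ D := mul_mem (inv_mem (hδ _ _)) (hδ _ _)
        have hdq : cj ((δ y'.1 y'.2)⁻¹ * δ y.1 y.2) q.2 = q.2 := by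
          have := congrArg (cp (δ y'.1 y'.2)⁻¹) e
          rw [← cp_mul, ← cp_mul, inv_mul_cancel, cp_one] at this
          exact congrArg Prod.snd this
        have hf := free h hp hqP (hdp q hq) hqn (hDp _ hdD) (hDW _ hdD) (hDsemi _ hdD) hdq x0 hx0
        refine Subtype.ext ?_
        calc y.1 = δ y.1 y.2 * x0 * (δ y.1 y.2)⁻¹ := (hδx _ _).symm
          _ = δ y'.1 y'.2 * ((δ y'.1 y'.2)⁻¹ * δ y.1 y.2 * x0 * ((δ y'.1 y'.2)⁻¹ * δ y.1 y.2)⁻¹) *
              (δ y'.1 y'.2)⁻¹ := by group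
          _ = y'.1 := by rw [hf, hδx]
      rw [himg, Finset.card_image_of_injective _ (fun y y' e => hinj y y' e), Finset.card_attach, card_pts_erase]
  -- all of the same size
  have hcardW : ∀ q ∈ O, Nat.card q.2 = Nat.card p.2 := by
    intro q hq
    obtain ⟨g, -, rfl⟩ := orb_trans ((hO p).1 hpO) ((hO q).1 hq)
    exact card_cj g p.2
  have hW2 : 2 ≤ Nat.card p.2 := by
    have := even_card h hp (h.sub p hp).2 (h.ne p hp)
    have := Nat.card_pos (α := p.2)
    omega
  have hU4 := h.four p hp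
  -- count the points outside
  have hFcount : F.card * Nat.card p.2 ≤ 2 * ((Nat.card p.1 - 1) * (Nat.card p.2 - 1)) := by
    set E := pts A \ (pts p.1 ∪ pts p.2) with hE
    have hEc : E.card = (Nat.card p.1 - 1) * (Nat.card p.2 - 1) := by
      have hsub : pts p.1 ∪ pts p.2 ⊆ pts A := by
        intro x hx
        rcases Finset.mem_union.1 hx with hx | hx <;> rw [mem_pts] at hx ⊢
        · exact le_left h hp hx
        · exact le_right h hp hx
      have hint : pts p.1 ∩ pts p.2 = {1} := by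
        ext x
        simp only [Finset.mem_inter, mem_pts, Finset.mem_singleton]
        exact ⟨fun hx => eq_one h hp hx.1 hx.2, fun e => e ▸ ⟨one_mem _, one_mem _⟩⟩
      have hu := Finset.card_union_add_card_inter (pts p.1) (pts p.2)
      rw [hint, Finset.card_singleton, card_pts, card_pts] at hu
      rw [Finset.card_sdiff_of_subset hsub, card_pts, ← card_eq h hp, Nat.sub_one_mul, Nat.mul_sub_one]
      have := Nat.le_mul_of_pos_right (Nat.card p.1) (show 0 < Nat.card p.2 by omega)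
      omega
    have hlow : ∀ q ∈ F, Nat.card p.2 ≤ 2 * (pts q.2 \ pts p.1).card := by
      intro q hqF
      obtain ⟨hq, hqn⟩ := Finset.mem_filter.1 hqF
      have hlt : p.1 ⊓ q.2 < q.2 := lt_of_le_of_ne inf_le_right fun e => hqn (e ▸ inf_le_left)
      obtain ⟨c, hc⟩ := Subgroup.card_dvd_of_le hlt.le
      have hc2 : 2 ≤ c := by
        rcases Nat.lt_or_ge c 2 with h' | h'
        · interval_cases c
          · rw [mul_zero] at hc; exact absurd hc (Nat.card_pos).ne'
          · rw [mul_one] at hc; exact absurd (Subgroup.eq_of_le_of_card_ge hlt.le hc.le) hlt.ne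
        · exact h'
      have hsd := Finset.card_sdiff_add_card_inter (pts q.2) (pts p.1)
      have hin : pts q.2 ∩ pts p.1 = pts (p.1 ⊓ q.2) := by
        ext x; simp [mem_pts, and_comm]
      rw [hin, card_pts, card_pts] at hsd
      rw [← hcardW q (Finset.mem_erase.1 hq).2, hc] at *
      have := Nat.mul_le_mul_left (Nat.card (p.1 ⊓ q.2 : Subgroup G)) hc2
      omega
    have hdj : ∀ a ∈ F, ∀ b ∈ F, a ≠ b → Disjoint (pts a.2 \ pts p.1) (pts b.2 \ pts p.1) := by
      intro a ha b hb hab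
      refine Finset.disjoint_left.2 fun x hxa hxb => ?_
      simp only [Finset.mem_sdiff, mem_pts] at hxa hxb
      have := hdis a (Finset.mem_erase.1 (Finset.mem_filter.1 ha).1).2 b
        (Finset.mem_erase.1 (Finset.mem_filter.1 hb).1).2 hab
      have hx1 : x = 1 := Subgroup.mem_bot.1 (this ▸ Subgroup.mem_inf.2 ⟨hxa.1, hxb.1⟩)
      exact hxa.2 (hx1 ▸ one_mem _)
    have hsubE : F.biUnion (fun q => pts q.2 \ pts p.1) ⊆ E := by
      intro x hx
      obtain ⟨q, hqF, hxq⟩ := Finset.mem_biUnion.1 hx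
      simp only [Finset.mem_sdiff, mem_pts] at hxq
      obtain ⟨hq, -⟩ := Finset.mem_filter.1 hqF
      simp only [hE, Finset.mem_sdiff, Finset.mem_union, mem_pts, not_or]
      refine ⟨le_right h (memP h hp0 hO hdis hm (Finset.mem_erase.1 hq).2) hxq.1, hxq.2, fun e => hxq.2 ?_⟩
      have hx1 : x = 1 := Subgroup.mem_bot.1 (hdp q hq ▸ Subgroup.mem_inf.2 ⟨e, hxq.1⟩)
      exact hx1 ▸ one_mem _
    have h1 := Finset.card_le_card hsubE
    rw [Finset.card_biUnion hdj, hEc] at h1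
    calc F.card * Nat.card p.2 = ∑ _q ∈ F, Nat.card p.2 := by rw [Finset.sum_const, smul_eq_mul]
      _ ≤ ∑ q ∈ F, 2 * (pts q.2 \ pts p.1).card := Finset.sum_le_sum hlow
      _ ≤ _ := by rw [← Finset.mul_sum]; exact Nat.mul_le_mul_left 2 h1
  have hFlt : F.card < 2 * (Nat.card p.1 - 1) := by
    by_contra hcon
    have h1 := (Nat.mul_le_mul_right (Nat.card p.2) (not_lt.1 hcon)).trans hFcount
    have h2 : (Nat.card p.1 - 1) * (Nat.card p.2 - 1) < (Nat.card p.1 - 1) * Nat.card p.2 :=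
      Nat.mul_lt_mul_of_pos_left (by omega) (by omega)
    rw [mul_assoc] at h1
    omega
  have hTF : ∀ q ∈ F, T q = F := by
    intro q hq
    refine Finset.Subset.antisymm (horbit q hq).1 fun q' hq' => ?_
    by_contra hnot
    have hdj : Disjoint (T q) (T q') := by
      refine Finset.disjoint_left.2 fun a ha ha' => hnot ?_
      obtain ⟨d, hd, rfl⟩ := (hmemT q a).1 ha
      obtain ⟨d', hd', e⟩ := (hmemT q' _).1 ha'
      refine (hmemT q q').2 ⟨d'⁻¹ * d, mul_mem (inv_mem hd') hd, ?_⟩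
      rw [cp_mul, ← e, ← cp_mul, inv_mul_cancel, cp_one]
    have := Finset.card_le_card (Finset.union_subset (horbit q hq).1 (horbit q' hq').1)
    rw [Finset.card_union_of_disjoint hdj, (horbit q hq).2, (horbit q' hq').2] at this
    omega
  -- the members inside
  have hIone : ∀ q ∈ I, (∀ q' ∈ I, ∃ d ∈ D, cp d q = q') ∧ I.card * (Nat.card p.2 - 1) = Nat.card p.1 - 1 := by
    intro q hq
    obtain ⟨hqE, hqU⟩ := Finset.mem_filter.1 hq
    obtain ⟨x, hx, hx1⟩ := (Subgroup.bot_or_exists_ne_one q.2).resolve_left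
      (h.ne q (memP h hp0 hO hdis hm (Finset.mem_erase.1 hqE).2))
    have hcover : ∀ y ∈ p.1, y ≠ 1 → ∃ d ∈ D, y ∈ (cp d q).2 := by
      intro y hy hy1
      obtain ⟨d, hd, e⟩ := hDtr x (hqU hx) hx1 y hy hy1
      exact ⟨d, hd, e ▸ conj_mem_cj hx⟩
    refine ⟨fun q' hq' => ?_, ?_⟩
    · obtain ⟨hqE', hqU'⟩ := Finset.mem_filter.1 hq'
      obtain ⟨y, hy, hy1⟩ := (Subgroup.bot_or_exists_ne_one q'.2).resolve_left
        (h.ne q' (memP h hp0 hO hdis hm (Finset.mem_erase.1 hqE').2))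
      obtain ⟨d, hd, hyd⟩ := hcover y (hqU' hy) hy1
      refine ⟨d, hd, ?_⟩
      by_contra hne
      exact hy1 (Subgroup.mem_bot.1 (hdis _ (Finset.mem_erase.1 (hkeep d hd q hqE).1).2 q'
        (Finset.mem_erase.1 hqE').2 hne ▸ Subgroup.mem_inf.2 ⟨hyd, hy⟩))
    · have hunion : I.biUnion (fun a => (pts a.2).erase 1) = (pts p.1).erase 1 := by
        ext y
        simp only [Finset.mem_biUnion, Finset.mem_erase, mem_pts]
        constructor
        · rintro ⟨a, ha, hy1, hya⟩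
          exact ⟨hy1, (Finset.mem_filter.1 ha).2 hya⟩
        · rintro ⟨hy1, hy⟩
          obtain ⟨d, hd, hyd⟩ := hcover y hy hy1
          exact ⟨_, Finset.mem_filter.2 ⟨(hkeep d hd q hqE).1, (hkeep d hd q hqE).2.2 hqU⟩, hy1, hyd⟩
      have hc := congrArg Finset.card hunion
      rw [Finset.card_biUnion (fun a ha b hb hab => Finset.disjoint_left.2 fun y hya hyb => by
          simp only [Finset.mem_erase, mem_pts] at hya hyb
          exact hya.1 (Subgroup.mem_bot.1 (hdis a (Finset.mem_erase.1 (Finset.mem_filter.1 ha).1).2 b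
            (Finset.mem_erase.1 (Finset.mem_filter.1 hb).1).2 hab ▸ Subgroup.mem_inf.2 ⟨hya.2, hyb.2⟩))),
        card_pts_erase, Finset.sum_congr rfl fun (a : Subgroup G × Subgroup G) (ha : a ∈ I) =>
          show ((pts a.2).erase 1).card = Nat.card p.2 - 1 by
          rw [card_pts_erase, hcardW a (Finset.mem_erase.1 (Finset.mem_filter.1 ha).1).2],
        Finset.sum_const, smul_eq_mul] at hc
      exact hc
  -- parity
  have hsplit : F.card + I.card + 1 = O.card := by
    rw [add_comm F.card, hFdef, hIdef, Finset.card_filter_add_card_filter_not, Finset.card_erase_of_mem hpO]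
    omega
  have hodd : Odd O.card := by
    have hOeq : (O : Set _) = orb A p0 := Set.ext fun q => hO q
    have := orb_odd h hp0
    rwa [← hOeq, Set.ncard_coe_finset] at this
  have hUev := even_card h hp (h.sub p hp).1
    (fun e => by rw [e, Subgroup.card_bot] at hU4; omega)
  have hFodd : F.Nonempty → Odd F.card := fun ⟨q, hq⟩ => by
    rw [← hTF q hq, (horbit q hq).2, Nat.odd_iff]; omega
  have hIodd : I.Nonempty → Odd I.card := fun ⟨q, hq⟩ => by
    have he : Odd (Nat.card p.1 - 1) := by rw [Nat.odd_iff]; omega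
    rw [← (hIone q hq).2] at he
    exact (Nat.odd_mul.1 he).1
  rw [Nat.odd_iff] at hodd
  have hFne : F.Nonempty := by
    by_contra hcon
    rw [Finset.not_nonempty_iff_eq_empty] at hcon
    have h1 := hIodd (Finset.card_pos.1 (by rw [hcon, Finset.card_empty] at hsplit; omega))
    rw [Nat.odd_iff] at h1
    rw [hcon, Finset.card_empty] at hsplit
    omega
  have hIne : I.Nonempty := by
    by_contra hcon
    rw [Finset.not_nonempty_iff_eq_empty] at hcon
    have h1 := hFodd hFne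
    rw [Nat.odd_iff] at h1
    rw [hcon, Finset.card_empty] at hsplit
    omega
  obtain ⟨qF, hqF⟩ := hFne
  obtain ⟨qI, hqI⟩ := hIne
  refine ⟨by rw [← hTF qF hqF, (horbit qF hqF).2], (hIone qI hqI).2, fun q hq q' hq' hiff => ?_⟩
  by_cases hqu : q.2 ≤ p.1
  · obtain ⟨d, hd, e⟩ := (hIone q (Finset.mem_filter.2 ⟨hq, hqu⟩)).1 q' (Finset.mem_filter.2 ⟨hq', hiff.1 hqu⟩)
    exact ⟨d, hDN hd, hDp d hd, e⟩
  · have hq1 : q ∈ F := Finset.mem_filter.2 ⟨hq, hqu⟩
    have hq2 : q' ∈ T q := by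
      rw [hTF q hq1]; exact Finset.mem_filter.2 ⟨hq', fun e => hqu (hiff.2 e)⟩
    obtain ⟨d, hd, e⟩ := (hmemT q q').1 hq2
    exact ⟨d, hDN hd, hDp d hd, e⟩

open scoped Classical in
/-- For two members exactly one of the two containments holds. -/
theorem tournament {p q : Subgroup G × Subgroup G} (hp : p ∈ O) (hq : q ∈ O) (hne : p ≠ q) :
    (q.2 ≤ p.1 ↔ ¬ p.2 ≤ q.1) := by
  by_contra hcon
  have hiff : q.2 ≤ p.1 ↔ p.2 ≤ q.1 := by tauto
  obtain ⟨g, hg, hgq⟩ := orb_trans ((hO q).1 hq) ((hO p).1 hp)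
  have hr : cp g p ∈ O := (hO _).2 (orb_cp ((hO p).1 hp) hg)
  have hrne : cp g p ≠ p := fun e => by
    have := congrArg (cp g⁻¹) (e.trans hgq.symm)
    rw [← cp_mul, ← cp_mul, inv_mul_cancel, cp_one, cp_one] at this
    exact hne this
  have hrel : (cp g p).2 ≤ p.1 ↔ q.2 ≤ p.1 := by
    refine Iff.trans ?_ hiff.symm
    conv_lhs => rhs; rw [← congrArg Prod.fst hgq]
    exact cj_le_iff
  obtain ⟨d, hd, hdp, hdq⟩ := (suborbits h hp0 hO hdis hm hp).2.2 _ (Finset.mem_erase.2 ⟨hrne, hr⟩)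
    q (Finset.mem_erase.2 ⟨hne.symm, hq⟩) hrel
  exact hne (no_swap h (g := d * g) (mul_mem hd hg) (memP h hp0 hO hdis hm hp)
    (by rw [cp_mul, hdq]) (by rw [cp_mul, hgq, hdp]))

open scoped Classical in
/-- The second members have order two. -/
theorem card_two {p : Subgroup G × Subgroup G} (hp : p ∈ O) : Nat.card p.2 = 2 := by
  have hconst : ∀ q ∈ O, Nat.card q.1 = Nat.card p.1 ∧ Nat.card q.2 = Nat.card p.2 := by
    intro q hq
    obtain ⟨g, -, rfl⟩ := orb_trans ((hO p).1 hp) ((hO q).1 hq)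
    exact ⟨card_cj g p.1, card_cj g p.2⟩
  set I : Subgroup G × Subgroup G → Finset (Subgroup G × Subgroup G) := fun a =>
    (O.erase a).filter fun b => b.2 ≤ a.1
  set F : Subgroup G × Subgroup G → Finset (Subgroup G × Subgroup G) := fun a =>
    (O.erase a).filter fun b => ¬ b.2 ≤ a.1
  have hdouble : ∑ a ∈ O, (I a).card = ∑ a ∈ O, (F a).card := by
    rw [← Finset.card_sigma, ← Finset.card_sigma]
    refine Finset.card_nbij' (fun x => ⟨x.2, x.1⟩) (fun x => ⟨x.2, x.1⟩) ?_ ?_ (fun _ _ => rfl) (fun _ _ => rfl)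
    · rintro ⟨a, b⟩ hab
      simp only [Finset.coe_sigma, Set.mem_sigma_iff, Finset.mem_coe, I, F, Finset.mem_filter, Finset.mem_erase] at hab ⊢
      exact ⟨hab.2.1.2, ⟨hab.2.1.1.symm, hab.1⟩,
        (tournament h hp0 hO hdis hm hab.1 hab.2.1.2 hab.2.1.1.symm).1 hab.2.2⟩
    · rintro ⟨a, b⟩ hab
      simp only [Finset.coe_sigma, Set.mem_sigma_iff, Finset.mem_coe, I, F, Finset.mem_filter, Finset.mem_erase] at hab ⊢
      exact ⟨hab.2.1.2, ⟨hab.2.1.1.symm, hab.1⟩,
        (tournament h hp0 hO hdis hm hab.2.1.2 hab.1 hab.2.1.1).2 hab.2.2⟩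
  have hI : ∀ a ∈ O, (I a).card * (Nat.card p.2 - 1) = Nat.card p.1 - 1 := fun a ha => by
    rw [← (hconst a ha).1, ← (hconst a ha).2]
    exact (suborbits h hp0 hO hdis hm ha).2.1
  have hF : ∑ a ∈ O, (F a).card = O.card * (Nat.card p.1 - 1) := by
    rw [Finset.sum_congr rfl fun a ha => show (F a).card = Nat.card p.1 - 1 by
      rw [← (hconst a ha).1]; exact (suborbits h hp0 hO hdis hm ha).1, Finset.sum_const, smul_eq_mul]
  have hS : (∑ a ∈ O, (I a).card) * (Nat.card p.2 - 1) = O.card * (Nat.card p.1 - 1) := by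
    rw [Finset.sum_mul, Finset.sum_congr rfl hI, Finset.sum_const, smul_eq_mul]
  rw [hdouble, hF] at hS
  have hpos : 0 < O.card * (Nat.card p.1 - 1) := by
    have := h.four p (memP h hp0 hO hdis hm hp)
    exact Nat.mul_pos (by omega) (by omega)
  have := Nat.eq_of_mul_eq_mul_left hpos (hS.trans (mul_one _).symm)
  omega

open scoped Classical in
/-- An orbit of members meeting trivially is a single member. -/
theorem disjoint_false : False := by
  have hpP : ∀ q ∈ O, q ∈ P := fun q hq => memP h hp0 hO hdis hm hq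
  obtain ⟨p, hp⟩ := Finset.card_pos.1 (by omega : 0 < O.card)
  have hw := fun q (hq : q ∈ O) => card_two h hp0 hO hdis hm hq
  have hm' : O.card = Nat.card A - 1 := by
    obtain ⟨hF, hI, -⟩ := suborbits h hp0 hO hdis hm hp
    rw [hw p hp, show (2 - 1 : ℕ) = 1 from rfl, mul_one] at hI
    have hs : ((O.erase p).filter fun q => q.2 ≤ p.1).card + ((O.erase p).filter fun q => ¬ q.2 ≤ p.1).card =
        (O.erase p).card := Finset.card_filter_add_card_filter_not _
    rw [hF, hI, Finset.card_erase_of_mem hp] at hs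
    have := card_eq h (hpP p hp)
    rw [hw p hp] at this
    have := h.four p (hpP p hp)
    omega
  have hall : O.biUnion (fun q => (pts q.2).erase 1) = (pts A).erase 1 := by
    refine Finset.eq_of_subset_of_card_le (fun y hy => ?_) (le_of_eq ?_)
    · simp only [Finset.mem_biUnion, Finset.mem_erase, mem_pts] at hy ⊢
      obtain ⟨q, hq, hy1, hyq⟩ := hy
      exact ⟨hy1, le_right h (hpP q hq) hyq⟩
    · rw [Finset.card_biUnion (fun a ha b hb hab => Finset.disjoint_left.2 fun y hya hyb => by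
          simp only [Finset.mem_erase, mem_pts] at hya hyb
          exact hya.1 (Subgroup.mem_bot.1 (hdis a ha b hb hab ▸ Subgroup.mem_inf.2 ⟨hya.2, hyb.2⟩))),
        card_pts_erase, Finset.sum_congr rfl fun (a : Subgroup G × Subgroup G) (ha : a ∈ O) =>
          show ((pts a.2).erase 1).card = 1 by
          rw [card_pts_erase, hw a ha], Finset.sum_const, smul_eq_mul, mul_one, hm']
  have hmem : ∀ y ∈ (pts A).erase 1, ∃ q ∈ O, y ∈ q.2 := by
    intro y hy
    rw [← hall] at hy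
    obtain ⟨q, hq, hyq⟩ := Finset.mem_biUnion.1 hy
    exact ⟨q, hq, mem_pts.1 (Finset.mem_erase.1 hyq).2⟩
  choose π hπO hπ using hmem
  have hmk : ∀ {y : G}, y ∈ A → y ≠ 1 → y ∈ (pts A).erase 1 := fun ha h1 =>
    Finset.mem_erase.2 ⟨h1, mem_pts.2 ha⟩
  -- the second member of the pair of a point
  have htwo : ∀ {q : Subgroup G × Subgroup G}, q ∈ O → ∀ {x : G}, x ∈ q.2 → x ≠ 1 → ∀ z ∈ q.2, z = 1 ∨ z = x := by
    intro q hq x hx hx1 z hz
    by_contra hcon
    push Not at hcon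
    have hsub : ({1, x, z} : Finset G) ⊆ pts q.2 := by
      intro t ht
      simp only [Finset.mem_insert, Finset.mem_singleton] at ht
      rcases ht with rfl | rfl | rfl <;> exact mem_pts.2 (by first | exact one_mem _ | assumption)
    have := Finset.card_le_card hsub
    rw [card_pts, hw q hq, Finset.card_eq_three.2 ⟨1, x, z, hx1.symm, hcon.1.symm, hcon.2.symm, rfl⟩] at this
    omega
  let f : G → G → ZMod 2 := fun x y =>
    if hx : x ∈ (pts A).erase 1 then (if y ∈ (π x hx).1 then 0 else 1) else 0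
  have hadd : ∀ {x a b : G}, x ∈ A → x ≠ 1 → a ∈ A → b ∈ A → f x (a * b) = f x a + f x b := by
    intro x a b hxA hx1 ha hb
    have hx := hmk hxA hx1
    set q := π x hx with hqdef
    have hqO := hπO x hx
    have hq := hpP q hqO
    have hd : ∀ u ∈ q.1, ∀ w ∈ q.2, (u * w ∈ q.1 ↔ w = 1) := fun u hu w hw' => by
      rw [Subgroup.mul_mem_cancel_left _ hu]
      exact ⟨fun h1 => eq_one h hq h1 hw', fun e => e ▸ one_mem _⟩
    obtain ⟨u, hu, w, hw1, rfl⟩ := decomp h hq ha
    obtain ⟨u', hu', w', hw2, rfl⟩ := decomp h hq hb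
    rw [mul_comm4 h (le_right h hq hw1) (le_left h hq hu')]
    simp only [f, dif_pos hx, ← hqdef, hd u hu w hw1, hd u' hu' w' hw2,
      hd _ (mul_mem hu hu') _ (mul_mem hw1 hw2)]
    have hxx : x * x = 1 := h.sq x hxA
    rcases htwo hqO (hπ x hx) hx1 w hw1 with e | e <;>
      rcases htwo hqO (hπ x hx) hx1 w' hw2 with e' | e' <;>
      simp [e, e', hx1, hxx] <;> decide
  have hanti : ∀ {x y : G}, x ∈ A → x ≠ 1 → y ∈ A → y ≠ 1 → x ≠ y → f x y + f y x = 1 := by
    intro x y hxA hx1 hyA hy1 hxy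
    have hx := hmk hxA hx1
    have hy := hmk hyA hy1
    have hne : π x hx ≠ π y hy := fun e => by
      rcases htwo (hπO x hx) (hπ x hx) hx1 y (e ▸ hπ y hy) with e' | e'
      · exact hy1 e'
      · exact hxy e'.symm
    have key : ∀ {a b : G} (ha : a ∈ (pts A).erase 1) (hb : b ∈ (pts A).erase 1),
        (π b hb).2 ≤ (π a ha).1 ↔ b ∈ (π a ha).1 := fun {a b} ha hb =>
      ⟨fun hle => hle (hπ b hb), fun hba z hz => by
        rcases htwo (hπO b hb) (hπ b hb) (Finset.mem_erase.1 hb).1 z hz with rfl | rfl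
        · exact one_mem _
        · exact hba⟩
    have ht := tournament h hp0 hO hdis hm (hπO x hx) (hπO y hy) hne
    rw [key, key] at ht
    simp only [f, dif_pos hx, dif_pos hy]
    by_cases hc : y ∈ (π x hx).1
    · rw [if_pos hc, if_neg (ht.1 hc), zero_add]
    · rw [if_neg hc, if_pos (not_not.1 fun h' => hc (ht.2 h')), add_zero]
  -- a plane
  have hA : 16 ≤ (pts A).card := by rw [card_pts]; exact h.big
  obtain ⟨x1, h1A, hx1⟩ : ∃ x ∈ pts A, x ∉ ({1} : Finset G) :=
    Finset.exists_mem_notMem_of_card_lt_card (by rw [Finset.card_singleton]; omega)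
  obtain ⟨x2, h2A, hx2⟩ : ∃ x ∈ pts A, x ∉ ({1, x1} : Finset G) :=
    Finset.exists_mem_notMem_of_card_lt_card (by
      have := Finset.card_le_two (a := (1 : G)) (b := x1); omega)
  obtain ⟨y, hyA, hy⟩ : ∃ x ∈ pts A, x ∉ ({1, x1, x2, x1 * x2} : Finset G) :=
    Finset.exists_mem_notMem_of_card_lt_card (by
      have := Finset.card_le_four (a := (1 : G)) (b := x1) (c := x2) (d := x1 * x2); omega)
  obtain ⟨z, hzA, hz⟩ : ∃ x ∈ pts A, x ∉ ({1, x1, x2, x1 * x2, y, y * x1, y * x2, y * (x1 * x2)} : Finset G) :=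
    Finset.exists_mem_notMem_of_card_lt_card (by
      refine lt_of_le_of_lt ?_ (show 8 < (pts A).card by omega)
      refine (Finset.card_insert_le _ _).trans (Nat.succ_le_succ ?_)
      refine (Finset.card_insert_le _ _).trans (Nat.succ_le_succ ?_)
      refine (Finset.card_insert_le _ _).trans (Nat.succ_le_succ ?_)
      refine (Finset.card_insert_le _ _).trans (Nat.succ_le_succ ?_)
      exact Finset.card_le_four)
  simp only [Finset.mem_insert, Finset.mem_singleton, not_or] at hx1 hx2 hy hz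
  rw [mem_pts] at h1A h2A hyA hzA
  have hx3 : x1 * x2 ≠ 1 := fun e => hx2.2 (by
    rw [← mul_one x1, ← e, ← mul_assoc, h.sq x1 h1A, one_mul])
  have hsum : ∀ t ∈ A, t ≠ 1 → t ≠ x1 → t ≠ x2 → t ≠ x1 * x2 →
      f x1 t + f x2 t + f (x1 * x2) t = 1 := by
    intro t ht t1 t2 t3 t4
    have a1 := hanti h1A hx1 ht t1 (Ne.symm t2)
    have a2 := hanti h2A hx2.1 ht t1 (Ne.symm t3)
    have a3 := hanti (mul_mem h1A h2A) hx3 ht t1 (Ne.symm t4)
    have a4 := hadd ht t1 h1A h2A
    have two : (2 : ZMod 2) = 0 := rfl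
    linear_combination a1 + a2 + a3 + a4 + (-f t (x1 * x2) + 1) * two
  have hyz : ∀ c ∈ A, y * z = c → z = y * c := fun c hc e => by
    rw [← e, ← mul_assoc, h.sq y hyA, one_mul]
  have s1 := hsum y hyA hy.1 hy.2.1 hy.2.2.1 hy.2.2.2
  have s2 := hsum z hzA hz.1 hz.2.1 hz.2.2.1 hz.2.2.2.1
  have s3 := hsum (y * z) (mul_mem hyA hzA)
    (fun e => hz.2.2.2.2.1 (by rw [hyz 1 (one_mem _) e, mul_one]))
    (fun e => hz.2.2.2.2.2.1 (hyz x1 h1A e))
    (fun e => hz.2.2.2.2.2.2.1 (hyz x2 h2A e))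
    (fun e => hz.2.2.2.2.2.2.2 (hyz _ (mul_mem h1A h2A) e))
  rw [hadd h1A hx1 hyA hzA, hadd h2A hx2.1 hyA hzA, hadd (mul_mem h1A h2A) hx3 hyA hzA] at s3
  have : (1 : ZMod 2) = 0 := by linear_combination s3 - s1 - s2
  exact absurd this (by decide)

end Orbit

open scoped Classical in
/-- Two members of one orbit do not meet trivially. -/
theorem meet {p q : Subgroup G × Subgroup G} (hp : p ∈ P) (hq : q ∈ orb A p) (hne : p ≠ q) :
    p.2 ⊓ q.2 ≠ ⊥ := by
  intro hpq
  set O := (orb A p).toFinset with hOdef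
  have hO : ∀ a, a ∈ O ↔ a ∈ orb A p := fun a => Set.mem_toFinset
  refine disjoint_false h hp hO (fun a ha b hb hab => ?_)
    (Finset.one_lt_card.2 ⟨p, (hO p).2 (self_orb p), q, (hO q).2 hq, hne⟩)
  by_contra hmeet
  have haP := orb_sub h hp ((hO a).1 ha)
  have hbP := orb_sub h hp ((hO b).1 hb)
  obtain ⟨hba, hab'⟩ := h.share a haP b hbP hab hmeet
  have hcard : ∀ r ∈ orb A p, Nat.card r.1 = Nat.card p.1 ∧ Nat.card r.2 = Nat.card p.2 := by
    rintro _ ⟨g, -, rfl⟩
    exact ⟨card_cj g p.1, card_cj g p.2⟩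
  have ca := hcard a ((hO a).1 ha)
  have cb := hcard b ((hO b).1 hb)
  have h1 := card_le_of_inf (h.sub p hp).2 (h.sub q (orb_sub h hp hq)).2 hpq
  rw [(hcard q hq).2, ← card_eq h hp] at h1
  have hwn : Nat.card p.2 ≤ Nat.card p.1 := Nat.le_of_mul_le_mul_right h1 Nat.card_pos
  have e1 : b.1 = a.2 := Subgroup.eq_of_le_of_card_ge hba (by rw [ca.2, cb.1]; exact hwn)
  refine hmeet (eq_bot_iff.2 ?_)
  rw [← e1, h.inf b hbP]

open scoped Classical in
/-- A moved pair has a small first member relative to `A`. -/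
theorem moved_card {p : Subgroup G × Subgroup G} (hp : p ∈ P)
    (hmv : ∃ g ∈ normalizer (A : Set G), cp g p ≠ p) : Nat.card p.1 ^ 3 ≤ Nat.card A := by
  obtain ⟨g, hg, hne⟩ := hmv
  set O := (orb A p).toFinset with hOdef
  have hO : ∀ a, a ∈ O ↔ a ∈ orb A p := fun a => Set.mem_toFinset
  have h2 : 1 < O.card := Finset.one_lt_card.2 ⟨p, (hO p).2 (self_orb p), cp g p,
    (hO _).2 ⟨g, hg, rfl⟩, Ne.symm hne⟩
  have hodd := orb_odd h hp
  rw [Set.ncard_eq_toFinset_card', ← hOdef, Nat.odd_iff] at hodd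
  obtain ⟨a, ha, b, hb, c, hc, hab, hac, hbc⟩ := Finset.two_lt_card.1 (by omega : 2 < O.card)
  have hP : ∀ r ∈ O, r ∈ P := fun r hr => orb_sub h hp ((hO r).1 hr)
  have hcard : ∀ r ∈ O, Nat.card r.1 = Nat.card p.1 := fun r hr => by
    obtain ⟨k, -, rfl⟩ := (hO r).1 hr
    exact card_cj k p.1
  have horth : ∀ r ∈ O, ∀ r' ∈ O, r ≠ r' → r'.1 ≤ r.2 := by
    intro r hr r' hr' hne'
    refine (h.share r (hP r hr) r' (hP r' hr') hne' (meet h (hP r hr) ?_ hne')).1
    obtain ⟨k, hk, e⟩ := orb_trans ((hO r).1 hr) ((hO r').1 hr')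
    exact ⟨k, hk, e⟩
  have h3 : b.1 ⊓ c.1 = ⊥ := eq_bot_iff.2 fun x hx => Subgroup.mem_bot.2
    (eq_one h (hP b hb) (Subgroup.mem_inf.1 hx).1 (horth b hb c hc hbc (Subgroup.mem_inf.1 hx).2))
  have h4 := card_le_of_inf (B := b.1) (C := c.1) (A := a.2)
    (horth a ha b hb hab) (horth a ha c hc hac) h3
  rw [hcard b hb, hcard c hc] at h4
  calc Nat.card p.1 ^ 3 = Nat.card p.1 * (Nat.card p.1 * Nat.card p.1) := by ring
    _ ≤ Nat.card p.1 * Nat.card a.2 := Nat.mul_le_mul_left _ h4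
    _ = Nat.card A := by rw [← hcard a ha, card_eq h (hP a ha)]

open scoped Classical in
/-- A pair is orthogonal to an invariant one meeting it trivially. -/
theorem of_invariant {p q : Subgroup G × Subgroup G} (hp : p ∈ P) (hq : q ∈ P)
    (hinv : ∀ g ∈ normalizer (A : Set G), cp g p = p) (hpq : p.2 ⊓ q.2 = ⊥) :
    q.1 ≤ p.2 ∧ p.1 ≤ q.2 := by
  obtain ⟨D, hDN, hDq, hDW, hDtr, hDsemi⟩ := regular h hq
  have hX : ∀ X : Subgroup G, X ≤ A → (∀ d ∈ D, cj d X = X) → q.1 ≤ X ∨ X ≤ q.2 := by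
    intro X hXA hXinv
    by_cases he : ∃ x ∈ X, x ∈ q.1 ∧ x ≠ 1
    · left
      obtain ⟨x, hxX, hx, hx1⟩ := he
      intro y hy
      by_cases hy1 : y = 1
      · rw [hy1]; exact one_mem _
      obtain ⟨d, hd, rfl⟩ := hDtr x hx hx1 y hy hy1
      have := conj_mem_cj (g := d) hxX
      rwa [hXinv d hd] at this
    · right
      push Not at he
      intro a ha
      obtain ⟨u, hu, w, hw, rfl⟩ := decomp h hq (hXA ha)
      have hu1 : u = 1 := by
        by_contra hu1
        -- some element of the cyclic group moves `u`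
        have h4 := h.four q hq
        obtain ⟨y, hy, hy'⟩ : ∃ y ∈ pts q.1, y ∉ ({1, u} : Finset G) :=
          Finset.exists_mem_notMem_of_card_lt_card (by
            have := Finset.card_le_two (a := (1 : G)) (b := u)
            rw [card_pts]; omega)
        simp only [Finset.mem_insert, Finset.mem_singleton, not_or] at hy'
        obtain ⟨d, hd, hdu⟩ := hDtr u hu hu1 y (mem_pts.1 hy) hy'.1
        have hc : d * (u * w) * d⁻¹ = y * w := by
          rw [show d * (u * w) * d⁻¹ = d * u * d⁻¹ * (d * w * d⁻¹) by group, hdu, hDW d hd w hw,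
            mul_inv_cancel_right]
        have h1 : y * w * (u * w) ∈ X := by
          refine mul_mem ?_ ha
          have := conj_mem_cj (g := d) ha
          rwa [hXinv d hd, hc] at this
        rw [mul_comm4 h (le_right h hq hw) (le_left h hq hu), h.sq w (le_right h hq hw), mul_one] at h1
        refine hy'.2 ?_
        have h2 := he _ h1 (mul_mem (mem_pts.1 hy) hu)
        calc y = y * (u * u) := by rw [h.sq u (le_left h hq hu), mul_one]
          _ = u := by rw [← mul_assoc, h2, one_mul]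
      rw [hu1, one_mul]
      exact hw
  have hU := hX p.1 (h.sub p hp).1 fun d hd => congrArg Prod.fst (hinv d (hDN hd))
  have hW := hX p.2 (h.sub p hp).2 fun d hd => congrArg Prod.snd (hinv d (hDN hd))
  have hW' : q.1 ≤ p.2 := hW.resolve_right fun hle => h.ne p hp (eq_bot_iff.2 fun x hx =>
    hpq ▸ Subgroup.mem_inf.2 ⟨hx, hle hx⟩)
  refine ⟨hW', hU.resolve_left fun hle => ?_⟩
  have h4 := h.four q hq
  rw [show q.1 = ⊥ from eq_bot_iff.2 fun x hx =>
    Subgroup.mem_bot.2 (eq_one h hp (hle hx) (hW' hx)), Subgroup.card_bot] at h4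
  omega

theorem main {p q : Subgroup G × Subgroup G} (hp : p ∈ P) (hq : q ∈ P) (hne : p ≠ q) :
    q.1 ≤ p.2 ∧ p.1 ≤ q.2 := by
  by_cases hpq : p.2 ⊓ q.2 = ⊥
  swap
  · exact h.share p hp q hq hne hpq
  by_cases hip : ∀ g ∈ normalizer (A : Set G), cp g p = p
  · exact of_invariant h hp hq hip hpq
  by_cases hiq : ∀ g ∈ normalizer (A : Set G), cp g q = q
  · exact (of_invariant h hq hp hiq (by rw [inf_comm]; exact hpq)).symm
  exfalso
  push Not at hip hiq
  have h1 := moved_card h hp hip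
  have h2 := moved_card h hq hiq
  have h3 := card_le_of_inf (h.sub p hp).2 (h.sub q hq).2 hpq
  have ep := card_eq h hp
  have eq' := card_eq h hq
  set a := Nat.card p.1
  set b := Nat.card q.1
  set c := Nat.card p.2
  set d := Nat.card q.2
  set n := Nat.card A
  have hn : 16 ≤ n := h.big
  have h5 : n ≤ a * b := by
    have e : n * n = a * b * (c * d) := by
      calc n * n = a * c * (b * d) := by rw [ep, eq']
        _ = _ := by ring
    have : n * n ≤ a * b * n := e ▸ Nat.mul_le_mul_left _ h3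
    exact Nat.le_of_mul_le_mul_right this (by omega)
  have h6 : n ^ 3 ≤ n * n := (Nat.pow_le_pow_left h5 3).trans (by
    rw [mul_pow]; exact Nat.mul_le_mul h1 h2)
  have h7 : n * n * 1 < n * n * n := Nat.mul_lt_mul_of_pos_left (by omega) (by positivity)
  rw [mul_one] at h7
  have h8 : n ^ 3 = n * n * n := by ring
  omega

end Cfsg.Agent.Walter4.CombAux

namespace Cfsg.Agent.Walter4

universe u

/-- Any two distinct pairs of a system are orthogonal. -/
theorem combStmt : CombStmt.{u} := by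
  intro G _ _ A P h p hp q hq hne
  classical
  haveI : Fintype G := Fintype.ofFinite G
  exact CombAux.main h hp hq hne

end Cfsg.Agent.Walter4
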