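import Cfsg.Agent.Lib.Walter4.Gen
import Cfsg.Agent.Lib.Walter4.CombProof
import Cfsg.Agent.Lib.AbelianSylowAut.Central
import Cfsg.Agent.Lib.ClosedAbelian.Cent

/-!
Systems: the pairs `(UA K, CA K)` of the components `K`; the minimal ones decompose `A` into blocks.
-/

set_option autoImplicit false
set_option linter.style.haveILetI false
set_option linter.unusedSectionVars false

namespace Cfsg.Agent.Walter4

open Subgroup Cfsg.Agent.Components
open Cfsg.Agent.OddDown.CoreSep (q im mem_im)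

universe u

attribute [local instance] FittingCores.pPrimeCore_normal

variable {G : Type u} [Group G]

/-- A system: a component of `C(W)` whose centraliser in `A` is `W`, and its part `U` of `A`. -/
def IsSys (A : Subgroup G) (m : Subgroup G × Subgroup G) : Prop :=
  m.2 ≤ A ∧ m.2 ≠ ⊥ ∧
    ∃ K : Subgroup (XB m.2), Cfsg.IsComponent K ∧ CA A m.2 K = m.2 ∧ UA A m.2 K = m.1

/-- A system with minimal centraliser. -/
def IsMinSys (A : Subgroup G) (m : Subgroup G × Subgroup G) : Prop :=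
  IsSys A m ∧ ∀ r, IsSys A r → r.2 ≤ m.2 → r.2 = m.2

/-- The part of `A` centralising all minimal systems. -/
def resid (A : Subgroup G) : Subgroup G :=
  A ⊓ ⨅ m : {m : Subgroup G × Subgroup G // IsMinSys A m}, m.1.2

/-- The blocks. -/
def blockSet (A : Subgroup G) : Set (Subgroup G) :=
  {U | (∃ W, IsMinSys A (U, W)) ∨ (U = resid A ∧ U ≠ ⊥)}

/-- `C(W) = ⟨C(W ⊔ ⟨x⟩), x ∈ U#⟩ N(A)`. -/
def DihAt (A U W : Subgroup G) : Prop :=
  cenS W ≤ (⨆ x : {x : G // x ∈ U ∧ x ≠ 1}, cenS (W ⊔ zpowers (x : G))) ⊔ normalizer (A : Set G)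

variable [Finite G]

theorem map_pre_conj {W W' : Subgroup G} {g : G}
    (hg : ∀ x, x ∈ cenS W ↔ g * x * g⁻¹ ∈ cenS W') :
    ∃ f : XB W ≃* XB W', ∀ (X : Subgroup (XB W)) (x : G),
      (g * x * g⁻¹ ∈ pre W' (X.map f.toMonoidHom) ↔ x ∈ pre W X) := by
  let e : ↥(cenS W) ≃* ↥(cenS W') :=
    { toFun := fun x => ⟨g * x * g⁻¹, (hg x).1 x.2⟩
      invFun := fun x => ⟨g⁻¹ * x * g, (hg _).2 (by
        rw [show g * (g⁻¹ * (x : G) * g) * g⁻¹ = x by group]; exact x.2)⟩
      left_inv := fun x => Subtype.ext (show g⁻¹ * (g * (x : G) * g⁻¹) * g = x by group)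
      right_inv := fun x => Subtype.ext (show g * (g⁻¹ * (x : G) * g) * g⁻¹ = x by group)
      map_mul' := fun a b => Subtype.ext
        (show g * ((a : G) * b) * g⁻¹ = (g * a * g⁻¹) * (g * b * g⁻¹) by group) }
  refine ⟨Components.coreQuotientEquiv 2 e, fun X x => ?_⟩
  constructor
  · intro h
    obtain ⟨hx, hX⟩ := mem_pre.1 h
    refine mem_pre.2 ⟨(hg x).2 hx, ?_⟩
    obtain ⟨y, hy, he⟩ := hX
    have : y = q (cenS W) ⟨x, (hg x).2 hx⟩ := (Components.coreQuotientEquiv 2 e).injective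
      (he.trans (show q (cenS W') ⟨g * x * g⁻¹, hx⟩ =
        Components.coreQuotientEquiv 2 e (q (cenS W) ⟨x, (hg x).2 hx⟩) from rfl))
    exact this ▸ hy
  · intro h
    obtain ⟨hx, hX⟩ := mem_pre.1 h
    exact mem_pre.2 ⟨(hg x).1 hx, ⟨_, hX, rfl⟩⟩

namespace Ctx

variable {S : Sylow 2 G} {A : Subgroup G} (hC : Ctx S A)
include hC

theorem conj_mem_iff {g : G} (hg : g ∈ normalizer (A : Set G)) {x : G} : x ∈ A ↔ g * x * g⁻¹ ∈ A :=
  mem_normalizer_iff.1 hg x

theorem isSys_of_comp {B : Subgroup G} (hB : B ≤ A) (hB0 : B ≠ ⊥) {L : Subgroup (XB B)}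
    (hL : Cfsg.IsComponent L) : IsSys A (UA A B L, CA A B L) := by
  obtain ⟨K, hK, hU, hW, -, -⟩ :=
    hC.exists_down (hC.le_CA hB hB0 hL) inf_le_left hB0 hL le_rfl
  exact ⟨inf_le_left, fun h => hB0 (le_bot_iff.1 ((hC.le_CA hB hB0 hL).trans h.le)), K, hK, hW, hU⟩

theorem sys_sup {m : Subgroup G × Subgroup G} (hm : IsSys A m) :
    m.1 ≤ A ∧ m.1 ⊔ m.2 = A ∧ m.1 ⊓ m.2 = ⊥ ∧ 4 ≤ Nat.card m.1 := by
  obtain ⟨hA, h0, K, hK, hW, hU⟩ := hm
  have h1 := hC.UA_sup_CA hA h0 hK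
  have h2 := hC.UA_inf_CA hA h0 hK
  have h4 := hC.four_UA hA h0 hK
  rw [hU] at h1 h2 h4
  rw [hW] at h1 h2
  exact ⟨hU ▸ inf_le_left, h1, h2, h4⟩

theorem sys_eq {m r : Subgroup G × Subgroup G} (hm : IsSys A m) (hr : IsSys A r) (h : m.2 = r.2) :
    m = r := by
  obtain ⟨U, W⟩ := m
  obtain ⟨U', W'⟩ := r
  obtain rfl : W = W' := h
  obtain ⟨hA, h0, K, hK, hW, hU⟩ := hm
  obtain ⟨-, -, K', hK', hW', hU'⟩ := hr
  have hKK := hC.eq_of_CA hA h0 hK hK' (hW.trans hW'.symm)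
  dsimp only at hU hU'
  rw [← hU, ← hU', hKK]

/-- A block part is not inside the centraliser of its component. -/
theorem sys_not_le {B : Subgroup G} (hB : B ≤ A) (hB0 : B ≠ ⊥) {L : Subgroup (XB B)}
    (hL : Cfsg.IsComponent L) : ¬ UA A B L ≤ CA A B L := fun h =>
  hC.UA_ne_bot hB hB0 hL (by rw [← hC.UA_inf_CA hB hB0 hL, inf_eq_left.2 h])

/-- Two components, one having a part of `A` in common with the other, are equal. -/
theorem comp_eq_of_UA {B : Subgroup G} (hB : B ≤ A) (hB0 : B ≠ ⊥) {L L' : Subgroup (XB B)}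
    (hL : Cfsg.IsComponent L) (hL' : Cfsg.IsComponent L') {x : G} (hx : x ∈ UA A B L)
    (hx' : x ∈ UA A B L') (hx1 : x ≠ 1) : L = L' := by
  by_contra hne
  refine hx1 (mem_bot.1 ((hC.UA_inf_CA hB hB0 hL) ▸ ⟨hx, hx'.1, ?_⟩))
  obtain ⟨h, h'⟩ := mem_pre.1 hx'.2
  exact mem_pre.2 ⟨h, (commutator_eq_bot_iff_le_centralizer.1 (components_commute hL' hL (Ne.symm hne))) h'⟩

/-- Every component lies over a minimal system. -/
theorem exists_block {B : Subgroup G} (hB : B ≤ A) (hB0 : B ≠ ⊥) {L : Subgroup (XB B)}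
    (hL : Cfsg.IsComponent L) :
    ∃ m, IsMinSys A m ∧ m.2 ≤ CA A B L ∧ UA A B L ≤ m.1 := by
  classical
  obtain ⟨m, hm, hmin⟩ : ∃ m, (IsSys A m ∧ m.2 ≤ CA A B L) ∧
      ∀ r, IsSys A r ∧ r.2 ≤ CA A B L → Nat.card m.2 ≤ Nat.card r.2 :=
    Set.exists_min_image {r : Subgroup G × Subgroup G | IsSys A r ∧ r.2 ≤ CA A B L}
      (fun r => Nat.card r.2) (Set.toFinite _) ⟨(UA A B L, CA A B L), hC.isSys_of_comp hB hB0 hL, le_rfl⟩
  refine ⟨m, ⟨hm.1, fun r hr hle => eq_of_le_of_card_ge hle (hmin r ⟨hr, hle.trans hm.2⟩)⟩, hm.2, ?_⟩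
  obtain ⟨⟨hmA, hm0, K₀, hK₀, hKW, hKU⟩, hle⟩ := hm
  obtain ⟨K, hK, hU, hW, -, -⟩ :=
    hC.exists_down (hC.le_CA hB hB0 hL) inf_le_left hB0 hL le_rfl
  obtain ⟨J, hJ, hUJ, hWJ, -⟩ := hC.exists_pump hle inf_le_left hm0 hK
  suffices J = K₀ by rw [← hU, ← hKU, ← this]; exact hUJ
  by_contra hne
  have hw0 : CA A B L ≠ ⊥ := fun h => hm0 (le_bot_iff.1 (hle.trans h.le))
  obtain ⟨u, hu, hu1⟩ := (UA A (CA A B L) K).bot_or_exists_ne_one.resolve_left
    (hC.UA_ne_bot inf_le_left hw0 hK)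
  have hc := commutator_eq_bot_iff_le_centralizer.1 (components_commute hJ hK₀ hne)
  obtain ⟨hh, hh'⟩ := mem_pre.1 (hUJ hu).2
  have hum : u ∈ m.2 := hKW.le ⟨hu.1, mem_pre.2 ⟨hh, hc hh'⟩⟩
  exact hu1 (mem_bot.1 ((hC.UA_inf_CA inf_le_left hw0 hK) ▸ ⟨hu, hW.ge (hle hum)⟩))

/-- Conjugation by `N(A)` permutes the systems. -/
theorem isSys_conj {g : G} (hg : g ∈ normalizer (A : Set G)) {m : Subgroup G × Subgroup G}
    (hm : IsSys A m) :
    IsSys A (m.1.map (MulAut.conj g).toMonoidHom, m.2.map (MulAut.conj g).toMonoidHom) := by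
  obtain ⟨hA, h0, K, hK, hW, hU⟩ := hm
  set W := m.2
  set W' := W.map (MulAut.conj g).toMonoidHom with hW'
  have hcen : ∀ x, x ∈ cenS W ↔ g * x * g⁻¹ ∈ cenS W' := fun x => by
    rw [hW']
    simp only [cenS, mem_centralizer_iff, SetLike.mem_coe, mem_map, MulEquiv.coe_toMonoidHom,
      MulAut.conj_apply]
    constructor
    · rintro h _ ⟨b, hb, rfl⟩
      rw [conj_mul, conj_mul, h b hb]
    · intro h b hb
      have := h _ ⟨b, hb, rfl⟩
      rw [conj_mul, conj_mul] at this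
      exact mul_left_cancel (mul_right_cancel this)
  have hW'A : W' ≤ A := by
    rintro _ ⟨b, hb, rfl⟩
    exact (hC.conj_mem_iff hg).1 (hA hb)
  obtain ⟨f, hf⟩ := map_pre_conj hcen
  have hmap : ∀ X : Subgroup (XB W),
      A ⊓ pre W' (X.map f.toMonoidHom) = (A ⊓ pre W X).map (MulAut.conj g).toMonoidHom := by
    intro X
    ext y
    simp only [mem_map, MulEquiv.coe_toMonoidHom, MulAut.conj_apply, mem_inf]
    constructor
    · rintro ⟨hy, hy'⟩
      refine ⟨g⁻¹ * y * g, ⟨(hC.conj_mem_iff hg).2 ?_, (hf X _).1 ?_⟩, by group⟩ <;>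
        rwa [show g * (g⁻¹ * y * g) * g⁻¹ = y by group]
    · rintro ⟨x, ⟨hx, hx'⟩, rfl⟩
      exact ⟨(hC.conj_mem_iff hg).1 hx, (hf X x).2 hx'⟩
  refine ⟨hW'A, fun h => h0 ((map_eq_bot_iff_of_injective _ (MulAut.conj g).injective).1 h),
    K.map f.toMonoidHom, Components.component_map_equiv f hK, ?_, ?_⟩
  · rw [CA, ← Components.map_centralizer_equiv f K, hmap]
    exact congrArg (Subgroup.map _) hW
  · rw [UA, hmap]
    exact congrArg (Subgroup.map _) hU

theorem dihAt_conj {g : G} (hg : g ∈ normalizer (A : Set G)) {U W : Subgroup G} (h : DihAt A U W) :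
    DihAt A (U.map (MulAut.conj g).toMonoidHom) (W.map (MulAut.conj g).toMonoidHom) := by
  set f := (MulAut.conj g).toMonoidHom with hf
  have hinj : Function.Injective f := (MulAut.conj g).injective
  have hcs : ∀ X : Subgroup G, cenS (X.map f) = (cenS X).map f := fun X =>
    (Components.map_centralizer_equiv (MulAut.conj g) X).symm
  have hN : (normalizer (A : Set G)).map f = normalizer (A : Set G) :=
    LEBasic.map_conj_eq_iff_mem_normalizer.2 (le_normalizer hg)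
  show cenS (W.map f) ≤ _
  rw [hcs]
  refine (map_mono h).trans ?_
  rw [Subgroup.map_sup, Subgroup.map_iSup, hN]
  refine sup_le_sup (iSup_le fun x => ?_) le_rfl
  refine le_iSup_of_le ⟨f x, mem_map_of_mem _ x.2.1, fun e => x.2.2 (hinj (e.trans (map_one f).symm))⟩ ?_
  rw [← hcs, Subgroup.map_sup, MonoidHom.map_zpowers]

theorem isMinSys_conj {g : G} (hg : g ∈ normalizer (A : Set G)) {m : Subgroup G × Subgroup G}
    (hm : IsMinSys A m) :
    IsMinSys A (m.1.map (MulAut.conj g).toMonoidHom, m.2.map (MulAut.conj g).toMonoidHom) := by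
  refine ⟨hC.isSys_conj hg hm.1, fun r hr hle => ?_⟩
  have hr' := hC.isSys_conj (inv_mem hg) hr
  have e : ∀ X : Subgroup G, (X.map (MulAut.conj g⁻¹).toMonoidHom).map (MulAut.conj g).toMonoidHom = X :=
    fun X => by
      rw [Subgroup.map_map]
      convert Subgroup.map_id X using 2
      ext x
      simp [mul_assoc]
  have h2 := hm.2 _ hr' (by
    refine (map_mono hle).trans ?_
    rw [Subgroup.map_map]
    refine le_of_eq ?_
    convert Subgroup.map_id m.2 using 2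
    ext x
    simp [mul_assoc])
  have := congrArg (Subgroup.map (MulAut.conj g).toMonoidHom) h2
  rwa [e] at this

theorem sysSet : SysSet A {m | IsMinSys A m} where
  sq _ hx := hC.set.sq hx
  comm _ hx _ hy := hC.set.comm_A hx hy
  big := hC.set.big
  odd := by
    rw [← Nat.not_even_iff_odd, even_iff_two_dvd]
    intro h
    haveI : Fact (Nat.Prime 2) := ⟨Nat.prime_two⟩
    have hCN : cenS A ≤ normalizer (A : Set G) := centralizer_le_normalizer _
    exact S.not_dvd_index (h.trans ((relIndex_dvd_of_le_left _ hC.set.S_le_cenA).trans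
      (relIndex_dvd_index_of_le (hC.set.S_le_cenA.trans hCN))))
  sub m hm := ⟨(hC.sys_sup hm.1).1, hm.1.1⟩
  inf m hm := (hC.sys_sup hm.1).2.2.1
  sup m hm := (hC.sys_sup hm.1).2.1
  ne m hm := hm.1.2.1
  four m hm := (hC.sys_sup hm.1).2.2.2
  inv _ hg _ hm := hC.isMinSys_conj hg hm
  reg m hm := by
    obtain ⟨hA, h0, K, hK, hW, hU⟩ := hm.1
    obtain ⟨n, -, -, hnA, hnU, hnW, htr, hfix⟩ := hC.exists_reg hA h0 hK
    rw [hU] at hnU htr hfix
    rw [hW] at hnW
    exact ⟨n, hnA, hnU, hnW, htr, hfix⟩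
  share m hm r hr hne hint := by
    obtain ⟨w, hw, hw1⟩ := (m.2 ⊓ r.2).bot_or_exists_ne_one.resolve_left hint
    have hz : zpowers w ≤ A := zpowers_le.2 (hm.1.1 hw.1)
    have hz0 : zpowers w ≠ ⊥ := fun h => hw1 (zpowers_eq_bot.1 h)
    have main : ∀ p : Subgroup G × Subgroup G, IsMinSys A p → w ∈ p.2 →
        ∃ J : Subgroup (XB (zpowers w)), Cfsg.IsComponent J ∧
          (UA A (zpowers w) J, CA A (zpowers w) J) = p ∧ p.1 ≤ UA A (zpowers w) J := by
      intro p hp hwp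
      obtain ⟨hA, h0, K, hK, hW, hU⟩ := hp.1
      obtain ⟨J, hJ, hUJ, hWJ, -⟩ := hC.exists_pump (zpowers_le.2 hwp) hA hz0 hK
      exact ⟨J, hJ, hC.sys_eq (hC.isSys_of_comp hz hz0 hJ) hp.1
        (hp.2 _ (hC.isSys_of_comp hz hz0 hJ) (hWJ.trans hW.le)), hU ▸ hUJ⟩
    obtain ⟨J, hJ, hJm, -⟩ := main m hm hw.1
    obtain ⟨J', hJ', hJr, -⟩ := main r hr hw.2
    have hJJ : J ≠ J' := fun e => hne (by rw [← hJm, ← hJr, e])
    have hc := commutator_eq_bot_iff_le_centralizer.1 (components_commute hJ hJ' hJJ)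
    have hc' := commutator_eq_bot_iff_le_centralizer.1 (components_commute hJ' hJ hJJ.symm)
    rw [← hJm, ← hJr]
    refine ⟨fun x hx => ?_, fun x hx => ?_⟩ <;> obtain ⟨h, h'⟩ := mem_pre.1 hx.2
    · exact ⟨hx.1, mem_pre.2 ⟨h, hc' h'⟩⟩
    · exact ⟨hx.1, mem_pre.2 ⟨h, hc h'⟩⟩

/-- Distinct minimal systems are orthogonal. -/
theorem ortho {m r : Subgroup G × Subgroup G} (hm : IsMinSys A m) (hr : IsMinSys A r) (hne : m ≠ r) :
    r.1 ≤ m.2 ∧ m.1 ≤ r.2 :=
  combStmt G A _ hC.sysSet m hm r hr hne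

theorem exists_minSys : ∃ m, IsMinSys A m := by
  obtain ⟨a, ha, ha1, hns⟩ := hC.set.nonsol
  have hz : zpowers a ≤ A := zpowers_le.2 ha
  have hz0 : zpowers a ≠ ⊥ := fun h => ha1 (zpowers_eq_bot.1 h)
  suffices h : ∃ L : Subgroup (XB (zpowers a)), Cfsg.IsComponent L by
    obtain ⟨L, hL⟩ := h
    obtain ⟨m, hm, -⟩ := hC.exists_block hz hz0 hL
    exact ⟨m, hm⟩
  by_contra hno
  push Not at hno
  refine hns ?_
  have hlay : lay (zpowers a) ≤ cor (zpowers a) := le_of_map_le (lay_le _) le_rfl (by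
    rw [map_lay]
    exact layer_le_iff.2 fun L hL => absurd hL (hno L))
  have hle : cen a = cor (zpowers a) ⊔ (normalizer (A : Set G) ⊓ cen a) := by
    rw [← cenS_zpowers]
    exact le_antisymm ((hC.cenS_gen hz hz0).trans (sup_le (sup_le le_sup_left (hlay.trans le_sup_left))
      le_sup_right)) (sup_le (cor_le _) inf_le_right)
  haveI := solvable_of_coprime (cor_coprime (zpowers a))
  haveI := hC.set.normalizer_solvable
  haveI : Group.IsSolvable ↥(normalizer (A : Set G) ⊓ cen a) := Group.isSolvable_of_isSolvable_injective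
    (f := inclusion inf_le_left) (inclusion_injective _)
  rw [hle]
  exact Components.isSolvable_sup _ _
    (inf_le_right.trans ((cenS_zpowers a).ge.trans (cor_normalized _)))

/-- `A` is generated by the parts of any set of minimal systems and what centralises them all. -/
theorem dec_finset (T : Finset (Subgroup G × Subgroup G)) (hT : ∀ m ∈ T, IsMinSys A m) :
    A ≤ (⨆ m ∈ T, m.1) ⊔ (A ⊓ ⨅ m ∈ T, m.2) := by
  classical
  induction T using Finset.induction_on with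
  | empty => exact fun x hx => mem_sup_right ⟨hx, by simp⟩
  | insert p T hp ih =>
    have hTT : ∀ m ∈ T, IsMinSys A m := fun m hm => hT m (Finset.mem_insert_of_mem hm)
    have hpm := hT p (Finset.mem_insert_self _ _)
    refine (ih hTT).trans (sup_le (le_sup_of_le_left (biSup_mono fun m => Finset.mem_insert_of_mem)) ?_)
    intro x hx
    obtain ⟨hxA, hxT⟩ := mem_inf.1 hx
    obtain ⟨hUA, hsup, -, -⟩ := hC.sys_sup hpm.1
    have hc : ⁅p.1, p.2⁆ = ⊥ := commutator_eq_bot_iff_le_centralizer.2 fun y hy =>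
      mem_centralizer_iff.2 fun z hz => hC.set.comm_A (hpm.1.1 hz) (hUA hy)
    obtain ⟨u, hu, w, hw, rfl⟩ := BpBalance.mem_sup_of_commute hc (hsup.ge hxA)
    refine mul_mem (mem_sup_left ((show p.1 ≤ ⨆ m ∈ insert p T, m.1 from
      le_iSup₂_of_le p (Finset.mem_insert_self _ _) le_rfl) hu))
      (mem_sup_right (mem_inf.2 ⟨hpm.1.1 hw, ?_⟩))
    simp only [mem_iInf] at hxT ⊢
    intro m hm
    rcases Finset.mem_insert.1 hm with rfl | hm
    · exact hw
    · have hu' : u ∈ m.2 := (hC.ortho (hTT m hm) hpm fun e => hp (e ▸ hm)).1 hu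
      simpa using mul_mem (inv_mem hu') (hxT m hm)

theorem resid_conj {g : G} (hg : g ∈ normalizer (A : Set G)) :
    (resid A).map (MulAut.conj g).toMonoidHom = resid A := by
  refine eq_of_le_of_card_ge ?_ (card_map_of_injective (MulAut.conj g).injective).ge
  rintro _ ⟨x, hx', rfl⟩
  obtain ⟨hxA, hx⟩ := mem_inf.1 hx'
  refine mem_inf.2 ⟨(hC.conj_mem_iff hg).1 hxA, ?_⟩
  rw [mem_iInf] at hx ⊢
  intro m
  have h := hC.isMinSys_conj (inv_mem hg) m.2
  obtain ⟨y, hy, e⟩ : x ∈ m.1.2.map (MulAut.conj g⁻¹).toMonoidHom := hx ⟨_, h⟩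
  rw [← e]
  simpa [mul_assoc] using hy

/-- The residual part has no element fixed by `N(A)`. -/
theorem resid_four (h : resid A ≠ ⊥) : 4 ≤ Nat.card (resid A) := by
  haveI : Fact (Nat.Prime 2) := ⟨Nat.prime_two⟩
  obtain ⟨k, hk⟩ : ∃ k, Nat.card (resid A) = 2 ^ k := IsPGroup.iff_card.1
    ((Signalizer.ea_isPGroup hC.set.ea).to_le (inf_le_left : resid A ≤ A))
  by_contra hlt
  push Not at hlt
  have hk2 : k = 1 := by
    rcases Nat.lt_or_ge k 1 with h0 | h0
    · exact absurd (Subgroup.card_eq_one.1 (by rw [hk, show k = 0 by omega, pow_zero])) h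
    · by_contra hne
      have : 2 ^ 2 ≤ 2 ^ k := Nat.pow_le_pow_right (by norm_num) (by omega)
      omega
  obtain ⟨r, hr, hr1⟩ := (resid A).bot_or_exists_ne_one.resolve_left h
  have hr2 : orderOf r = 2 := orderOf_eq_prime (by rw [pow_two]; exact hC.set.sq hr.1) hr1
  have hfix : ∀ g ∈ normalizer ((S : Subgroup G) : Set G), g * r * g⁻¹ = r := by
    intro g hg
    have hgA : g ∈ normalizer (A : Set G) := by
      refine mem_normalizer_of_forall fun a ha => (hC.set.mem _).2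
        ⟨(mem_normalizer_iff.1 hg a).1 (hC.set.le ha), ?_⟩
      rw [conj_mul, hC.set.sq ha, mul_one, mul_inv_cancel]
    have hgr : g * r * g⁻¹ ∈ resid A := (hC.resid_conj hgA).le ⟨r, hr, rfl⟩
    have hR : resid A = zpowers r := (eq_of_le_of_card_ge (zpowers_le.2 hr)
      (by rw [Nat.card_zpowers, hr2, hk, hk2, pow_one])).symm
    rw [hR] at hgr
    rcases ClosedAbelian.zpowers_cases (hC.set.sq hr.1) hgr with e | e
    · exact absurd (conj_eq_one_iff.1 e) hr1
    · exact e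
  haveI := hC.simple
  have hO : Cfsg.pPrimeCore 2 G = ⊥ := by
    rcases (Cfsg.pPrimeCore_normal 2 G).eq_bot_or_eq_top with e | e
    · exact e
    · have hc := FittingCores.pPrimeCore_coprime (G := G) 2
      rw [e, card_top] at hc
      have h2 : 2 ∣ Nat.card G := hr2 ▸ orderOf_dvd_natCard r
      exact absurd (Nat.eq_one_of_dvd_coprimes hc h2 dvd_rfl) (by norm_num)
  have hz := AbelianSylowAut.mem_center_of_fixed G hO S hC.set.ab r (hC.set.le hr.1) hfix
  rcases (inferInstance : (center G).Normal).eq_bot_or_eq_top with hc | hc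
  · exact hr1 (mem_bot.1 (hc ▸ hz))
  · exact hC.nonab ⟨⟨fun x y => mem_center_iff.1 (hc ▸ mem_top y) x⟩⟩

theorem resid_le {W U : Subgroup G} (hW : IsMinSys A (U, W)) : resid A ≤ W :=
  inf_le_right.trans (iInf_le (fun m : {m : Subgroup G × Subgroup G // IsMinSys A m} => m.1.2) ⟨_, hW⟩)

/-- A block different from that of a system is inside its centraliser. -/
theorem block_le {U W : Subgroup G} (hm : IsMinSys A (U, W)) {V : Subgroup G} (hV : V ∈ blockSet A)
    (hne : V ≠ U) : V ≤ W := by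
  rcases hV with ⟨W', hV⟩ | ⟨rfl, -⟩
  · exact (hC.ortho hm hV fun e => hne (congrArg Prod.fst e).symm).1
  · exact hC.resid_le hm

theorem block_le_A {V : Subgroup G} (hV : V ∈ blockSet A) : V ≤ A := by
  rcases hV with ⟨W, hV⟩ | ⟨rfl, -⟩
  · exact (hC.sys_sup hV.1).1
  · exact inf_le_left

theorem blocks_sup : ⨆ i : blockSet A, (i : Subgroup G) = A := by
  classical
  refine le_antisymm (iSup_le fun i => hC.block_le_A i.2) ?_
  set T := (Set.toFinite {m : Subgroup G × Subgroup G | IsMinSys A m}).toFinset with hT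
  have hmem : ∀ m, m ∈ T ↔ IsMinSys A m := fun m => Set.Finite.mem_toFinset _
  refine (hC.dec_finset T fun m hm => (hmem m).1 hm).trans (sup_le (iSup₂_le fun m hm => ?_) ?_)
  · exact le_iSup (fun i : blockSet A => (i : Subgroup G)) ⟨m.1, Or.inl ⟨m.2, (hmem m).1 hm⟩⟩
  · have e : A ⊓ ⨅ m ∈ T, m.2 ≤ resid A :=
      inf_le_inf le_rfl (le_iInf fun m => iInf₂_le m.1 ((hmem _).2 m.2))
    refine e.trans ?_
    by_cases h0 : resid A = ⊥
    · exact h0.le.trans bot_le
    · exact le_iSup (fun i : blockSet A => (i : Subgroup G)) ⟨resid A, Or.inr ⟨rfl, h0⟩⟩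

/-- A finite product of parts centralising all the systems involved is trivial. -/
theorem sum_inf (T : Finset (Subgroup G × Subgroup G)) (hT : ∀ m ∈ T, IsMinSys A m) :
    (⨆ m ∈ T, m.1) ⊓ (⨅ m ∈ T, m.2) = ⊥ := by
  classical
  induction T using Finset.induction_on with
  | empty => simp
  | insert p T hp ih =>
    have hTT : ∀ m ∈ T, IsMinSys A m := fun m hm => hT m (Finset.mem_insert_of_mem hm)
    have hpm := hT p (Finset.mem_insert_self _ _)
    refine (eq_bot_iff_forall _).2 fun x hx => ?_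
    obtain ⟨hx1, hx2⟩ := hx
    rw [Finset.iSup_insert] at hx1
    rw [SetLike.mem_coe, Finset.iInf_insert] at hx2
    have hle : (⨆ m ∈ T, m.1) ≤ p.2 :=
      iSup₂_le fun m hm => (hC.ortho hpm (hTT m hm) fun e => hp (e ▸ hm)).1
    have hUA := (hC.sys_sup hpm.1).1
    have hc : ⁅p.1, ⨆ m ∈ T, m.1⁆ = ⊥ := commutator_eq_bot_iff_le_centralizer.2 fun y hy =>
      mem_centralizer_iff.2 fun z hz => hC.set.comm_A (hpm.1.1 (hle hz)) (hUA hy)
    obtain ⟨u, hu, y, hy, rfl⟩ := BpBalance.mem_sup_of_commute hc hx1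
    have hu2 : u ∈ p.2 := by
      simpa using p.2.mul_mem hx2.1 (p.2.inv_mem (hle hy))
    have hu1 : u = 1 := mem_bot.1 ((hC.sys_sup hpm.1).2.2.1 ▸ ⟨hu, hu2⟩)
    subst hu1
    rw [one_mul] at hx2 ⊢
    exact mem_bot.1 ((ih hTT) ▸ ⟨hy, hx2.2⟩)

theorem blocks_indep : iSupIndep fun i : blockSet A => (i : Subgroup G) := by
  classical
  intro i
  rw [disjoint_iff]
  refine (eq_bot_iff_forall _).2 fun x hx => ?_
  obtain ⟨hx1, hx2⟩ := hx
  rcases i.2 with ⟨W, hi⟩ | ⟨hi, -⟩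
  · have hle : (⨆ (j : blockSet A) (_ : j ≠ i), (j : Subgroup G)) ≤ W :=
      iSup₂_le fun j hj => hC.block_le hi j.2 fun e => hj (Subtype.ext e)
    exact mem_bot.1 ((hC.sys_sup hi.1).2.2.1 ▸ ⟨hx1, hle hx2⟩)
  · set T := (Set.toFinite {m : Subgroup G × Subgroup G | IsMinSys A m}).toFinset with hT
    have hmem : ∀ m, m ∈ T ↔ IsMinSys A m := fun m => Set.Finite.mem_toFinset _
    have hle : (⨆ (j : blockSet A) (_ : j ≠ i), (j : Subgroup G)) ≤ ⨆ m ∈ T, m.1 := by
      refine iSup₂_le fun j hj => ?_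
      rcases j.2 with ⟨W, h⟩ | ⟨h, -⟩
      · exact le_iSup₂_of_le ((j : Subgroup G), W) ((hmem _).2 h) le_rfl
      · exact absurd (Subtype.ext (h.trans hi.symm)) hj
    refine mem_bot.1 (hC.sum_inf T (fun m hm => (hmem m).1 hm) ▸ mem_inf.2 ⟨hle hx2, ?_⟩)
    rw [mem_iInf]
    intro m
    rw [mem_iInf]
    intro hm
    exact hC.resid_le (U := m.1) ((hmem m).1 hm) (hi ▸ hx1)

/-- The blocks. -/
noncomputable def blocks : Blocks A where
  ι := blockSet A
  finite := inferInstance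
  U i := i
  F := {i | ∃ W, IsMinSys A ((i : Subgroup G), W) ∧ Nat.card (i : Subgroup G) = 4 ∧ DihAt A i W}
  eq := hC.blocks_sup
  indep := hC.blocks_indep
  four i := by
    rcases i.2 with ⟨W, h⟩ | ⟨h, h0⟩
    · exact (hC.sys_sup h.1).2.2.2
    · rw [h] at h0 ⊢
      exact hC.resid_four h0
  two i := by
    by_contra hno
    push Not at hno
    obtain ⟨m, hm⟩ := hC.exists_minSys
    have hi : (i : Subgroup G) = m.1 := congrArg Subtype.val (hno ⟨m.1, Or.inl ⟨m.2, hm⟩⟩).symm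
    have hA : A ≤ m.1 := hC.blocks_sup.ge.trans (iSup_le fun j => by rw [hno j, hi])
    obtain ⟨w, hw, hw1⟩ := m.2.bot_or_exists_ne_one.resolve_left hm.1.2.1
    exact hw1 (mem_bot.1 ((hC.sys_sup hm.1).2.2.1 ▸ ⟨hA (hm.1.1 hw), hw⟩))
  perm g hg i := by
    have hg' : g⁻¹ ∈ normalizer (A : Set G) := inv_mem hg
    have hmem : (i : Subgroup G).map (MulAut.conj g).toMonoidHom ∈ blockSet A := by
      rcases i.2 with ⟨W, h⟩ | ⟨h, h0⟩
      · exact Or.inl ⟨_, hC.isMinSys_conj hg h⟩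
      · refine Or.inr ⟨by rw [h, hC.resid_conj hg], fun e => h0 ?_⟩
        exact (map_eq_bot_iff_of_injective _ (MulAut.conj g).injective).1 e
    refine ⟨⟨_, hmem⟩, rfl, ?_⟩
    have key : ∀ {g : G}, g ∈ normalizer (A : Set G) → ∀ {U W : Subgroup G},
        IsMinSys A (U, W) ∧ Nat.card U = 4 ∧ DihAt A U W →
        ∀ {U' : Subgroup G}, U.map (MulAut.conj g).toMonoidHom = U' →
          ∃ W', IsMinSys A (U', W') ∧ Nat.card U' = 4 ∧ DihAt A U' W' := by
      rintro g hg U W ⟨h1, h2, h3⟩ U' rfl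
      exact ⟨_, hC.isMinSys_conj hg h1, by rw [card_map_of_injective (MulAut.conj g).injective, h2],
        hC.dihAt_conj hg h3⟩
    refine ⟨fun ⟨W, h⟩ => key hg h rfl, fun ⟨W, h⟩ => key hg' h ?_⟩
    show ((i : Subgroup G).map _).map _ = (i : Subgroup G)
    rw [Subgroup.map_map]
    convert Subgroup.map_id (i : Subgroup G) using 2
    ext x
    simp [mul_assoc]

end Ctx

end Cfsg.Agent.Walter4
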