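import Cfsg.Agent.Lib.Walter4.Ind
import Cfsg.Agent.Lib.Components.PTerminalPerfect
import Cfsg.Agent.Lib.Components.Local
import Cfsg.Agent.Lib.AbelInv.Main
import Cfsg.Agent.S4593
import Cfsg.Agent.S0205

/-!
A group with abelian Sylow 2-subgroups and trivial odd core: its components are simple, each Sylow
2-subgroup acts on them by inner automorphisms and lies in `E(H) O₂(H)`.
-/

set_option autoImplicit false
set_option linter.unusedSectionVars false
set_option linter.style.haveILetI false

namespace Cfsg.Agent.Walter4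

open Subgroup

universe u

variable {H : Type u} [Group H] [Finite H] (S : Sylow 2 H)

/-- A group all of whose sections of at most its order are known. -/
def Known (H : Type u) [Group H] : Prop :=
  ∀ (X : Type u) [Group X] [Finite X], Nat.card X ≤ Nat.card H → IsSimpleGroup X → ¬ IsMulCommutative X →
    (∀ P : Sylow 2 X, IsMulCommutative (P : Subgroup X)) → Good X

theorem Ind.known {G : Type u} [Group G] (hI : Ind G) (h : Nat.card H < Nat.card G) : Known H :=
  fun X _ _ hX => hI X (hX.trans_lt h)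

/-- The Sylow 2-subgroups of a subgroup are abelian. -/
theorem comm_sylow_sub (hS : IsMulCommutative (S : Subgroup H)) (K : Subgroup H) (P : Sylow 2 K) :
    IsMulCommutative (P : Subgroup K) := by
  haveI := AbelInv.comm_of_two hS (P.2.map K.subtype)
  refine ⟨⟨fun a b => Subtype.ext (Subtype.ext ?_)⟩⟩
  have h1 := congrArg Subtype.val (mul_comm'
    (⟨_, ⟨a, a.2, rfl⟩⟩ : (P : Subgroup K).map K.subtype) ⟨_, ⟨b, b.2, rfl⟩⟩)
  exact h1

/-- The elements of an abelian Sylow subgroup commute. -/
theorem comm_mem (hS : IsMulCommutative (S : Subgroup H)) {a b : H} (ha : a ∈ (S : Subgroup H))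
    (hb : b ∈ (S : Subgroup H)) : a * b = b * a :=
  congrArg Subtype.val (hS.is_comm.comm (⟨a, ha⟩ : (S : Subgroup H)) ⟨b, hb⟩)

variable (hS : IsMulCommutative (S : Subgroup H)) (hcore : Cfsg.pPrimeCore 2 H = ⊥)
include hS hcore

/-- A component has trivial centre. -/
theorem component_center {K : Subgroup H} (hK : Cfsg.IsComponent K) : center ↥K = ⊥ := by
  haveI : Fact (Nat.Prime 2) := ⟨Nat.prime_two⟩
  haveI := hK.2.1
  have hodd : (Nat.card (center ↥K)).Coprime 2 := by
    rw [Nat.coprime_two_right, ← Nat.not_even_iff_odd, even_iff_two_dvd]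
    intro h2
    obtain ⟨z, hz⟩ := exists_prime_orderOf_dvd_card' 2 h2
    obtain ⟨P, hP⟩ := (IsPGroup.of_card (G := zpowers (z : K)) (p := 2) (n := 1) (by
      rw [Nat.card_zpowers, Subgroup.orderOf_coe, hz, pow_one])).exists_le_sylow
    haveI := comm_sylow_sub S hS K P
    have h1 : (z : K) = 1 := PTerm.eq_one_of_transfer P.2 P.not_dvd_index (hP (mem_zpowers _))
      fun k g _ => by
        have hc : Commute g ((z : K) ^ k) := Commute.pow_right (mem_center_iff.1 z.2 g) k
        rw [mul_assoc, ← hc.eq, inv_mul_cancel_left]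
    rw [OneMemClass.coe_eq_one.1 h1, orderOf_one] at hz
    exact absurd hz (by norm_num)
  rw [← map_eq_bot_iff_of_injective (f := K.subtype) _ K.subtype_injective, ← le_bot_iff, ← hcore]
  refine Components.subnormal_le_pPrimeCore
    ((inferInstance : (center ↥K).Normal).isSubnormal.trans' hK.1) ?_
  rwa [card_map_of_injective K.subtype_injective]

/-- A component is simple. -/
theorem component_simple {K : Subgroup H} (hK : Cfsg.IsComponent K) :
    IsSimpleGroup ↥K ∧ ¬ IsMulCommutative ↥K := by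
  haveI := hK.2.2
  have e : ↥K ⧸ center ↥K ≃* ↥K :=
    (QuotientGroup.quotientMulEquivOfEq (component_center S hS hcore hK)).trans QuotientGroup.quotientBot
  exact ⟨e.symm.isSimpleGroup, Components.quasisimple_not_commutative hK.2⟩

/-- A component is one of the known groups. -/
theorem component_good (hkn : Known H) {K : Subgroup H} (hK : Cfsg.IsComponent K) : Good ↥K :=
  hkn K (Subgroup.card_le_card_group K) (component_simple S hS hcore hK).1 (component_simple S hS hcore hK).2
    (comm_sylow_sub S hS K)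

/-- The Sylow 2-subgroup meets a component in a non-trivial Sylow 2-subgroup of it. -/
theorem exists_sylow_component {K : Subgroup H} (hK : Cfsg.IsComponent K) :
    ∃ T : Sylow 2 K, (T : Subgroup K) = (S : Subgroup H).subgroupOf K ∧ 2 ∣ Nat.card (T : Subgroup K) := by
  haveI : Fact (Nat.Prime 2) := ⟨Nat.prime_two⟩
  have hidx : ¬ 2 ∣ ((S : Subgroup H).subgroupOf K).index :=
    PTerm.sylow_inf_subnormal S.not_dvd_index hK.1
  refine ⟨(S.2.comap_of_injective K.subtype K.subtype_injective).toSylow hidx, rfl, ?_⟩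
  have hns := Components.quasisimple_not_solvable hK.2
  have hev : 2 ∣ Nat.card K := by
    by_contra h
    exact hns (S0205.result (Nat.not_even_iff_odd.1 (fun he => h (even_iff_two_dvd.1 he))))
  rw [← ((S : Subgroup H).subgroupOf K).card_mul_index] at hev
  exact (Nat.prime_two.dvd_mul.1 hev).resolve_right hidx

/-- The Sylow 2-subgroup normalises every component. -/
theorem conj_component {K : Subgroup H} (hK : Cfsg.IsComponent K) {s : H} (hs : s ∈ (S : Subgroup H)) :
    K.map (MulAut.conj s).toMonoidHom = K := by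
  haveI : Fact (Nat.Prime 2) := ⟨Nat.prime_two⟩
  by_contra hne
  have hK' := Components.component_map_equiv (MulAut.conj s) hK
  have hcomm := Components.components_commute hK hK' (Ne.symm hne)
  obtain ⟨T, hT, h2⟩ := exists_sylow_component S hS hcore hK
  obtain ⟨t, ht⟩ := exists_prime_orderOf_dvd_card' 2 h2
  have hts : ((t : K) : H) ∈ (S : Subgroup H) := by
    have := t.2
    simpa [hT, mem_subgroupOf] using this
  have htK' : ((t : K) : H) ∈ K.map (MulAut.conj s).toMonoidHom :=
    ⟨_, (t : K).2, by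
      show s * ((t : K) : H) * s⁻¹ = ((t : K) : H)
      rw [comm_mem S hS hs hts, mul_inv_cancel_right]⟩
  have hz : (t : K) ∈ center ↥K := mem_center_iff.2 fun g => Subtype.ext
    (mem_centralizer_iff.1 ((Subgroup.commutator_eq_bot_iff_le_centralizer.1 hcomm) g.2) _ htK').symm
  rw [component_center S hS hcore hK, mem_bot, OneMemClass.coe_eq_one] at hz
  rw [hz, orderOf_one] at ht
  exact absurd ht (by norm_num)

/-- The Sylow 2-subgroup acts on a component by inner automorphisms from itself. -/
theorem exists_inner {K : Subgroup H} (hK : Cfsg.IsComponent K) {s : H} (hs : s ∈ (S : Subgroup H)) :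
    ∃ k ∈ K, k ∈ (S : Subgroup H) ∧ ∀ x ∈ K, s * x * s⁻¹ = k * x * k⁻¹ := by
  haveI : Fact (Nat.Prime 2) := ⟨Nat.prime_two⟩
  have hZ := component_center S hS hcore hK
  obtain ⟨hsimple, -⟩ := component_simple S hS hcore hK
  haveI := hsimple
  obtain ⟨T, hT, h2⟩ := exists_sylow_component S hS hcore hK
  have hmemT : ∀ x : K, x ∈ (T : Subgroup K) ↔ (x : H) ∈ (S : Subgroup H) := fun x => by
    rw [hT, mem_subgroupOf]
  have hsN : ∀ x : H, x ∈ K ↔ MulAut.conj s x ∈ K := fun x => by
    conv_rhs => rw [← conj_component S hS hcore hK hs]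
    exact ⟨fun hx => ⟨x, hx, rfl⟩, fun ⟨y, hy, he⟩ => by rwa [← (MulAut.conj s).injective he]⟩
  let α : MulAut K :=
    { toFun := fun x => ⟨s * x * s⁻¹, (hsN x).1 x.2⟩
      invFun := fun x => ⟨s⁻¹ * x * s, (hsN _).2 (by simpa [mul_assoc] using x.2)⟩
      left_inv := fun x => Subtype.ext (by simp [mul_assoc])
      right_inv := fun x => Subtype.ext (by simp [mul_assoc])
      map_mul' := fun x y => Subtype.ext (by simp [mul_assoc]) }
  have hαn : ∀ (n : ℕ) (x : K), (((α ^ n) x : K) : H) = s ^ n * x * (s ^ n)⁻¹ := by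
    intro n
    induction n with
    | zero => intro x; simp
    | succ n ih =>
      intro x
      rw [pow_succ, MulAut.mul_apply, ih, pow_succ]
      show s ^ n * (s * x * s⁻¹) * (s ^ n)⁻¹ = _
      group
  have h2α : ∃ j : ℕ, orderOf α = 2 ^ j := by
    obtain ⟨m, hm⟩ := S.2 ⟨s, hs⟩
    obtain ⟨j, -, hj⟩ := (Nat.dvd_prime_pow Nat.prime_two).1 (orderOf_dvd_of_pow_eq_one
      (MulEquiv.ext fun x => Subtype.ext (by
        rw [hαn, show s ^ 2 ^ m = 1 from congrArg Subtype.val hm]
        simp) : α ^ 2 ^ m = 1))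
    exact ⟨j, hj⟩
  have hcoreK : Cfsg.pPrimeCore 2 ↥K = ⊥ := by
    rcases (Cfsg.pPrimeCore_normal 2 ↥K).eq_bot_or_eq_top with h | h
    · exact h
    · exfalso
      have hc := PBasic.pPrimeCore_coprime 2 K
      rw [h, card_top] at hc
      have h2K : 2 ∣ Nat.card K := h2.trans (card_subgroup_dvd_card _)
      exact absurd (Nat.eq_one_of_dvd_coprimes hc h2K dvd_rfl) (by norm_num)
  obtain ⟨k, hk⟩ := S4593.result hZ hcoreK T (comm_sylow_sub S hS K T) α h2α fun x hx =>
    Subtype.ext (by
      show s * (x : H) * s⁻¹ = (x : H)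
      rw [comm_mem S hS hs ((hmemT x).1 hx), mul_inv_cancel_right])
  have hkH : ∀ x : K, s * (x : H) * s⁻¹ = (k : H) * x * (k : H)⁻¹ := fun x =>
    congrArg Subtype.val (hk x)
  have hkm : ∀ (n : ℕ) (x : K), (α ^ n) x = k ^ n * x * (k ^ n)⁻¹ := by
    intro n
    induction n with
    | zero => intro x; simp
    | succ n ih =>
      intro x
      rw [pow_succ, MulAut.mul_apply, ih, hk, pow_succ]
      group
  obtain ⟨m, hm⟩ := S.2 ⟨s, hs⟩
  have hk2 : k ^ 2 ^ m = 1 := by
    have hc : k ^ 2 ^ m ∈ center ↥K := mem_center_iff.2 fun x => by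
      have h := hkm (2 ^ m) x
      rw [show (α ^ 2 ^ m) x = x from Subtype.ext (by
        rw [hαn, show s ^ 2 ^ m = 1 from congrArg Subtype.val hm]; simp)] at h
      rw [eq_mul_inv_iff_mul_eq] at h
      exact h
    rwa [hZ, mem_bot] at hc
  have hkT : ∀ x ∈ (T : Subgroup K), k * x = x * k := fun x hx => by
    have h := hkH x
    rw [comm_mem S hS hs ((hmemT x).1 hx), mul_inv_cancel_right, eq_mul_inv_iff_mul_eq] at h
    exact Subtype.ext h.symm
  have hkmem : k ∈ (T : Subgroup K) := by
    have hP : IsPGroup 2 (zpowers k) := by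
      obtain ⟨i, -, hi⟩ := (Nat.dvd_prime_pow Nat.prime_two).1 (orderOf_dvd_of_pow_eq_one hk2)
      exact IsPGroup.of_card (n := i) (by rw [Nat.card_zpowers, hi])
    have hle : zpowers k ≤ normalizer ((T : Subgroup K) : Set K) := zpowers_le.2
      (centralizer_le_normalizer _ (mem_centralizer_iff.2 fun x hx => (hkT x hx).symm))
    have h1 := T.is_maximal' (IsPGroup.to_sup_of_normal_right' hP T.2 hle) le_sup_right
    exact h1 ▸ le_sup_left (a := zpowers k) (mem_zpowers k)
  exact ⟨k, k.2, (hmemT k).1 hkmem, fun x hx => hkH ⟨x, hx⟩⟩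

/-- The Sylow 2-subgroup lies in `O₂(H) E(H)`. -/
theorem sylow_le : (S : Subgroup H) ≤ Cfsg.pCore 2 H ⊔ Cfsg.layer H := by
  classical
  haveI : Fact (Nat.Prime 2) := ⟨Nat.prime_two⟩
  have hF : Cfsg.fittingSubgroup H = Cfsg.pCore 2 H := FittingCores.fitting_eq_pCore Nat.prime_two hcore
  intro s hs
  have key : ∀ T : Finset (Subgroup H), (∀ K ∈ T, Cfsg.IsComponent K) →
      ∃ e ∈ Cfsg.layer H, e ∈ (S : Subgroup H) ∧ ∀ K ∈ T, ∀ x ∈ K, s * e⁻¹ * x = x * (s * e⁻¹) := by
    intro T
    induction T using Finset.induction_on with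
    | empty => exact fun _ => ⟨1, one_mem _, one_mem _, by simp⟩
    | insert K T hKT ih =>
      intro hT
      obtain ⟨e, heL, heS, he⟩ := ih fun L hL => hT L (Finset.mem_insert_of_mem hL)
      have hK := hT K (Finset.mem_insert_self _ _)
      obtain ⟨k, hkK, hkS, hk⟩ := exists_inner S hS hcore hK (mul_mem hs (inv_mem heS))
      have hcs : Commute k (s * e⁻¹) := comm_mem S hS hkS (mul_mem hs (inv_mem heS))
      refine ⟨k * e, mul_mem (Components.component_le_layer hK hkK) heL, mul_mem hkS heS, ?_⟩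
      intro L hL x hx
      have hrw : s * (k * e)⁻¹ = (s * e⁻¹) * k⁻¹ := by rw [mul_inv_rev, mul_assoc]
      rw [hrw]
      rcases Finset.mem_insert.1 hL with rfl | hL'
      · calc s * e⁻¹ * k⁻¹ * x = k⁻¹ * (s * e⁻¹) * x := by rw [(hcs.inv_left).eq]
          _ = k⁻¹ * (s * e⁻¹ * x * (s * e⁻¹)⁻¹ * (s * e⁻¹)) := by group
          _ = k⁻¹ * (k * x * k⁻¹ * (s * e⁻¹)) := by rw [hk x hx]
          _ = x * (k⁻¹ * (s * e⁻¹)) := by group
          _ = x * (s * e⁻¹ * k⁻¹) := by rw [(hcs.inv_left).eq]
      · have hne : K ≠ L := fun h => hKT (h ▸ hL')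
        have hkx : k * x = x * k := commutatorElement_eq_one_iff_mul_comm.1
          ((Subgroup.mem_bot).1 (Components.components_commute hK (hT L hL) hne ▸
            Subgroup.commutator_mem_commutator hkK hx))
        rw [mul_assoc, (Commute.inv_left hkx).eq, ← mul_assoc, he L hL' x hx, mul_assoc]
  haveI : Fintype (Subgroup H) := Fintype.ofFinite _
  obtain ⟨e, heL, heS, he⟩ := key (Finset.univ.filter fun K => Cfsg.IsComponent K)
    fun K hK => (Finset.mem_filter.1 hK).2
  have hc : s * e⁻¹ ∈ centralizer (Cfsg.generalizedFittingSubgroup H : Set H) := by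
    rw [Cfsg.generalizedFittingSubgroup]
    refine (le_centralizer_iff.1 (sup_le (Components.layer_le_iff.2 fun K hK x hx => ?_) fun x hx => ?_))
      (mem_zpowers (s * e⁻¹))
    · refine mem_centralizer_iff.2 fun c hc => ?_
      obtain ⟨i, rfl⟩ := mem_zpowers_iff.1 hc
      exact (Commute.zpow_left (he K (Finset.mem_filter.2 ⟨Finset.mem_univ _, hK⟩) x hx) i).eq
    · rw [hF] at hx
      have hxS := PBasic.pCore_le_sylow S hx
      refine mem_centralizer_iff.2 fun c hc => ?_
      obtain ⟨i, rfl⟩ := mem_zpowers_iff.1 hc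
      exact (Commute.zpow_left (comm_mem S hS (mul_mem hs (inv_mem heS)) hxS) i).eq
  have hc2 := Components.centralizer_generalizedFitting_le hc
  rw [Cfsg.generalizedFittingSubgroup, hF, sup_comm] at hc2
  have := mul_mem hc2 (le_sup_right (a := Cfsg.pCore 2 H) heL)
  rwa [inv_mul_cancel_right] at this

/-- `H = O₂(H) E(H) N(S)`. -/
theorem sup_normalizer_eq_top :
    Cfsg.pCore 2 H ⊔ Cfsg.layer H ⊔ normalizer ((S : Subgroup H) : Set H) = ⊤ := by
  haveI : Fact (Nat.Prime 2) := ⟨Nat.prime_two⟩
  haveI := FittingCores.pCore_normal (G := H) 2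
  haveI := Components.layer_normal (G := H)
  rw [sup_comm]
  exact Sylow.normalizer_sup_eq_top' S (sylow_le S hS hcore)

end Cfsg.Agent.Walter4
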