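import Cfsg.Agent.Lib.Walter4.Move

/-!
The centraliser of `B ≤ A` is generated by its odd core, its 2-layer and its part normalising `A`.
-/

set_option autoImplicit false
set_option linter.style.haveILetI false
set_option linter.unusedSectionVars false

namespace Cfsg.Agent.Walter4

open Subgroup Cfsg.Agent.Components
open Cfsg.Agent.OddDown.CoreSep (q im mem_im)

universe u

attribute [local instance] FittingCores.pPrimeCore_normal

variable {G : Type u} [Group G] [Finite G]

/-- A subgroup of `C(B)` is below `Y` if `Y` contains the core and its image is below that of `Y`. -/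
theorem le_of_map_le {B Y X : Subgroup G} (hX : X ≤ cenS B) (hY : cor B ≤ Y)
    (h : im (cenS B) X ≤ im (cenS B) Y) : X ≤ Y := by
  intro x hx
  obtain ⟨y, hy, e⟩ := h (mem_im hx (hX hx))
  have h1 : y⁻¹ * ⟨x, hX hx⟩ ∈ Cfsg.pPrimeCore 2 ↥(cenS B) := QuotientGroup.eq.1 e
  have h2 : (y : G)⁻¹ * x ∈ Y := hY ⟨_, h1, rfl⟩
  have := Y.mul_mem (show (y : G) ∈ Y from hy) h2
  rwa [mul_inv_cancel_left] at this

theorem map_lay (B : Subgroup G) : im (cenS B) (lay B) = Cfsg.layer (XB B) := by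
  haveI : Fact (Nat.Prime 2) := ⟨Nat.prime_two⟩
  rw [← map_pLayer (p := 2)]
  show ((lay B).subgroupOf (cenS B)).map (q (cenS B)) = _
  rw [lay, subgroupOf_map_subtype_eq]
where
  subgroupOf_map_subtype_eq {H : Subgroup G} {K : Subgroup ↥H} : (K.map H.subtype).subgroupOf H = K :=
    comap_map_eq_self_of_injective H.subtype_injective K

namespace Ctx

variable {S : Sylow 2 G} {A : Subgroup G} (hC : Ctx S A)
include hC

theorem S_normalizes : (S : Subgroup G) ≤ normalizer (A : Set G) := fun _ hx =>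
  centralizer_le_normalizer _ (mem_centralizer_iff.2 fun _ ha => hC.set.comm (hC.set.le ha) hx)

/-- `C(B) = O(C(B)) L(C(B)) N(A)`. -/
theorem cenS_gen {B : Subgroup G} (hB : B ≤ A) (hB0 : B ≠ ⊥) :
    cenS B ≤ cor B ⊔ lay B ⊔ (normalizer (A : Set G) ⊓ cenS B) := by
  haveI : Fact (Nat.Prime 2) := ⟨Nat.prime_two⟩
  set H := cenS B with hH
  refine le_of_map_le le_rfl (le_sup_left.trans le_sup_left) ?_
  obtain ⟨T, hT⟩ := hC.exists_sylow hB
  have hSN : im H (S : Subgroup G) ≤ Cfsg.pCore 2 (XB B) ⊔ Cfsg.layer (XB B) :=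
    (hC.struct_at hB hB0).2
  haveI := FittingCores.pCore_normal (G := XB B) 2
  haveI := Components.layer_normal (G := XB B)
  have htop : normalizer ((T : Subgroup (XB B)) : Set (XB B)) ⊔
      (Cfsg.pCore 2 (XB B) ⊔ Cfsg.layer (XB B)) = ⊤ :=
    Sylow.normalizer_sup_eq_top' T (hT ▸ hSN)
  set Y := cor B ⊔ lay B ⊔ (normalizer (A : Set G) ⊓ H) with hY
  have hS : im H (S : Subgroup G) ≤ im H Y := map_mono fun x hx =>
    mem_sup_right ⟨hC.S_normalizes hx, x.2⟩
  have hN : normalizer ((T : Subgroup (XB B)) : Set (XB B)) ≤ im H Y := by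
    rw [hT]
    intro y hy
    obtain ⟨⟨n, hnH⟩, hn, rfl⟩ := (Components.map_normalizer_eq (FittingCores.pPrimeCore_coprime 2)
      (S.isPGroup'.comap_of_injective H.subtype H.subtype_injective)).ge hy
    refine mem_im ((le_sup_right : normalizer (A : Set G) ⊓ H ≤ Y) ⟨?_, hnH⟩) hnH
    refine mem_normalizer_of_forall fun a ha => ?_
    have h1 := (mem_normalizer_iff.1 hn ⟨a, hC.mem_cenS hB ha⟩).1 (hC.set.le ha)
    refine (hC.set.mem _).2 ⟨h1, ?_⟩
    rw [conj_mul, hC.set.sq ha, mul_one, mul_inv_cancel]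
  have hE : Cfsg.layer (XB B) ≤ im H Y := (map_lay B).ge.trans (map_mono fun x hx =>
    mem_sup_left (mem_sup_right hx))
  intro y _
  have : y ∈ normalizer ((T : Subgroup (XB B)) : Set (XB B)) ⊔
      (Cfsg.pCore 2 (XB B) ⊔ Cfsg.layer (XB B)) := htop ▸ mem_top _
  exact (sup_le hN (sup_le ((PBasic.pCore_le_sylow T).trans (hT.le.trans hS)) hE)) this

end Ctx

end Cfsg.Agent.Walter4
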