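import Cfsg.Agent.Lib.InnerSylow.Linear
import Cfsg.Agent.Lib.AutPSL.Centralizer
import Cfsg.Agent.Lib.Classical.DicksonProper
import Mathlib.FieldTheory.IsAlgClosed.AlgebraicClosure
import Mathlib.RingTheory.RootsOfUnity.EnoughRootsOfUnity
import Mathlib.NumberTheory.Multiplicity

/-!
An automorphism of `r`-power order of `PSL₂(q)`, `r` odd, fixing a Sylow `r`-subgroup elementwise is inner.
-/

set_option autoImplicit false
set_option linter.unusedSectionVars false

namespace Cfsg.Agent.Walter4.InnerFix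

open Matrix AutPSL

variable {F : Type*} [Field F]

local notation "M2" => Matrix (Fin 2) (Fin 2) F
local notation "SL2" => Matrix.SpecialLinearGroup (Fin 2) F
local notation "PSL2" => Matrix.ProjectiveSpecialLinearGroup (Fin 2) F

/-- In the characteristic: the automorphisms centralising a root group are inner. -/
theorem innFix_char [Fintype F] (p : ℕ) [Fact p.Prime] [CharP F p] : InnerSylow.InnFix p PSL2 := by
  refine InnerSylow.inn_of_pgroup ((centreGroup (Pi.single (0 : Fin 2) (1 : F))).map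
      (QuotientGroup.mk' (Subgroup.center SL2))) ((isPGroup_centreGroup p _).map _) fun β hβ => ?_
  have h01 : (0 : Fin 2) ≠ 1 := by simp
  have hX : ∀ (a : F), β (QuotientGroup.mk (Matrix.SpecialLinearGroup.transvection h01 a) : PSL2) =
      QuotientGroup.mk (Matrix.SpecialLinearGroup.transvection h01 a) := by
    intro a
    refine hβ _ (Subgroup.mem_map_of_mem _ (mem_centreGroup.2 ?_))
    refine ⟨?_, fun v => ⟨a * v 1, transvection_mulVec h01 a v⟩⟩
    rw [transvection_mulVec, Pi.single_eq_of_ne h01.symm, mul_zero, zero_smul, add_zero]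
  obtain ⟨g, σ, rfl | ⟨h3, -⟩⟩ := aut_eq (le_refl 2) β
  swap
  · omega
  have E : ∀ (t : F) (a b : Fin 2),
      (if b = 1 then (g : M2) a 0 * σ t else 0) = if a = 0 then t * (g : M2) 1 b else 0 := fun t =>
    entries_of_conj_single (conj_single_of_mk_eq g σ h01 h01 t t (by rw [← semi_mk]; exact hX t))
  have h10 : (g : M2) 1 0 = 0 := by simpa using E 1 1 1
  have h11 : (g : M2) 1 1 = (g : M2) 0 0 := by simpa using (E 1 0 1).symm
  have hdet : (g : M2).det = (g : M2) 0 0 ^ 2 := by rw [Matrix.det_fin_two, h10, h11]; ring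
  have hc : (g : M2) 0 0 ≠ 0 := by
    intro h0
    exact ((Matrix.isUnit_iff_isUnit_det _).1 (Units.isUnit g)).ne_zero (by rw [hdet, h0]; ring)
  have hσ : σ = 1 := RingEquiv.ext fun t => by
    have h := E t 0 1
    rw [if_pos rfl, if_pos rfl, h11, mul_comm t] at h
    exact mul_left_cancel₀ hc h
  subst hσ
  refine (semi_mem_inn (le_refl 2) g).2 ⟨Units.mk0 _ hc, Units.ext ?_⟩
  show (g : M2) 0 0 ^ 2 = (g : M2).det
  rw [hdet]

theorem exists_semi_pow {n : ℕ} (g : GL (Fin n) F) (σ : F ≃+* F) (m : ℕ) :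
    ∃ g' : GL (Fin n) F,
      (semi g σ : MulAut (Matrix.ProjectiveSpecialLinearGroup (Fin n) F)) ^ m = semi g' (σ ^ m) := by
  induction m with
  | zero => exact ⟨1, by rw [pow_zero, pow_zero, semi_one]⟩
  | succ m ih =>
    obtain ⟨g', hg'⟩ := ih
    exact ⟨g' * Matrix.GeneralLinearGroup.map (σ ^ m : F ≃+* F).toRingHom g, by
      rw [pow_succ, pow_succ, hg', semi_mul]⟩

variable [Fintype F]

/-- The elements of an extension fixed by the power map of the base lie in the base. -/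
theorem mem_range_of_pow_card {L : Type*} [Field L] [Algebra F L] {x : L}
    (hx : x ^ Fintype.card F = x) : ∃ c : F, algebraMap F L c = x := by
  classical
  by_contra! hc
  obtain ⟨P, hP⟩ : ∃ P : Polynomial L, P = Polynomial.X ^ Fintype.card F - Polynomial.X := ⟨_, rfl⟩
  have hP0 : P ≠ 0 := hP ▸ FiniteField.X_pow_card_sub_X_ne_zero L Fintype.one_lt_card
  have hdeg : P.natDegree = Fintype.card F :=
    hP ▸ FiniteField.X_pow_card_sub_X_natDegree_eq L Fintype.one_lt_card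
  have hsub : insert x (Finset.univ.image (algebraMap F L)) ⊆ P.roots.toFinset := by
    intro y hy
    rw [Multiset.mem_toFinset, Polynomial.mem_roots hP0, Polynomial.IsRoot, hP, Polynomial.eval_sub,
      Polynomial.eval_pow, Polynomial.eval_X, sub_eq_zero]
    simp only [Finset.mem_insert, Finset.mem_image, Finset.mem_univ, true_and] at hy
    rcases hy with rfl | ⟨c, rfl⟩
    · exact hx
    · rw [← map_pow, FiniteField.pow_card]
  have h1 := (Finset.card_le_card hsub).trans ((Multiset.toFinset_card_le _).trans (P.card_roots'))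
  rw [Finset.card_insert_of_notMem (by simpa using hc),
    Finset.card_image_of_injective _ (algebraMap F L).injective, Finset.card_univ, hdeg] at h1
  omega

/-- An element of a torus of `SL₂(q)` of order `n`, and the subfields containing its trace. -/
theorem exists_torus_trace (p : ℕ) [Fact p.Prime] [CharP F p] {n : ℕ} (h3 : 3 ≤ n) (hnF : (n : F) ≠ 0)
    (hn : n ∣ Fintype.card F - 1 ∨ n ∣ Fintype.card F + 1) :
    ∃ u : SL2, u ^ n = 1 ∧ ∀ m : ℕ, (u : M2).trace ^ p ^ m = (u : M2).trace →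
      n ∣ p ^ m - 1 ∨ n ∣ p ^ m + 1 := by
  classical
  haveI : CharP (AlgebraicClosure F) p := charP_of_injective_algebraMap' F p
  haveI : NeZero ((n : ℕ) : AlgebraicClosure F) := ⟨by
    intro h
    rw [← map_natCast (algebraMap F (AlgebraicClosure F)), map_eq_zero] at h
    exact hnF h⟩
  obtain ⟨ζ, hζ⟩ := HasEnoughRootsOfUnity.exists_primitiveRoot (AlgebraicClosure F) n
  have hz0 : ζ ≠ 0 := hζ.ne_zero (by omega)
  have hz2 : ζ ^ 2 ≠ 1 := hζ.pow_ne_one_of_pos_of_lt (by norm_num) (by omega)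
  have key : ∀ m : ℕ, (ζ + ζ⁻¹) ^ p ^ m = ζ ^ p ^ m + (ζ ^ p ^ m)⁻¹ := fun m => by
    rw [add_pow_char_pow, inv_pow]
  have h1 : ∀ m : ℕ, 1 ≤ p ^ m := fun m => Nat.one_le_pow _ _ (Fact.out : p.Prime).pos
  obtain ⟨f, -, hf⟩ := FiniteField.card F p
  obtain ⟨t, ht⟩ : ∃ t : F, algebraMap F (AlgebraicClosure F) t = ζ + ζ⁻¹ := by
    refine mem_range_of_pow_card ?_
    rw [hf, key]
    rw [hf] at hn
    rcases hn with hn | hn
    · have e : ζ ^ p ^ (f : ℕ) = ζ := by
        conv_lhs => rw [← Nat.sub_add_cancel (h1 f), pow_succ, hζ.pow_eq_one_iff_dvd _ |>.2 hn, one_mul]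
      rw [e]
    · have e : ζ ^ p ^ (f : ℕ) = ζ⁻¹ := eq_inv_of_mul_eq_one_left (by
        rw [← pow_succ, (hζ.pow_eq_one_iff_dvd _).2 hn])
      rw [e, inv_inv, add_comm]
  have hdet : (!![t, -1; 1, 0] : M2).det = 1 := by simp [Matrix.det_fin_two]
  refine ⟨⟨!![t, -1; 1, 0], hdet⟩, ?_, fun m hm => ?_⟩
  · -- diagonalise over the algebraic closure
    let ι : F →+* AlgebraicClosure F := algebraMap F (AlgebraicClosure F)
    let A : Matrix (Fin 2) (Fin 2) (AlgebraicClosure F) := (!![t, -1; 1, 0] : M2).map ι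
    let P : Matrix (Fin 2) (Fin 2) (AlgebraicClosure F) := !![ζ, ζ⁻¹; 1, 1]
    let D : Matrix (Fin 2) (Fin 2) (AlgebraicClosure F) := Matrix.diagonal ![ζ, ζ⁻¹]
    have hAP : A * P = P * D := by
      ext i j
      fin_cases i <;> fin_cases j <;>
        simp [A, P, D, ι, Matrix.mul_apply, Fin.sum_univ_two, ht] <;> field_simp <;> ring
    have hpow : ∀ k : ℕ, A ^ k * P = P * D ^ k := fun k => by
      induction k with
      | zero => simp
      | succ k ih => rw [pow_succ, mul_assoc, hAP, ← mul_assoc, ih, mul_assoc, ← pow_succ]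
    have hD : D ^ n = 1 := by
      show (Matrix.diagonal ![ζ, ζ⁻¹]) ^ n = 1
      rw [Matrix.diagonal_pow, ← Matrix.diagonal_one]
      congr 1
      funext i
      fin_cases i <;> simp [hζ.pow_eq_one]
    have hP : IsUnit P := by
      rw [Matrix.isUnit_iff_isUnit_det, isUnit_iff_ne_zero]
      intro h
      simp [P, Matrix.det_fin_two] at h
      exact hz2 (by rw [sq]; nth_rw 2 [sub_eq_zero.1 h]; rw [mul_inv_cancel₀ hz0])
    have hA : A ^ n = 1 := hP.mul_left_inj.1 (by rw [hpow, hD, mul_one, one_mul])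
    refine Subtype.ext ((Matrix.SpecialLinearGroup.coe_pow (⟨!![t, -1; 1, 0], hdet⟩ : SL2) n).trans ?_)
    rw [Matrix.SpecialLinearGroup.coe_one]
    have hinj : Function.Injective (ι.mapMatrix : M2 → Matrix (Fin 2) (Fin 2) (AlgebraicClosure F)) :=
      Matrix.map_injective ι.injective
    apply hinj
    rw [map_pow, map_one]
    exact hA
  · have htr : (!![t, -1; 1, 0] : M2).trace = t := by simp [Matrix.trace_fin_two]
    replace hm : t ^ p ^ m = t := by simpa [htr] using hm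
    have hm' := congrArg (algebraMap F (AlgebraicClosure F)) hm
    rw [map_pow, ht, key] at hm'
    have hx0 : ζ ^ p ^ m ≠ 0 := pow_ne_zero _ hz0
    have hprod : (ζ ^ p ^ m - ζ) * (ζ ^ p ^ m * ζ - 1) = 0 := by
      field_simp at hm'
      linear_combination hm'
    rcases mul_eq_zero.1 hprod with h | h
    · left
      refine (hζ.pow_eq_one_iff_dvd _).1 (mul_right_cancel₀ hz0 ?_)
      rw [← pow_succ, Nat.sub_add_cancel (h1 m), one_mul, sub_eq_zero.1 h]
    · right
      refine (hζ.pow_eq_one_iff_dvd _).1 ?_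
      rw [pow_succ, sub_eq_zero.1 h]

/-- `y ≡ 1 (mod r^a)`, `a ≥ 1`, gives `y^d ≡ 1 (mod r^(a+1))` for multiples `d` of `r`. -/
theorem dvd_pow_sub_one {r a d y : ℕ} (ha : 1 ≤ a) (hrd : r ∣ d) (hy : 1 ≤ y) (h : r ^ a ∣ y - 1) :
    r ^ (a + 1) ∣ y ^ d - 1 := by
  obtain ⟨e, rfl⟩ := hrd
  have h' : ((r : ℤ) ^ a) ∣ (y : ℤ) ^ e - 1 := by
    have h1 : ((r ^ a : ℕ) : ℤ) ∣ ((y - 1 : ℕ) : ℤ) := Int.natCast_dvd_natCast.2 h
    rw [Nat.cast_pow, Nat.cast_sub hy, Nat.cast_one] at h1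
    exact h1.trans (sub_one_dvd_pow_sub_one _ e)
  have hr : (r : ℤ) ∣ (y : ℤ) ^ e - 1 := (dvd_pow_self _ (by omega)).trans h'
  have hg := geom_sum_mul ((y : ℤ) ^ e) r
  have hs : (r : ℤ) ∣ ∑ i ∈ Finset.range r, ((y : ℤ) ^ e) ^ i := by
    rw [← ZMod.intCast_zmod_eq_zero_iff_dvd]
    have hy1 : (((y : ℤ) ^ e : ℤ) : ZMod r) = 1 := by
      rw [← sub_eq_zero, ← Int.cast_one, ← Int.cast_sub, ZMod.intCast_zmod_eq_zero_iff_dvd]
      exact hr
    push_cast at hy1 ⊢
    simp [hy1]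
  have h2 : (r : ℤ) ^ (a + 1) ∣ ((y : ℤ) ^ e) ^ r - 1 := by
    rw [← hg, pow_succ, mul_comm ((r : ℤ) ^ a)]
    exact mul_dvd_mul hs h'
  have h3 : ((r ^ (a + 1) : ℕ) : ℤ) ∣ ((y ^ (r * e) - 1 : ℕ) : ℤ) := by
    rw [Nat.cast_pow, Nat.cast_sub (Nat.one_le_pow _ _ hy), Nat.cast_pow, Nat.cast_one, mul_comm r e, pow_mul]
    exact h2
  exact Int.natCast_dvd_natCast.1 h3

theorem not_dvd_two_of_sylow {r : ℕ} (hr : r.Prime) (hr2 : r ≠ 2) : ¬ r ∣ 2 := fun h =>
  hr2 ((Nat.prime_dvd_prime_iff_eq hr Nat.prime_two).1 h)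

/-- Away from the characteristic the field part is trivial. -/
theorem field_part_trivial {r : ℕ} [Fact r.Prime] (hr2 : r ≠ 2) (hrF : (r : F) ≠ 0)
    (hr : r ∣ Fintype.card F ^ 2 - 1) {g : GL (Fin 2) F} {σ : F ≃+* F} (hσr : ∃ k : ℕ, σ ^ r ^ k = 1)
    (U : Sylow r PSL2) (hfix : ∀ x ∈ (U : Subgroup PSL2), semi g σ x = x) : σ = 1 := by
  classical
  have hrp : r.Prime := Fact.out
  obtain ⟨p, hchar⟩ := CharP.exists F
  obtain ⟨f, hp, hf⟩ := FiniteField.card F p
  haveI : Fact p.Prime := ⟨hp⟩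
  set q := Fintype.card F with hq
  have hq2 : 2 ≤ q := Fintype.one_lt_card
  set a := (q ^ 2 - 1).factorization r with haDef
  have hqq0 : q ^ 2 - 1 ≠ 0 := by
    have : 2 ^ 2 ≤ q ^ 2 := Nat.pow_le_pow_left hq2 2
    omega
  have ha : 1 ≤ a := hrp.factorization_pos_of_dvd hqq0 hr
  have hra : r ^ a ∣ q ^ 2 - 1 := Nat.ordProj_dvd _ _
  have hrmax : ¬ r ^ (a + 1) ∣ q ^ 2 - 1 := Nat.pow_succ_factorization_not_dvd hqq0 hrp
  have h3r : 3 ≤ r := by have := hrp.two_le; omega
  have hn3 : 3 ≤ r ^ a := h3r.trans (Nat.le_self_pow (by omega) r)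
  have hsplit : r ^ a ∣ q - 1 ∨ r ^ a ∣ q + 1 := by
    have hfac : q ^ 2 - 1 = (q + 1) * (q - 1) := by rw [← Nat.sq_sub_sq, one_pow]
    rw [hfac] at hra
    by_cases h : r ∣ q - 1
    · left
      refine ((hrp.coprime_iff_not_dvd.2 fun h' => not_dvd_two_of_sylow hrp hr2 ?_).pow_left a).dvd_of_dvd_mul_left hra
      have := Nat.dvd_sub h' h
      rwa [show q + 1 - (q - 1) = 2 by omega] at this
    · exact Or.inr (((hrp.coprime_iff_not_dvd.2 h).pow_left a).dvd_of_dvd_mul_right hra)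
  obtain ⟨u, hu, hsub⟩ := exists_torus_trace p hn3 (by
    rw [Nat.cast_pow]; exact pow_ne_zero _ hrF) hsplit
  -- conjugate into the Sylow subgroup
  have hpg : IsPGroup r (Subgroup.zpowers (QuotientGroup.mk u : PSL2)) := by
    obtain ⟨i, -, hi⟩ := (Nat.dvd_prime_pow hrp).1
      (orderOf_dvd_of_pow_eq_one (x := (QuotientGroup.mk u : PSL2)) (n := r ^ a)
        (by rw [← QuotientGroup.mk_pow, hu, QuotientGroup.mk_one]))
    exact IsPGroup.of_card (n := i) (by rw [Nat.card_zpowers, hi])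
  obtain ⟨S, hS⟩ := hpg.exists_le_sylow
  obtain ⟨c, hc⟩ := MulAction.exists_smul_eq PSL2 S U
  obtain ⟨s, rfl⟩ := QuotientGroup.mk_surjective c
  have hmem : (QuotientGroup.mk (s * u * s⁻¹) : PSL2) ∈ (U : Subgroup PSL2) := by
    rw [← hc, Sylow.coe_subgroup_smul, QuotientGroup.mk_mul, QuotientGroup.mk_mul, QuotientGroup.mk_inv]
    exact Subgroup.smul_mem_pointwise_smul _ (MulAut.conj (QuotientGroup.mk s : PSL2)) _
      (hS (Subgroup.mem_zpowers _))
  have hfx := hfix _ hmem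
  rw [semi_mk] at hfx
  obtain ⟨c, hc2, hcu⟩ := exists_smul_of_mk_eq hfx
  have htr0 : ((s * u * s⁻¹ : SL2) : M2).trace = (u : M2).trace := by
    rw [Matrix.SpecialLinearGroup.coe_mul, Matrix.SpecialLinearGroup.coe_mul, Matrix.trace_mul_cycle,
      ← Matrix.SpecialLinearGroup.coe_mul, inv_mul_cancel, Matrix.SpecialLinearGroup.coe_one, one_mul]
  have htr : σ (u : M2).trace = c * (u : M2).trace := by
    have e := congrArg Matrix.trace hcu
    rw [slSemi_coe, Matrix.trace_units_conj, Matrix.trace_smul, htr0, smul_eq_mul] at e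
    have hmap : ∀ M : M2, (M.map σ).trace = σ M.trace := fun M => by simp [Matrix.trace_fin_two]
    rw [hmap, htr0] at e
    exact e
  obtain ⟨k, hk⟩ := hσr
  obtain ⟨j, -, hd⟩ := (Nat.dvd_prime_pow hrp).1 (orderOf_dvd_of_pow_eq_one hk)
  have hfixt : σ (u : M2).trace = (u : M2).trace := by
    set t := (u : M2).trace
    rcases sq_eq_one_iff.1 hc2 with rfl | rfl
    · rw [htr, one_mul]
    · rw [neg_one_mul] at htr
      have hit : ∀ i : ℕ, (σ ^ i : F ≃+* F) t = (-1) ^ i * t := fun i => by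
        induction i with
        | zero => simp
        | succ i ih => rw [pow_succ', RingAut.mul_apply, ih, map_mul, map_pow, map_neg, map_one, htr, pow_succ]; ring
      have hodd : Odd (orderOf σ) := by rw [hd]; exact (hrp.odd_of_ne_two hr2).pow
      have h0 := hit (orderOf σ)
      rw [pow_orderOf_eq_one, hodd.neg_one_pow, neg_one_mul] at h0
      rw [htr]
      exact h0.symm
  -- the fixed field
  haveI : Finite (F ≃+* F) :=
    Finite.of_injective (fun e : F ≃+* F => (e : F → F)) DFunLike.coe_injective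
  obtain ⟨K, hK, hcard⟩ := exists_fixed_field σ
  have hKq : Nat.card K ∣ p ^ (f : ℕ) := by
    rw [← hf, show q = Nat.card K ^ orderOf σ from hcard]; exact dvd_pow_self _ (orderOf_pos σ).ne'
  obtain ⟨m, -, hm⟩ := (Nat.dvd_prime_pow hp).1 hKq
  have hpm : (u : M2).trace ^ p ^ m = (u : M2).trace := by
    letI : Fintype K := Fintype.ofFinite K
    have h := FiniteField.pow_card (⟨(u : M2).trace, (hK _).2 hfixt⟩ : K)
    rw [← Nat.card_eq_fintype_card, hm] at h
    exact congrArg Subtype.val h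
  by_contra hσ
  have hj : j ≠ 0 := by
    rintro rfl
    exact hσ (orderOf_eq_one_iff.1 (by rw [hd, pow_zero]))
  have h1m : 1 ≤ p ^ m := Nat.one_le_pow _ _ hp.pos
  have hdiv : r ^ a ∣ (p ^ m) ^ 2 - 1 := by
    rw [show (p ^ m) ^ 2 - 1 = (p ^ m + 1) * (p ^ m - 1) by rw [← Nat.sq_sub_sq, one_pow]]
    rcases hsub m hpm with h | h
    exacts [h.mul_left _, h.mul_right _]
  refine hrmax ?_
  rw [hq, hcard, hm, ← pow_mul, mul_comm (orderOf σ) 2, pow_mul]
  exact dvd_pow_sub_one ha (by rw [hd]; exact dvd_pow_self r hj) (Nat.one_le_pow _ _ h1m) hdiv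

/-- An automorphism of odd prime power order fixing a Sylow subgroup for that prime is inner. -/
theorem inn_of_fix {r : ℕ} [Fact r.Prime] (hr2 : r ≠ 2) (hr : r ∣ Nat.card PSL2) (β : MulAut PSL2)
    (hord : ∃ k : ℕ, β ^ r ^ k = 1) (U : Sylow r PSL2) (hfix : ∀ x ∈ (U : Subgroup PSL2), β x = x) :
    β ∈ Cfsg.Inn PSL2 := by
  have hrp : r.Prime := Fact.out
  by_cases hrF : (r : F) = 0
  · haveI : CharP F r := by
      obtain ⟨p, hp⟩ := CharP.exists F
      obtain ⟨f, hpp, -⟩ := FiniteField.card F p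
      rwa [← (Nat.prime_dvd_prime_iff_eq hpp hrp).1 ((CharP.cast_eq_zero_iff F p r).1 hrF)]
    exact innFix_char r β U hfix
  obtain ⟨g, σ, rfl | ⟨h3, -⟩⟩ := aut_eq (le_refl 2) β
  swap
  · omega
  obtain ⟨k, hk⟩ := hord
  obtain ⟨g', hg'⟩ := exists_semi_pow g σ (r ^ k)
  rw [hk] at hg'
  have hσ : σ = 1 := field_part_trivial hr2 hrF ?_ ⟨k, (semi_eq_one (le_refl 2) hg'.symm).1⟩ U hfix
  · subst hσ
    obtain ⟨e, he⟩ : Odd (r ^ k) := (hrp.odd_of_ne_two hr2).pow
    have h2 : (semi g 1 : MulAut PSL2) ^ 2 ∈ Cfsg.Inn PSL2 := by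
      rw [pow_two, semi_mul, mul_one]
      refine (semi_mem_inn (le_refl 2) _).2 ⟨Matrix.GeneralLinearGroup.det g, ?_⟩
      rw [powMonoidHom_apply, pow_two, map_mul]
      congr 1
    have e1 : (semi g 1 : MulAut PSL2) = ((semi g 1 : MulAut PSL2) ^ 2) ^ (e + 1) := by
      rw [← pow_mul, show 2 * (e + 1) = r ^ k + 1 by omega, pow_succ, hk, one_mul]
    rw [e1]
    exact pow_mem h2 _
  · have h := hr.trans (Dvd.intro_left _ (Dickson.gcd_mul_card_psl (K := F)))
    rw [Nat.card_eq_fintype_card] at h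
    refine (hrp.dvd_mul.1 h).resolve_left fun hh => hrF ?_
    obtain ⟨p, hchar⟩ := CharP.exists F
    obtain ⟨f, hp, hf⟩ := FiniteField.card F p
    rw [(Nat.prime_dvd_prime_iff_eq hrp hp).1 (hrp.dvd_of_dvd_pow (hf ▸ hh))]
    exact CharP.cast_eq_zero F p

end Cfsg.Agent.Walter4.InnerFix
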