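import Cfsg.Agent.Lib.Walter4.AllAbelian
import Cfsg.Agent.Lib.Walter4.InnerFix
import Cfsg.Agent.Lib.Transfer.Basic
import Cfsg.Agent.S2065
import Cfsg.Agent.S4593

/-!
Automorphisms of prime power order centralising a Sylow subgroup for the same prime, in the simple groups
all of whose Sylow subgroups are abelian.
-/

set_option autoImplicit false

namespace Cfsg.Agent.Walter4

universe u

theorem all_abelian_aut_inner (hW : GoodStmt.{u}) (hRJ : RJAbelianStmt.{u}) {G : Type u} [Group G] [Finite G]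
    [IsSimpleGroup G] (hna : ¬ IsMulCommutative G)
    (hA : ∀ (p : ℕ), p.Prime → ∀ (P : Sylow p G), IsMulCommutative ↥P)
    (r : ℕ) [Fact r.Prime] (hr : r ∣ Nat.card G) (α : MulAut G) (k : ℕ) (hα : orderOf α = r ^ k)
    (R : Sylow r G) (hR : ∀ x ∈ (R : Subgroup G), α x = x) :
    ∃ g : G, ∀ x : G, α x = g * x * g⁻¹ := by
  classical
  have hinn : α ∈ Cfsg.Inn G → ∃ g : G, ∀ x : G, α x = g * x * g⁻¹ := by
    rintro ⟨g, rfl⟩
    exact ⟨g, fun x => rfl⟩
  by_cases hr2 : r = 2
  · subst hr2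
    refine S4593.result ?_ ?_ R (hA 2 Nat.prime_two R) α ⟨k, hα⟩ hR
    · rcases (inferInstance : (Subgroup.center G).Normal).eq_bot_or_eq_top with h | h
      · exact h
      · exact absurd ⟨⟨fun x y => (Subgroup.mem_center_iff.1 (h.symm ▸ Subgroup.mem_top y) x)⟩⟩ hna
    · have hn : (Cfsg.pPrimeCore 2 G).Normal := Cfsg.pPrimeCore_normal 2 G
      rcases hn.eq_bot_or_eq_top with h | h
      · exact h
      · have := Cfsg.Agent.PBasic.pPrimeCore_coprime 2 G
        rw [h, Subgroup.card_top] at this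
        exact absurd hr ((Nat.prime_two.coprime_iff_not_dvd).1 this.symm)
  refine hinn ?_
  rcases all_abelian_cases hW hRJ hna hA with ⟨⟨e⟩⟩ | ⟨F, i1, i2, -, -, ⟨e⟩⟩
  · refine InnerSylow.inn_of_equiv e α ?_
    have h : Cfsg.Inn ↥Cfsg.Spor.J1 = ⊤ := by
      rw [← Subgroup.index_eq_one, Subgroup.index_eq_card]
      exact S2065.result
    rw [h]
    exact Subgroup.mem_top _
  · refine InnerSylow.inn_of_equiv e α ?_
    have hsur : Function.Surjective e.toMonoidHom := e.surjective
    refine InnerFix.inn_of_fix hr2 ?_ _ ⟨k, ?_⟩ (R.mapSurjective hsur) fun x hx => ?_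
    · rwa [← Nat.card_congr e.toEquiv]
    · rw [← map_pow, ← hα, pow_orderOf_eq_one, map_one]
    · have hx' : x ∈ (R : Subgroup G).map e.toMonoidHom := by rwa [← Sylow.coe_mapSurjective hsur R]
      obtain ⟨y, hy, rfl⟩ := hx'
      simp [hR y hy]

end Cfsg.Agent.Walter4
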