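import Cfsg.Agent.Lib.Walter4.Systems
import Cfsg.Agent.Lib.Solvable.Coprime

/-!
Generation at a block whose component has Sylow four-groups.
-/

set_option autoImplicit false
set_option linter.style.haveILetI false
set_option linter.unusedSectionVars false

namespace Cfsg.Agent.Walter4

open Subgroup Cfsg.Agent.Components
open Cfsg.Agent.OddDown.CoreSep (q im mem_im)

universe u

attribute [local instance] FittingCores.pPrimeCore_normal

variable {G : Type u} [Group G] [Finite G] {S : Sylow 2 G} {A : Subgroup G} (hC : Ctx S A)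

namespace Ctx

include hC

/-- A component of dihedral kind which is the only one generates, with the centralisers in it. -/
theorem dih_generation {W : Subgroup G} (hW : W ≤ A) (hW0 : W ≠ ⊥) {J : Subgroup (XB W)} (hJ : Cfsg.IsComponent J) (huniq : ∀ J2, Cfsg.IsComponent J2 → J2 = J) {P : Subgroup J} (hP : ∀ x : J, x ∈ P ↔ ∃ u : G, ∃ h : u ∈ cenS W, u ∈ UA A W J ∧ q (cenS W) ⟨u, h⟩ = (x : XB W)) (hdih : DihGen J P) : DihAt A (UA A W J) W := by
  haveI : Fact (Nat.Prime 2) := ⟨Nat.prime_two⟩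
  set U := UA A W J with hU
  set H := cenS W with hH
  set M := (⨆ x : {x : G // x ∈ U ∧ x ≠ 1}, cenS (W ⊔ zpowers (x : G))) ⊔ normalizer (A : Set G) with hM
  have hUA : U ≤ A := inf_le_left
  have hAH : A ≤ H := fun _ hx => hC.mem_cenS hW hx
  have hker : (Nat.card (q H).ker).Coprime 2 := by
    rw [QuotientGroup.ker_mk']
    exact FittingCores.pPrimeCore_coprime 2
  have hmemM : ∀ x ∈ U, x ≠ 1 → ∀ y ∈ H, y * x = x * y → y ∈ M := fun x hx hx1 y hy hyx => by
    refine mem_sup_left (mem_iSup_of_mem ⟨x, hx, hx1⟩ (mem_centralizer_iff.2 fun z hz => ?_))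
    have hle : W ⊔ zpowers x ≤ centralizer ({y} : Set G) :=
      sup_le (fun w hw => mem_centralizer_singleton_iff.2 (mem_centralizer_iff.1 hy w hw))
        (zpowers_le.2 (mem_centralizer_singleton_iff.2 hyx.symm))
    exact mem_centralizer_singleton_iff.1 (hle hz)
  have hcor : cor W ≤ M := by
    haveI : IsMulCommutative U := ⟨⟨fun a b => Subtype.ext (hC.set.comm_A a.2.1 b.2.1)⟩⟩
    have hnc : ¬ IsCyclic U := fun hc => by
      have h4 : 4 ≤ Nat.card U := hC.four_UA hW hW0 hJ
      have hexp : Monoid.exponent U ∣ 2 := Monoid.exponent_dvd_of_forall_pow_eq_one fun a =>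
        Subtype.ext (by simpa [pow_two] using hC.set.sq a.2.1)
      rw [IsCyclic.exponent_eq_card] at hexp
      have := Nat.le_of_dvd two_pos hexp
      omega
    obtain ⟨n, hn⟩ := (hC.two_sub (B := U) hUA).exists_card_eq
    rw [← CoprimeAct.generated_by_centralizers hnc
      (fun a ha => cor_normalized W (hAH (hUA ha))) (hn ▸ (cor_coprime W).symm.pow_left n)]
    exact iSup₂_le fun a ha y hy => hmemM a ha.1 ha.2 y (cor_le W hy.1)
      (mem_centralizer_singleton_iff.1 hy.2)
  refine (hC.cenS_gen hW hW0).trans (sup_le (sup_le hcor ?_) (inf_le_left.trans le_sup_right))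
  refine le_of_map_le (map_subtype_le _) hcor ?_
  rw [map_lay]
  refine layer_le_iff.2 fun J' hJ' => ?_
  rw [huniq J' hJ']
  refine subgroupOf_eq_top.1 (hdih.2 ((im H M).subgroupOf J) (fun x hx hx1 c hc => ?_) fun c hc => ?_)
  · obtain ⟨u, huH, huU, e⟩ := (hP x).1 hx
    have hu1 : u ≠ 1 := fun h => by
      subst h
      exact hx1 (Subtype.ext (e.symm.trans (map_one (q H))))
    have hcc : (c : XB W) ∈ centralizer (((zpowers (⟨u, huH⟩ : ↥H)).map (q H) : Subgroup (XB W)) : Set (XB W)) := by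
      rw [MonoidHom.map_zpowers, zpowers_eq_closure, centralizer_closure]
      exact mem_centralizer_singleton_iff.2 (by
        rw [e]; exact congrArg Subtype.val (mem_centralizer_singleton_iff.1 hc))
    rw [CoprimeQuotient.centralizer_map (q H) (QuotientGroup.mk'_surjective _) hker
      ((hC.two_sub le_rfl).comap_of_injective H.subtype H.subtype_injective |>.to_le
        (zpowers_le.2 (show (⟨u, huH⟩ : ↥H) ∈ A.comap H.subtype from hUA huU)))] at hcc
    obtain ⟨⟨y, hyH⟩, hy, hyc⟩ := hcc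
    show (c : XB W) ∈ im H M
    rw [← hyc]
    exact mem_im (hmemM u huU hu1 y hyH
      (congrArg Subtype.val (mem_centralizer_iff.1 hy _ (mem_zpowers _)).symm)) hyH
  · have hmem : (c : XB W) ∈ normalizer (im H A : Set (XB W)) := mem_normalizer_of_forall (by
      rintro _ ⟨⟨a, haH⟩, ha, rfl⟩
      obtain ⟨u, hu, w, hw, rfl⟩ := hC.decomp hW hW0 hJ ha
      obtain ⟨hwH, hwc⟩ := mem_pre.1 hw.2
      obtain ⟨huH, huL⟩ := mem_pre.1 hu.2
      obtain ⟨v, hvH, hv, hve⟩ := (hP (c * ⟨_, huL⟩ * c⁻¹)).1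
        ((mem_normalizer_iff.1 hc _).1 ((hP _).2 ⟨u, huH, hu, rfl⟩))
      have e : (c : XB W) * q H ⟨u * w, haH⟩ * (c : XB W)⁻¹ = q H ⟨v * w, mul_mem hvH hwH⟩ := by
        rw [show (⟨u * w, haH⟩ : ↥H) = ⟨u, huH⟩ * ⟨w, hwH⟩ from rfl,
          show (⟨v * w, mul_mem hvH hwH⟩ : ↥H) = ⟨v, hvH⟩ * ⟨w, hwH⟩ from rfl, map_mul, map_mul, hve]
        have hcw : q H ⟨w, hwH⟩ * (c : XB W)⁻¹ = (c : XB W)⁻¹ * q H ⟨w, hwH⟩ :=
          (mem_centralizer_iff.1 hwc _ (inv_mem c.2)).symm
        simp only [Subgroup.coe_mul, Subgroup.coe_inv]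
        rw [mul_assoc (c : XB W), mul_assoc (c : XB W), mul_assoc, mul_assoc, mul_assoc, hcw]
      rw [e]
      exact mem_im (A.mul_mem hv.1 hw.1) _)
    replace hmem := (Components.map_normalizer_eq (FittingCores.pPrimeCore_coprime 2)
      ((hC.two_sub le_rfl).comap_of_injective H.subtype H.subtype_injective)).ge hmem
    obtain ⟨⟨n, hnH⟩, hn, hnc⟩ := hmem
    show (c : XB W) ∈ im H M
    rw [← hnc]
    exact mem_im ((le_sup_right : normalizer (A : Set G) ≤ M) (mem_normalizer_of_forall fun a ha =>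
      (mem_normalizer_iff.1 hn ⟨a, hAH ha⟩).1 ha)) hnH

end Ctx

end Cfsg.Agent.Walter4
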