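import Cfsg.Agent.Lib.Walter4.Systems
import Cfsg.Agent.Lib.Walter4.NontrivialTools
import Cfsg.Agent.Lib.Walter4.DihGeneration

/-!
`O(C(b))` centralises the components over balanced ones.
-/

set_option autoImplicit false
set_option linter.style.haveILetI false
set_option linter.unusedSectionVars false
set_option linter.unusedVariables false

namespace Cfsg.Agent.Walter4

open Subgroup Cfsg.Agent.Components
open Cfsg.Agent.OddDown.CoreSep (q im mem_im)
open scoped commutatorElement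

universe u

attribute [local instance] FittingCores.pPrimeCore_normal

variable {G : Type u} [Group G] [Finite G] {S : Sylow 2 G} {A : Subgroup G} (hC : Ctx S A)

namespace Ctx

include hC

/-- `O(C(b))` acts trivially on a balanced component at `W`. -/
theorem balanced_at {W : Subgroup G} (hW : W ≤ A) (hW0 : W ≠ ⊥) {J : Subgroup (XB W)}
    (hJ : Cfsg.IsComponent J) {P : Subgroup J}
    (hP : ∀ x : J, x ∈ P ↔ ∃ u : G, ∃ h : u ∈ cenS W, u ∈ UA A W J ∧ q (cenS W) ⟨u, h⟩ = (x : XB W))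
    (hbal : BalancedAt J P) {b : G} (hb : b ∈ A) :
    im (cenS W) (cor (zpowers b)) ≤ centralizer (J : Set (XB W)) := by
  haveI : Fact (Nat.Prime 2) := ⟨Nat.prime_two⟩
  have hzA : zpowers b ≤ A := zpowers_le.2 hb
  have hzH : zpowers b ≤ cenS W := fun _ hx => hC.mem_cenS hW (hzA hx)
  obtain ⟨-, h2, h3, h4⟩ := cor_setting hzH (hC.two_sub hzA)
  have hN := cor_le_normalizer_component hzH (hC.two_sub hzA) hJ
  obtain ⟨u, hu, w, hw, e⟩ := hC.decomp hW hW0 hJ hb
  obtain ⟨huH, huJ⟩ := mem_pre.1 hu.2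
  obtain ⟨hwH, hwc⟩ := mem_pre.1 hw.2
  have hbH : b ∈ cenS W := hC.mem_cenS hW hb
  set qu := q (cenS W) ⟨u, huH⟩ with hqu
  set qw := q (cenS W) ⟨w, hwH⟩ with hqw
  have hqb : q (cenS W) ⟨b, hbH⟩ = qu * qw := by
    rw [hqu, hqw, ← map_mul]
    exact congrArg _ (Subtype.ext e.symm)
  have hbim : q (cenS W) ⟨b, hbH⟩ ∈ im (cenS W) (zpowers b) := mem_im (mem_zpowers b) hbH
  have hgen : ∀ c : XB W, c * (qu * qw) = qu * qw * c →
      c ∈ centralizer (im (cenS W) (zpowers b) : Set (XB W)) := by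
    intro c hc
    refine mem_centralizer_iff.2 ?_
    rintro _ ⟨⟨z, hzH'⟩, hz, rfl⟩
    obtain ⟨k, hk⟩ := mem_zpowers_iff.1 (mem_subgroupOf.1 hz)
    have : q (cenS W) ⟨z, hzH'⟩ = (qu * qw) ^ k := by
      rw [← hqb, ← map_zpow]
      exact congrArg _ (Subtype.ext (by simpa using hk.symm))
    rw [this]
    exact ((show Commute c (qu * qw) from hc).zpow_right k).eq.symm
  by_cases hu1 : u = 1
  · refine cor_centralizes hzH (hC.two_sub hzA) hJ fun l hl => hgen l ?_
    have : qu = 1 := by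
      rw [hqu, ← map_one (q (cenS W))]
      exact congrArg _ (Subtype.ext hu1)
    rw [this, one_mul]
    exact mem_centralizer_iff.1 hwc l hl
  · set R : Subgroup (MulAut J) := ((im (cenS W) (cor (zpowers b))).subgroupOf
      (normalizer (J : Set (XB W)))).map J.normalizerMonoidHom with hR
    have hodd : Odd (Nat.card R) := by
      refine Nat.coprime_two_right.1 (h4.coprime_dvd_left ((card_map_dvd _ _).trans (dvd_of_eq ?_)))
      exact Nat.card_congr (subgroupOfEquivOfLe hN).toEquiv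
    have hPu : (⟨qu, huJ⟩ : J) ∈ P := (hP _).2 ⟨u, huH, hu, rfl⟩
    have hne : (⟨qu, huJ⟩ : J) ≠ 1 := fun h =>
      hu1 (hC.eq_one_of_q hW (hC.set.le hu.1) (congrArg Subtype.val h))
    have hbot : R = ⊥ := by
      refine hbal R hodd _ hPu hne ?_ ?_
      · rintro _ ⟨⟨r, hrN⟩, hr, rfl⟩
        refine Subtype.ext ?_
        show r * qu * r⁻¹ = qu
        have hrb : r * (qu * qw) = qu * qw * r := by
          rw [← hqb]
          exact (mem_centralizer_iff.1 (h2 (mem_subgroupOf.1 hr)) _ hbim).symm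
        have h5 : r * qu * r⁻¹ ∈ J := (mem_normalizer_iff.1 hrN _).1 huJ
        have h6 : r * qw * r⁻¹ ∈ centralizer (J : Set (XB W)) :=
          (mem_normalizer_iff.1 (normalizer_le_normalizer_centralizer J hrN) _).1 hwc
        have h7 : qu⁻¹ * (r * qu * r⁻¹) = qw * (r * qw * r⁻¹)⁻¹ := by
          calc qu⁻¹ * (r * qu * r⁻¹) = qu⁻¹ * (r * (qu * qw) * r⁻¹) * (r * qw * r⁻¹)⁻¹ := by group
            _ = qw * (r * qw * r⁻¹)⁻¹ := by rw [hrb]; group
        exact (inv_mul_eq_one.1 (hC.eq_one_of_central hW hW0 hJ (mul_mem (inv_mem huJ) h5)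
          (by rw [h7]; exact mul_mem hwc (inv_mem h6)))).symm
      · rintro c hc _ ⟨⟨r, hrN⟩, hr, rfl⟩
        have hcn : (c : XB W) ∈ normalizer (J : Set (XB W)) := le_normalizer c.2
        have hcR : (c : XB W) ∈ normalizer (im (cenS W) (cor (zpowers b)) : Set (XB W)) := h3 (hgen _ (by
          have h8 : (c : XB W) * qu = qu * c := congrArg Subtype.val hc
          rw [← mul_assoc, h8, mul_assoc, mem_centralizer_iff.1 hwc _ c.2, mul_assoc]))
        have hconj : J.normalizerMonoidHom ⟨(c : XB W), hcn⟩ = MulAut.conj c :=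
          MulEquiv.ext fun x => Subtype.ext rfl
        rw [← hconj, ← map_inv, ← map_mul, ← map_mul]
        exact mem_map_of_mem _ (mem_subgroupOf.2 ((mem_normalizer_iff.1 hcR _).1 (mem_subgroupOf.1 hr)))
    intro r hr
    refine mem_centralizer_iff.2 fun l hl => ?_
    have h9 : J.normalizerMonoidHom ⟨r, hN hr⟩ = 1 :=
      mem_bot.1 (hbot ▸ mem_map_of_mem _ (mem_subgroupOf.2 hr))
    have h10 : r * l * r⁻¹ = l := congrArg Subtype.val (DFunLike.congr_fun h9 (⟨l, hl⟩ : J))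
    exact (mul_inv_eq_iff_eq_mul.1 h10).symm

/-- A balanced component at `W` makes `O(C(b))` centralise the component over it. -/
theorem balanced_centralizes {B W : Subgroup G} (hB : B ≤ A) (hB0 : B ≠ ⊥) {L : Subgroup (XB B)}
    (hL : Cfsg.IsComponent L) (hW : W ≤ CA A B L) (hW0 : W ≠ ⊥) {J : Subgroup (XB W)}
    (hJ : Cfsg.IsComponent J) (hU : UA A B L ≤ UA A W J) {P : Subgroup J}
    (hP : ∀ x : J, x ∈ P ↔ ∃ u : G, ∃ h : u ∈ cenS W, u ∈ UA A W J ∧ q (cenS W) ⟨u, h⟩ = (x : XB W))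
    (hbal : BalancedAt J P) {b : G} (hb : b ∈ A) (hb1 : b ≠ 1) :
    L ≤ centralizer (im (cenS B) (cor (zpowers b)) : Set (XB B)) := by
  haveI : Fact (Nat.Prime 2) := ⟨Nat.prime_two⟩
  set V := CA A B L with hV
  have hVA : V ≤ A := inf_le_left
  have hBV : B ≤ V := hC.le_CA hB hB0 hL
  have hVH : V ≤ cenS B := fun _ hx => hC.mem_cenS hB (hVA hx)
  have hWA : W ≤ A := hW.trans hVA
  have hzA : zpowers b ≤ A := zpowers_le.2 hb
  have hzH : zpowers b ≤ cenS B := fun _ hx => hC.mem_cenS hB (hzA hx)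
  have hN := cor_le_normalizer_component hzH (hC.two_sub hzA) hL
  have hQn : ∀ s ∈ V, ∀ x ∈ cor (zpowers b) ⊓ cenS B, s * x * s⁻¹ ∈ cor (zpowers b) ⊓ cenS B :=
    fun s hs x hx => ⟨(mem_normalizer_iff.1 (cor_normalized _ (hC.mem_cenS hzA (hVA hs))) _).1 hx.1,
      (cenS B).mul_mem ((cenS B).mul_mem (hVH hs) hx.2) ((cenS B).inv_mem (hVH hs))⟩
  have hle : cor (zpowers b) ⊓ cenS B ≤ pre B (centralizer (L : Set (XB B))) := by
    refine mem_of_inverted (U := V) (fun x hx => odd_of_mem_cor hx.1) (fun s hs => hC.set.sq (hVA hs))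
      (fun s hs t ht => hC.set.comm_A (hVA hs) (hVA ht)) hQn (fun c hc hcV => ?_)
      fun x hx s hs hsx => ?_
    · -- an element centralised by `V`
      refine mem_pre.2 ⟨hc.2, mem_centralizer_iff.2 fun l hl => ?_⟩
      obtain ⟨K, hK, hUK, -, hKeq, hLr⟩ := hC.exists_down hBV hVA hB0 hL le_rfl
      obtain ⟨J', hJ', hUJ', -, hKJ⟩ := hC.exists_pump hW hVA hW0 hK
      obtain ⟨x, hx, hx1⟩ := (UA A B L).bot_or_exists_ne_one.resolve_left (hC.UA_ne_bot hB hB0 hL)
      obtain rfl : J' = J := hC.comp_eq_of_UA hWA hW0 hJ' hJ (hUJ' (hUK.ge hx)) (hU hx) hx1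
      obtain ⟨y, rfl⟩ := hLr hl
      -- upstairs
      obtain ⟨z, hz, hzy⟩ := hKJ (hKeq.ge (mem_map_of_mem (q (cenS V)) (show y ∈ L.comap (down hBV) from hl)))
      have hcW : down hW ⟨c, hcV⟩ ∈ centralizer (J' : Set (XB W)) :=
        hC.balanced_at hWA hW0 hJ' hP hbal hb (mem_im hc.1 (cenS_le_of_le hW hcV))
      have h1 : q (cenS V) ⁅(⟨c, hcV⟩ : ↥(cenS V)), z⁆ = 1 := q_eq_one_of_down hW (by
        rw [map_commutatorElement, commutatorElement_eq_one_iff_mul_comm]
        exact (mem_centralizer_iff.1 hcW _ hz).symm)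
      rw [map_commutatorElement, hzy, ← map_commutatorElement] at h1
      set O := (Cfsg.pPrimeCore 2 ↥(cenS V)).map (down hBV) with hO
      have hLc : down hBV ⁅(⟨c, hcV⟩ : ↥(cenS V)), y⁆ ∈ L := by
        rw [map_commutatorElement, commutatorElement_def]
        exact mul_mem ((mem_normalizer_iff.1 (hN (mem_im hc.1 hc.2)) _).1 hl) (inv_mem hl)
      have hLO : down hBV ⁅(⟨c, hcV⟩ : ↥(cenS V)), y⁆ ∈ O :=
        mem_map_of_mem _ ((QuotientGroup.eq_one_iff _).1 h1)
      haveI : ((L ⊓ O).subgroupOf L).Normal := by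
        rw [normal_subgroupOf_iff_le_normalizer inf_le_left]
        refine (_root_.le_inf le_normalizer (hLr.trans ?_)).trans inf_normalizer_le_normalizer_inf
        rw [MonoidHom.range_eq_map]
        exact (map_mono le_normalizer_of_normal).trans (le_normalizer_map _)
      haveI := hC.isSimple hB hB0 hL
      rcases (inferInstance : ((L ⊓ O).subgroupOf L).Normal).eq_bot_or_eq_top with h | h
      · have h2 := disjoint_iff.2 (show (L ⊓ O) ⊓ L = ⊥ from subgroupOf_eq_bot.1 h |>.eq_bot)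
        have h3 : down hBV ⁅(⟨c, hcV⟩ : ↥(cenS V)), y⁆ = 1 := disjoint_def.1 h2 ⟨hLc, hLO⟩ hLc
        rw [map_commutatorElement, commutatorElement_eq_one_iff_mul_comm] at h3
        exact h3.symm
      · exfalso
        obtain ⟨hh, hk⟩ := mem_pre.1 hx.2
        refine hx1 (hC.eq_one_of_q hB (hC.set.le hx.1) ?_)
        have hmem : q (cenS B) ⟨x, hh⟩ ∈ O := ((subgroupOf_eq_top.1 h) hk).2
        refine PBasic.eq_one_of_isPGroup_of_coprime
          (((hC.two_sub (B := A) le_rfl).comap_of_injective (cenS B).subtype (cenS B).subtype_injective).map (q (cenS B)))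
          (mem_im hx.1 hh) ?_
        exact PBasic.coprime_orderOf_of_mem
          ((FittingCores.pPrimeCore_coprime 2).coprime_dvd_left (card_map_dvd _ _)) hmem
    · -- an element inverted by an element of `V`
      refine mem_pre.2 ⟨hx.2, centralizes_of_inverted (s := q (cenS B) ⟨s, hVH hs⟩)
        (mem_pre.1 hs.2).2 (hN (mem_im hx.1 hx.2)) ?_ ?_⟩
      · rw [← map_inv, ← map_mul, ← map_mul, ← map_inv]
        exact congrArg _ (Subtype.ext hsx)
      · refine (odd_of_mem_cor hx.1).of_dvd_nat ?_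
        exact (orderOf_map_dvd _ _).trans (dvd_of_eq (orderOf_coe (⟨x, hx.2⟩ : ↥(cenS B))).symm)
  rw [le_centralizer_iff]
  rintro _ ⟨⟨r, hrH⟩, hr, rfl⟩
  obtain ⟨h, hh⟩ := mem_pre.1 (hle ⟨mem_subgroupOf.1 hr, hrH⟩)
  exact hh

end Ctx

end Cfsg.Agent.Walter4
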