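import Cfsg.Agent.Lib.OddDown.CoreSeparatedBasic
import Cfsg.Agent.Lib.SEMain.Basic

/-!
# Abelian Sylow 2-subgroups of rank at least four: the interface

`Omega_1(S) = A` is the direct sum of the blocks `U i`; `F` is the set of the blocks carrying a component
which is not locally balanced. `Local` collects what is used about the centralisers of the subgroups of
`A`; `Api` what the signalizer functor gives. See `tools/walter/RANK4_helper3.md`.
-/

set_option autoImplicit false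
set_option linter.style.haveILetI false
set_option linter.unusedSectionVars false

namespace Cfsg.Agent.Walter4

open Subgroup
open Cfsg.Agent.OddDown.CoreSep (q im)
open scoped commutatorElement

universe u

variable {G : Type u} [Group G]

/-- `C(a)`. -/
abbrev cen (a : G) : Subgroup G := centralizer ({a} : Set G)

/-- `C(B)`. -/
abbrev cenS (B : Subgroup G) : Subgroup G := centralizer (B : Set G)

/-- `O(C(a))`. -/
abbrev ocen (a : G) : Subgroup G := Cfsg.centralizerPPrimeCore 2 a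

/-- `O(C(B))`. -/
abbrev cor (B : Subgroup G) : Subgroup G :=
  (Cfsg.pPrimeCore 2 ↥(cenS B)).map (cenS B).subtype

/-- The 2-layer of `C(B)`. -/
abbrev lay (B : Subgroup G) : Subgroup G := (Cfsg.pLayer 2 ↥(cenS B)).map (cenS B).subtype

/-- `A` is `Omega_1` of the abelian Sylow 2-subgroup `S`, of order at least 16, and some centraliser
of an involution is not solvable. -/
structure Setting (S : Sylow 2 G) (A : Subgroup G) : Prop where
  ab : IsMulCommutative ↥(S : Subgroup G)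
  mem : ∀ x : G, x ∈ A ↔ x ∈ (S : Subgroup G) ∧ x * x = 1
  big : 16 ≤ Nat.card A
  nonsol : ∃ a ∈ A, a ≠ 1 ∧ ¬ Group.IsSolvable ↥(cen a)

/-- The decomposition of `A` into blocks. -/
structure Blocks (A : Subgroup G) where
  /-- the index type -/
  ι : Type u
  finite : Finite ι
  /-- the blocks -/
  U : ι → Subgroup G
  /-- the blocks with a component that is not balanced -/
  F : Set ι
  eq : ⨆ i, U i = A
  indep : iSupIndep U
  four : ∀ i : ι, 4 ≤ Nat.card (U i)
  two : ∀ i : ι, ∃ j : ι, j ≠ i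
  perm : ∀ g ∈ normalizer (A : Set G), ∀ i, ∃ j,
    (U i).map (MulAut.conj g).toMonoidHom = U j ∧ (i ∈ F ↔ j ∈ F)

namespace Blocks

variable {A : Subgroup G} (D : Blocks A)

/-- The sum of the blocks other than `j`. -/
def rest (j : D.ι) : Subgroup G := ⨆ i : {i // i ≠ j}, D.U i

/-- The subgroups defining the functor: the blocks in `F` if there are two of them, the complement of
the only one otherwise. -/
def IsV (V : Subgroup G) : Prop :=
  (∃ l ∈ D.F, ∃ l' ∈ D.F, l ≠ l' ∧ V = D.U l) ∨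
    (∃ l ∈ D.F, (∀ l' ∈ D.F, l' = l) ∧ V = D.rest l)

/-- `[O(C(a)), V] (O(C(a)) ∩ O(C(V)))`. -/
def factor (V : Subgroup G) (a : G) : Subgroup G := ⁅ocen a, V⁆ ⊔ (ocen a ⊓ cor V)

/-- The functor. -/
def theta (a : G) : Subgroup G :=
  ocen a ⊓ ⨅ V : {V : Subgroup G // D.IsV V}, factor (V : Subgroup G) a

/-- The blocks to be checked when an element of `O(C(B₁)) ∩ C(B)` is to be put into `O(C(B))`. -/
def Hard (B B₁ : Subgroup G) (l : D.ι) : Prop :=
  (l ∈ D.F ∧ B ≤ D.rest l) ∨ (l ∉ D.F ∧ ∀ b, B₁ ≠ zpowers b)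

/-- What is used about the centralisers of the subgroups of `A`. -/
structure Local : Prop where
  /-- `C(B) = O(C(B)) L(C(B)) N(A)`. -/
  gen : ∀ B ≤ A, B ≠ ⊥ → cenS B ≤ cor B ⊔ lay B ⊔ (normalizer (A : Set G) ⊓ cenS B)
  /-- The layer is made of the parts supported in one block. -/
  split : ∀ B ≤ A, B ≠ ⊥ → lay B ≤ cor B ⊔ ⨆ j, lay (B ⊔ D.rest j)
  /-- L-balance. -/
  mono : ∀ B B' : Subgroup G, B ≤ B' → B' ≤ A → B ≠ ⊥ → lay B' ≤ lay B
  vanish : ∀ j ∈ D.F, ∀ B ≤ A, ¬ B ≤ D.rest j → lay (B ⊔ D.rest j) = ⊥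
  full : ∀ j ∈ D.F, lay (D.rest j) ≠ ⊥
  /-- The dihedral subgroups generate `L₂(q)`. -/
  dih : ∀ j ∈ D.F, cenS (D.rest j) ≤
    (⨆ x : {x : G // x ∈ D.U j ∧ x ≠ 1}, cenS (D.rest j ⊔ zpowers (x : G))) ⊔
      normalizer (A : Set G)
  /-- Each component is centralised by the sum of all blocks but one, `j`; unless `j ∈ F` it is centralised by
  the odd core of the centraliser of each involution of `A`. -/
  sep : ∀ B ≤ A, B ≠ ⊥ →
    ∀ L : Subgroup (↥(cenS B) ⧸ Cfsg.pPrimeCore 2 ↥(cenS B)), Cfsg.IsComponent L →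
      ∃ j, L ≤ centralizer (im (cenS B) (D.rest j) : Set (↥(cenS B) ⧸ Cfsg.pPrimeCore 2 ↥(cenS B))) ∧
        ((j ∈ D.F ∧ B ≤ D.rest j) ∨
          (j ∉ D.F ∧ ∀ b ∈ A, b ≠ 1 →
            L ≤ centralizer (im (cenS B) (cor (zpowers b)) : Set (↥(cenS B) ⧸ Cfsg.pPrimeCore 2 ↥(cenS B)))))

  /-- Components in different blocks commute when `A` centralises the core. -/
  comm : ∀ B ≤ A, B ≠ ⊥ → cor B ≤ cenS A → ∀ i j, i ≠ j →
    lay (B ⊔ D.rest i) ≤ cenS (lay (B ⊔ D.rest j))

/-- What the signalizer functor gives. -/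
structure Api : Prop where
  /-- the closure -/
  closure : ∃ W : Subgroup G, Odd (Nat.card W) ∧ normalizer (A : Set G) ≤ normalizer (W : Set G) ∧
    ∀ a ∈ A, a ≠ 1 → W ⊓ cen a = D.theta a
  /-- An element of `C(B)` normalising the values on a non-cyclic `B` normalises the closure. -/
  key : ∀ W : Subgroup G, Odd (Nat.card W) → normalizer (A : Set G) ≤ normalizer (W : Set G) →
    (∀ a ∈ A, a ≠ 1 → W ⊓ cen a = D.theta a) → ∀ B ≤ A, 4 ≤ Nat.card B → ∀ k ∈ cenS B,
      (∀ b ∈ B, b ≠ 1 → k ∈ normalizer (D.theta b : Set G)) → k ∈ normalizer (W : Set G)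
  /-- `theta b = O(C(b))` when every block in `F` is trivial at `b`. -/
  eq_ocen : ∀ b ∈ A, b ≠ 1 → (∀ l ∈ D.F, b ∈ D.rest l) → D.theta b = ocen b
  /-- `O(C(a))` is generated by the functor and elements centralising `A` or all blocks but one in `F`. -/
  pieces : ∀ a ∈ A, a ≠ 1 → ocen a ≤ D.theta a ⊔ (ocen a ⊓ cenS A) ⊔
    ⨆ l : {l // l ∈ D.F}, (ocen a ⊓ cenS (D.rest l))
  /-- Membership in the core of `C(B)`. -/
  bal : ∀ B ≤ A, B ≠ ⊥ → ∀ B₁ ≤ A, B₁ ≠ ⊥ → ∀ x ∈ cor B₁, x ∈ cenS B →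
    (∀ l, D.Hard B B₁ l → B₁ ≤ D.rest l ∨
      (∃ B₂ ≤ D.rest l, B₂ ≠ ⊥ ∧ x ∈ cor B₂) ∨ ∃ s ∈ D.rest l, s * x * s⁻¹ = x⁻¹) → x ∈ cor B
  /-- If the functor is trivial, `A` centralises `O(C(B))` for every sum `B` of blocks. -/
  core_le : (∀ a ∈ A, a ≠ 1 → D.theta a = ⊥) → ∀ T : Set D.ι, T.Nonempty →
    cor (⨆ i : T, D.U i) ≤ cenS A

end Blocks

/-- `O(C(⟨a⟩)) = O(C(a))`. -/
theorem cor_zpowers (a : G) : cor (zpowers a) = ocen a := by
  have h : cenS (zpowers a) = cen a := by rw [cenS, cen, zpowers_eq_closure, centralizer_closure]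
  show (Cfsg.pPrimeCore 2 ↥(cenS (zpowers a))).map (cenS (zpowers a)).subtype =
    Cfsg.centralizerPPrimeCore 2 a
  rw [h]
  rfl

/-- No group has the configuration with a non-trivial closure (piece D). -/
def NontrivialStmt : Prop :=
  ∀ (G : Type u) [Group G] [Finite G] [IsSimpleGroup G] (S : Sylow 2 G) (A : Subgroup G),
    ¬ IsMulCommutative G → Setting S A → ∀ D : Blocks A, D.Local → D.Api →
      ∀ a ∈ A, a ≠ 1 → D.theta a = ⊥

/-- No group has the configuration with a trivial closure (piece E). -/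
def TrivialStmt : Prop :=
  ∀ (G : Type u) [Group G] [Finite G] [IsSimpleGroup G] (S : Sylow 2 G) (A : Subgroup G),
    ¬ IsMulCommutative G → Setting S A → ∀ D : Blocks A, D.Local → D.Api →
      (∀ a ∈ A, a ≠ 1 → D.theta a = ⊥) → False

end Cfsg.Agent.Walter4
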