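import Cfsg.Agent.Lib.Walter4.Base
import Cfsg.Agent.Lib.Components.Extended
import Cfsg.Agent.Lib.Signalizer.Basic

/-!
Elementary facts on the blocks and on conjugation.
-/

set_option autoImplicit false
set_option linter.style.haveILetI false
set_option linter.unusedSectionVars false

namespace Cfsg.Agent.Walter4

open Subgroup
open scoped commutatorElement

universe u

variable {G : Type u} [Group G] [Finite G]

theorem Setting.ea {S : Sylow 2 G} {A : Subgroup G} (h : Setting S A) :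
    Cfsg.IsElementaryAbelian 2 A := by
  refine ⟨⟨⟨fun x y => Subtype.ext ?_⟩⟩, fun x hx => by rw [pow_two]; exact ((h.mem x).1 hx).2⟩
  exact congrArg (Subtype.val : ↥(S : Subgroup G) → G)
    (h.ab.is_comm.comm (⟨x, ((h.mem x).1 x.2).1⟩ : ↥(S : Subgroup G)) ⟨y, ((h.mem y).1 y.2).1⟩)

theorem map_cor (g : G) (B : Subgroup G) :
    (cor B).map (MulAut.conj g).toMonoidHom = cor (B.map (MulAut.conj g).toMonoidHom) :=
  Components.centralizerCore_map_equiv (MulAut.conj g) B

theorem map_ocen (g a : G) :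
    (ocen a).map (MulAut.conj g).toMonoidHom = ocen (g * a * g⁻¹) :=
  Components.centralizerPPrimeCore_map_equiv (MulAut.conj g) a

namespace Blocks

variable {A : Subgroup G} (D : Blocks A)

theorem U_le (i : D.ι) : D.U i ≤ A :=
  (le_iSup D.U i).trans D.eq.le

theorem rest_le (j : D.ι) : D.rest j ≤ A := iSup_le fun i => D.U_le i

theorem U_le_rest {i j : D.ι} (h : i ≠ j) : D.U i ≤ D.rest j :=
  le_iSup (fun i : {i // i ≠ j} => D.U i) ⟨i, h⟩

theorem sup_rest (j : D.ι) : D.U j ⊔ D.rest j = A :=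
  le_antisymm (sup_le (D.U_le j) (D.rest_le j)) (D.eq.symm.le.trans (iSup_le fun i => by
    rcases eq_or_ne i j with h | h
    · subst h; exact le_sup_left
    · exact (D.U_le_rest h).trans le_sup_right))

theorem inf_rest (j : D.ι) : D.U j ⊓ D.rest j = ⊥ := by
  have h := D.indep j
  rw [disjoint_iff] at h
  rw [eq_bot_iff]
  refine le_trans (inf_le_inf_left _ ?_) h.le
  exact iSup_le fun i => le_iSup₂_of_le (i : D.ι) i.2 le_rfl

theorem four_rest (j : D.ι) : 4 ≤ Nat.card (D.rest j) := by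
  obtain ⟨i, hi⟩ := D.two j
  exact (D.four i).trans (Subgroup.card_le_of_le (D.U_le_rest hi))

theorem rest_ne_bot (j : D.ι) : D.rest j ≠ ⊥ := fun h => by
  have := D.four_rest j
  rw [h, Subgroup.card_bot] at this
  omega

theorem U_ne_bot (j : D.ι) : D.U j ≠ ⊥ := fun h => by
  have := D.four j
  rw [h, Subgroup.card_bot] at this
  omega

theorem not_le_rest (j : D.ι) : ¬ D.U j ≤ D.rest j := fun h =>
  D.U_ne_bot j (by rw [← D.inf_rest j, inf_eq_left.2 h])

theorem dec (hA : Cfsg.IsElementaryAbelian 2 A) (j : D.ι) :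
    ∀ a ∈ A, ∃ x ∈ D.U j, ∃ y ∈ D.rest j, a = x * y := fun a ha => by
  rw [← D.sup_rest j] at ha
  have h : ⁅D.U j, D.rest j⁆ = ⊥ := commutator_eq_bot_iff_le_centralizer.2 fun x hx =>
    mem_centralizer_iff.2 fun y hy =>
      Signalizer.ea_comm hA (D.rest_le j hy) (D.U_le j hx)
  obtain ⟨x, hx, y, hy, e⟩ := Cfsg.Agent.BpBalance.mem_sup_of_commute h ha
  exact ⟨x, hx, y, hy, e.symm⟩

theorem IsV.le {V : Subgroup G} {D : Blocks A} (h : D.IsV V) : V ≤ A := by
  rcases h with ⟨l, -, _, -, -, rfl⟩ | ⟨l, -, -, rfl⟩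
  exacts [D.U_le l, D.rest_le l]

theorem IsV.four {V : Subgroup G} {D : Blocks A} (h : D.IsV V) : 4 ≤ Nat.card V := by
  rcases h with ⟨l, -, _, -, -, rfl⟩ | ⟨l, -, -, rfl⟩
  exacts [D.four l, D.four_rest l]

theorem exists_isV {l : D.ι} (hl : l ∈ D.F) : ∃ V, D.IsV V ∧ V ≤ D.rest l := by
  by_cases h : ∀ l' ∈ D.F, l' = l
  · exact ⟨D.rest l, Or.inr ⟨l, hl, h, rfl⟩, le_rfl⟩
  · push Not at h
    obtain ⟨l', hl', hne⟩ := h
    exact ⟨D.U l', Or.inl ⟨l', hl', l, hl, hne, rfl⟩, D.U_le_rest hne⟩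

theorem map_rest {g : G} (hg : g ∈ normalizer (A : Set G)) (i : D.ι) :
    ∃ j, (D.U i).map (MulAut.conj g).toMonoidHom = D.U j ∧
      (D.rest i).map (MulAut.conj g).toMonoidHom = D.rest j ∧ (i ∈ D.F ↔ j ∈ D.F) := by
  classical
  haveI := D.finite
  choose σ hσ hσF using D.perm g hg
  have hinj : Function.Injective σ := fun a b hab => by
    by_contra hne
    have h := Subgroup.map_injective (MulAut.conj g).injective ((hσ a).trans ((congrArg D.U hab).trans (hσ b).symm))
    exact D.not_le_rest b (h ▸ D.U_le_rest hne)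
  have hbij : Function.Bijective σ := Finite.injective_iff_bijective.1 hinj
  refine ⟨σ i, hσ i, ?_, hσF i⟩
  rw [rest, rest, Subgroup.map_iSup]
  refine le_antisymm (iSup_le fun k => ?_) (iSup_le fun k => ?_)
  · rw [hσ]
    exact le_iSup_of_le (⟨σ k, fun h => k.2 (hinj h)⟩ : {j // j ≠ σ i}) le_rfl
  · obtain ⟨m, hm⟩ := hbij.2 (k : D.ι)
    refine le_iSup_of_le (⟨m, fun h => k.2 (by rw [← hm, h])⟩ : {j // j ≠ i}) ?_
    rw [hσ, hm]

theorem map_isV {g : G} (hg : g ∈ normalizer (A : Set G)) {V : Subgroup G} (hV : D.IsV V) :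
    D.IsV (V.map (MulAut.conj g).toMonoidHom) := by
  classical
  haveI := D.finite
  rcases hV with ⟨l, hl, l', hl', hne, rfl⟩ | ⟨l, hl, hall, rfl⟩
  · obtain ⟨j, hj, -, hjF⟩ := D.map_rest hg l
    obtain ⟨j', hj', -, hjF'⟩ := D.map_rest hg l'
    refine Or.inl ⟨j, hjF.1 hl, j', hjF'.1 hl', fun h => ?_, hj⟩
    have := Subgroup.map_injective (MulAut.conj g).injective (hj.trans ((congrArg D.U h).trans hj'.symm))
    exact D.not_le_rest l' (this ▸ D.U_le_rest hne)
  · obtain ⟨j, -, hj, hjF⟩ := D.map_rest hg l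
    refine Or.inr ⟨j, hjF.1 hl, fun k hk => ?_, hj⟩
    have hg' : g⁻¹ ∈ normalizer (A : Set G) := inv_mem hg
    obtain ⟨m, hm, -, hmF⟩ := D.map_rest hg' k
    have hml : m = l := hall m (hmF.1 hk)
    obtain ⟨j', hj', hjr, -⟩ := D.map_rest hg l
    have hk' : D.U k = D.U j' := by
      rw [← hj', ← hml, ← hm, Subgroup.map_map]
      convert (Subgroup.map_id (D.U k)).symm using 2
      ext x
      simp [mul_assoc]
    have e1 : k = j' := by
      by_contra hne
      exact D.not_le_rest j' (hk' ▸ D.U_le_rest hne)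
    have e2 : j = j' := by
      by_contra hne
      exact D.not_le_rest j ((D.U_le_rest hne).trans (hjr.symm.trans hj).le)
    rw [e1, e2]

end Blocks

end Cfsg.Agent.Walter4
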