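import Cfsg.Agent.Lib.Walter4.Assembly
import Cfsg.Agent.Lib.Walter4.Shape
import Cfsg.Agent.S1245
import Cfsg.Agent.S3181
import Cfsg.Prelude.Def_Classical
import Cfsg.Prelude.Def_Sz

/-!
Simple groups in which two Sylow 2-subgroups meet in the centre of a third.
-/

set_option autoImplicit false
set_option linter.unusedSectionVars false
set_option linter.style.haveILetI false

namespace Cfsg.Agent.Walter4

open Subgroup

universe u

/-- The simple groups with central intersections of Sylow 2-subgroups, given those with abelian ones. -/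
theorem ci_cases (hW : GoodStmt.{u}) {G : Type u} [Group G] [Finite G] [IsSimpleGroup G]
    (hG : ¬ IsMulCommutative G)
    (hCI : ∀ S T : Sylow 2 G, S ≠ T → ∃ U : Sylow 2 G,
      (S : Subgroup G) ⊓ (T : Subgroup G) ≤ (Subgroup.center ↥(U : Subgroup G)).map (U : Subgroup G).subtype) :
    (∃ (F : Type) (_ : Field F) (_ : Fintype F),
        (Fintype.card F % 8 = 0 ∨ Fintype.card F % 8 = 3 ∨ Fintype.card F % 8 = 5) ∧
        Nonempty (G ≃* Matrix.ProjectiveSpecialLinearGroup (Fin 2) F)) ∨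
    ((∀ S : Sylow 2 G, IsMulCommutative ↥(S : Subgroup G)) ∧
      ∃ t : G, orderOf t = 2 ∧ IsCoatom (Subgroup.centralizer ({t} : Set G)) ∧
        ∃ E : Subgroup G, Cfsg.IsInternalDirectProduct (Subgroup.zpowers t) E (Subgroup.centralizer ({t} : Set G)) ∧
          ∃ (F : Type) (_ : Field F) (_ : Fintype F), Odd (Fintype.card F) ∧ 3 < Fintype.card F ∧
            ∃ N : Subgroup ↥E, N.Normal ∧ Nonempty (↥N ≃* Matrix.ProjectiveSpecialLinearGroup (Fin 2) F) ∧
              Subgroup.centralizer (N : Set ↥E) = ⊥) ∨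
    (∃ (m : ℕ) (F : Type) (_ : Field F) (_ : Fintype F), 1 ≤ m ∧ Fintype.card F = 2 ^ (2 * m + 1) ∧
        Nonempty (G ≃* ↥(Cfsg.Lie.Sz F (2 ^ (m + 1))))) ∨
    (∃ (n : ℕ) (F : Type) (_ : Field F) (_ : Fintype F), 2 ≤ n ∧ Fintype.card F = 4 ^ n ∧
        Nonempty (G ≃* Cfsg.PSU 3 F (2 ^ n))) := by
  classical
  have hZ : center G = ⊥ := (inferInstance : (center G).Normal).eq_bot_or_eq_top.resolve_right fun h =>
    hG ⟨⟨fun a b => mem_center_iff.1 (h.symm ▸ mem_top b) a⟩⟩
  have hns : ¬ Group.IsSolvable G := fun h =>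
    hG ⟨⟨fun a b => (IsSimpleGroup.comm_iff_isSolvable (G := G)).2 h a b⟩⟩
  have hev : ¬ Odd (Nat.card G) := fun h => hns (S0205.result h)
  rcases S3181.result hCI with h | hab | ⟨N, M, hN, hM, hNM, hlt, hNodd, hMi, A, L, hA, -, ⟨e⟩, hcomm, hsup⟩ |
      ⟨M, hM, hMi, A, L, hA, -, h⟩
  · exact absurd h.1 hns
  · rcases hW G inferInstance hG hab with h | h
    · obtain ⟨F, i1, i2, -, h8, he⟩ := h.exists_mod_eight
      exact Or.inl ⟨F, i1, i2, h8, he⟩
    · obtain ⟨t, E, E₀, ht, hprod, hle, hn, hCE, F, i1, i2, hodd, h3, ⟨e⟩⟩ := h.exists_prod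
      obtain ⟨S⟩ := (inferInstance : Nonempty (Sylow 2 G))
      refine Or.inr (Or.inl ⟨hab, t, ht,
        S1245.result hG S (hab S) t ht E E₀ hprod hle hn ⟨F, i1, i2, hodd, ⟨e⟩⟩ hCE, E, hprod,
        F, i1, i2, hodd, h3, E₀.subgroupOf E, hn, ⟨(subgroupOfEquivOfLe hle).trans e⟩, ?_⟩)
      refine eq_bot_iff.2 fun x hx => Subtype.ext ?_
      have : (x : G) ∈ E ⊓ centralizer (E₀ : Set G) := mem_inf.2 ⟨x.2, mem_centralizer_iff.2 fun y hy =>
        congrArg Subtype.val (mem_centralizer_iff.1 hx ⟨y, hle hy⟩ (mem_subgroupOf.2 hy))⟩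
      rwa [hCE, mem_bot] at this
  · -- `SL(2, 5)` is not simple
    exfalso
    haveI := hN
    haveI := hM
    have hMne : M ≠ ⊥ := fun h => hlt.not_ge (h ▸ bot_le)
    have hMtop : M = ⊤ := hM.eq_bot_or_eq_top.resolve_left hMne
    have hNbot : N = ⊥ := hN.eq_bot_or_eq_top.resolve_right fun h => hlt.ne (by rw [h, hMtop])
    subst hMtop hNbot
    let f : ↥(⊤ : Subgroup G) ⧸ (⊥ : Subgroup G).subgroupOf ⊤ ≃* G :=
      ((QuotientGroup.quotientMulEquivOfEq (bot_subgroupOf ⊤)).trans QuotientGroup.quotientBot).trans topEquiv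
    set A' := A.map f.toMonoidHom
    set L' := L.map f.toMonoidHom
    have hsup' : A' ⊔ L' = ⊤ := by
      rw [← Subgroup.map_sup, hsup, map_top_of_surjective _ f.surjective]
    have hAL : ∀ a ∈ A', ∀ l ∈ L', a * l = l * a := by
      rintro _ ⟨a, ha, rfl⟩ _ ⟨l, hl, rfl⟩
      rw [← map_mul, ← map_mul, hcomm a ha l hl]
    have hLn : L'.Normal := normalizer_eq_top_iff.1 (top_le_iff.1 (hsup' ▸ sup_le
      (fun a ha => centralizer_le_normalizer _ (mem_centralizer_iff.2 fun l hl => (hAL a ha l hl).symm))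
      le_normalizer))
    let e' : L' ≃* Matrix.SpecialLinearGroup (Fin 2) (ZMod 5) :=
      (L.equivMapOfInjective f.toMonoidHom f.injective).symm.trans e
    have h5 : (-1 : ZMod 5) ≠ 1 := by decide
    haveI : Fact (Nat.Prime 5) := ⟨by norm_num⟩
    let m : Matrix.SpecialLinearGroup (Fin 2) (ZMod 5) := ⟨!![-1, 0; 0, -1], by simp [Matrix.det_fin_two]⟩
    have hm : m ≠ 1 := fun h => absurd (congrArg (fun g : Matrix.SpecialLinearGroup (Fin 2) (ZMod 5) => g.1 0 0) h)
      (by simpa [m] using h5)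
    have hmc : m ∈ center (Matrix.SpecialLinearGroup (Fin 2) (ZMod 5)) := mem_center_iff.2 fun g =>
      Subtype.ext (by
        show g.1 * m.1 = m.1 * g.1
        ext i j
        fin_cases i <;> fin_cases j <;> simp [m, Matrix.mul_apply, Fin.sum_univ_two])
    rcases hLn.eq_bot_or_eq_top with h | h
    · haveI : Subsingleton L' := by rw [h]; infer_instance
      exact hm (e'.symm.injective (Subsingleton.elim _ _))
    · have hz : ((e'.symm m : L') : G) ∈ center G := mem_center_iff.2 fun g => by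
        have hg : g ∈ L' := h.symm ▸ mem_top g
        refine congrArg Subtype.val (show (⟨g, hg⟩ : L') * e'.symm m = e'.symm m * ⟨g, hg⟩ from e'.injective ?_)
        rw [map_mul, map_mul, e'.apply_symm_apply, mem_center_iff.1 hmc]
      rw [hZ, mem_bot, OneMemClass.coe_eq_one, MulEquiv.map_eq_one_iff] at hz
      exact hm hz
  haveI := hM
  have hMtop : M = ⊤ := hM.eq_bot_or_eq_top.resolve_left fun h => hev (by
    rw [← index_bot (G := G), ← h]
    exact hMi)
  subst hMtop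
  have hLnormal : (∀ a ∈ A, ∀ l ∈ L, a * l = l * a) → A ⊔ L = ⊤ → L = ⊤ := by
    intro hc hs
    have hLn : L.Normal := normalizer_eq_top_iff.1 (top_le_iff.1 (hs ▸ sup_le
      (fun a ha => centralizer_le_normalizer _ (mem_centralizer_iff.2 fun l hl => (hc a ha l hl).symm))
      le_normalizer))
    refine hLn.eq_bot_or_eq_top.resolve_left fun h => hG ?_
    rw [h, sup_bot_eq] at hs
    exact ⟨⟨fun a b => congrArg Subtype.val
      (hA.is_comm.comm (⟨a, hs.symm ▸ mem_top a⟩ : A) ⟨b, hs.symm ▸ mem_top b⟩)⟩⟩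
  rcases h with ⟨⟨-, -, hc, -, hs⟩, h⟩ | ⟨-, -, hc, hs, -, hZL, -⟩
  · have hL := hLnormal hc hs
    subst hL
    rcases h with ⟨m, F, i1, i2, hm, hF, ⟨e⟩⟩ | ⟨n, F, i1, i2, hn, hF, h⟩
    · exact Or.inr (Or.inr (Or.inl ⟨m, F, i1, i2, hm, hF, ⟨topEquiv.symm.trans e⟩⟩))
    refine Or.inr (Or.inr (Or.inr ⟨n, F, i1, i2, hn, hF, ?_⟩))
    rcases h with he | he
    · obtain ⟨e⟩ := he
      exact ⟨topEquiv.symm.trans e⟩
    · obtain ⟨e⟩ := he
      let g : G ≃* ↥(Cfsg.SU 3 F (2 ^ n)) := topEquiv.symm.trans e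
      have hz : center ↥(Cfsg.SU 3 F (2 ^ n)) = ⊥ := by
        rw [← Components.center_map_equiv g, hZ, Subgroup.map_bot]
      exact ⟨g.trans ((QuotientGroup.quotientBot).symm.trans (QuotientGroup.quotientMulEquivOfEq hz.symm))⟩
  · refine absurd ?_ hZL
    have hL := hLnormal hc hs
    subst hL
    rw [← Components.center_map_equiv (topEquiv (G := G)).symm, hZ, Subgroup.map_bot]

end Cfsg.Agent.Walter4
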