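import Cfsg.Agent.Lib.Walter4.Ind
import Cfsg.Prelude.Def_Local

/-!
Systems of decompositions `A = U × W` with a cyclic group regular on `U` and trivial on `W`.
-/

set_option autoImplicit false
set_option linter.style.haveILetI false
set_option linter.unusedSectionVars false

namespace Cfsg.Agent.Walter4

open Subgroup

universe u

variable {G : Type u} [Group G]

/-- A set of pairs `(U, W)` which two by two either meet in `W` trivially or are orthogonal. -/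
structure SysSet (A : Subgroup G) (P : Set (Subgroup G × Subgroup G)) : Prop where
  sq : ∀ x ∈ A, x * x = 1
  comm : ∀ x ∈ A, ∀ y ∈ A, x * y = y * x
  big : 16 ≤ Nat.card A
  /-- `N(A)` induces a group of odd order. -/
  odd : Odd ((centralizer (A : Set G)).relIndex (normalizer (A : Set G)))
  sub : ∀ p ∈ P, p.1 ≤ A ∧ p.2 ≤ A
  inf : ∀ p ∈ P, p.1 ⊓ p.2 = ⊥
  sup : ∀ p ∈ P, p.1 ⊔ p.2 = A
  ne : ∀ p ∈ P, p.2 ≠ ⊥
  four : ∀ p ∈ P, 4 ≤ Nat.card p.1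
  inv : ∀ g ∈ normalizer (A : Set G), ∀ p ∈ P,
    (p.1.map (MulAut.conj g).toMonoidHom, p.2.map (MulAut.conj g).toMonoidHom) ∈ P
  reg : ∀ p ∈ P, ∃ h ∈ normalizer (A : Set G), h ∈ normalizer (p.1 : Set G) ∧
    (∀ w ∈ p.2, h * w = w * h) ∧
    (∀ x ∈ p.1, x ≠ 1 → ∀ y ∈ p.1, y ≠ 1 → ∃ i : ℕ, h ^ i * x * (h ^ i)⁻¹ = y) ∧
    ∀ i : ℕ, ∀ x ∈ p.1, x ≠ 1 → h ^ i * x * (h ^ i)⁻¹ = x → ∀ y ∈ p.1, h ^ i * y * (h ^ i)⁻¹ = y
  share : ∀ p ∈ P, ∀ q ∈ P, p ≠ q → p.2 ⊓ q.2 ≠ ⊥ → q.1 ≤ p.2 ∧ p.1 ≤ q.2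

/-- Any two distinct pairs are orthogonal. -/
def CombStmt : Prop :=
  ∀ (G : Type u) [Group G] [Finite G] (A : Subgroup G) (P : Set (Subgroup G × Subgroup G)),
    SysSet A P → ∀ p ∈ P, ∀ q ∈ P, p ≠ q → q.1 ≤ p.2 ∧ p.1 ≤ q.2

end Cfsg.Agent.Walter4
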