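import Cfsg.Agent.Lib.Walter4.Kind
import Cfsg.Agent.Lib.Walter4.Trivial
import Cfsg.Agent.Lib.Walter4.Struct

/-!
The centraliser of a subgroup `B` of `A` modulo its odd core: each component `L` splits `A` as
`UA L × CA L`, the part inside `L` and the part centralising it.
-/

set_option autoImplicit false
set_option linter.style.haveILetI false
set_option linter.unusedSectionVars false

namespace Cfsg.Agent.Walter4

open Subgroup Cfsg.Agent.Components
open Cfsg.Agent.OddDown.CoreSep (q im mem_im)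
open scoped commutatorElement

universe u

attribute [local instance] FittingCores.pPrimeCore_normal

variable {G : Type u} [Group G]

/-- `C(B) ⧸ O(C(B))`. -/
abbrev XB (B : Subgroup G) : Type u := ↥(cenS B) ⧸ Cfsg.pPrimeCore 2 ↥(cenS B)

/-- The preimage in `G` of a subgroup of `C(B) ⧸ O(C(B))`. -/
def pre (B : Subgroup G) (X : Subgroup (XB B)) : Subgroup G :=
  (X.comap (q (cenS B))).map (cenS B).subtype

theorem mem_pre {B : Subgroup G} {X : Subgroup (XB B)} {x : G} :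
    x ∈ pre B X ↔ ∃ h : x ∈ cenS B, q (cenS B) ⟨x, h⟩ ∈ X := by
  constructor
  · rintro ⟨y, hy, rfl⟩
    exact ⟨y.2, hy⟩
  · rintro ⟨h, hx⟩
    exact ⟨⟨x, h⟩, hx, rfl⟩

theorem pre_le {B : Subgroup G} {X : Subgroup (XB B)} : pre B X ≤ cenS B := map_subtype_le _

/-- The elements of `A` centralising `L`. -/
def CA (A B : Subgroup G) (L : Subgroup (XB B)) : Subgroup G :=
  A ⊓ pre B (centralizer (L : Set (XB B)))

/-- The elements of `A` in `L`. -/
def UA (A B : Subgroup G) (L : Subgroup (XB B)) : Subgroup G := A ⊓ pre B L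

/-- The standing hypotheses. -/
structure Ctx (S : Sylow 2 G) (A : Subgroup G) [Finite G] : Prop where
  set : Setting S A
  simple : IsSimpleGroup G
  nonab : ¬ IsMulCommutative G
  ind : Ind G
  kind : KindStmt.{u}

namespace Ctx

variable [Finite G] {S : Sylow 2 G} {A : Subgroup G} (hC : Ctx S A)
include hC

variable {B : Subgroup G} (hB : B ≤ A) (hB0 : B ≠ ⊥)

theorem S_le (hB : B ≤ A) : (S : Subgroup G) ≤ cenS B := fun _ hx =>
  mem_centralizer_iff.2 fun _ hb => hC.set.comm (hC.set.le (hB hb)) hx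

theorem mem_cenS (hB : B ≤ A) {x : G} (hx : x ∈ A) : x ∈ cenS B := hC.S_le hB (hC.set.le hx)

theorem eq_one_of_cor {x : G} (hx : x ∈ (S : Subgroup G)) {B' : Subgroup G} (hx' : x ∈ cor B') : x = 1 := by
  haveI : Fact (Nat.Prime 2) := ⟨Nat.prime_two⟩
  exact PBasic.eq_one_of_isPGroup_of_coprime S.isPGroup' hx
    (PBasic.coprime_orderOf_of_mem (cor_coprime B') hx')

/-- `S` embeds in `C(B) ⧸ O(C(B))`. -/
theorem eq_one_of_q (hB : B ≤ A) {x : G} (hx : x ∈ (S : Subgroup G))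
    (h : q (cenS B) ⟨x, hC.S_le hB hx⟩ = 1) : x = 1 :=
  hC.eq_one_of_cor (B' := B) hx ⟨_, (QuotientGroup.eq_one_iff _).1 h, rfl⟩

theorem cenS_lt (hB : B ≤ A) (hB0 : B ≠ ⊥) : Nat.card (XB B) < Nat.card G := by
  refine lt_of_le_of_lt (Nat.le_of_dvd Nat.card_pos (Subgroup.card_quotient_dvd_card _)) ?_
  refine lt_of_le_of_ne (Nat.le_of_dvd Nat.card_pos (card_subgroup_dvd_card _)) fun h => ?_
  have htop : cenS B = ⊤ := Subgroup.eq_top_of_card_eq _ h
  obtain ⟨b, hb, hb1⟩ := B.bot_or_exists_ne_one.resolve_left hB0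
  have hz : b ∈ center G := mem_center_iff.2 fun g =>
    (mem_centralizer_iff.1 (htop ▸ mem_top g : g ∈ cenS B) b hb).symm
  haveI := hC.simple
  rcases (inferInstance : (center G).Normal).eq_bot_or_eq_top with hc | hc
  · exact hb1 (mem_bot.1 (hc ▸ hz))
  · exact hC.nonab ⟨⟨fun x y => mem_center_iff.1 (hc ▸ mem_top y) x⟩⟩

/-- The Sylow 2-subgroup `S` of `C(B) ⧸ O(C(B))`. -/
theorem exists_sylow (hB : B ≤ A) :
    ∃ T : Sylow 2 (XB B), (T : Subgroup (XB B)) = im (cenS B) (S : Subgroup G) := by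
  haveI : Fact (Nat.Prime 2) := ⟨Nat.prime_two⟩
  exact ⟨(S.subtype (hC.S_le hB)).mapSurjective
    (f := q (cenS B)) (QuotientGroup.mk'_surjective _), rfl⟩

theorem struct_at (hB : B ≤ A) (hB0 : B ≠ ⊥) :
    (∀ K : Subgroup (XB B), Cfsg.IsComponent K → IsSimpleGroup K ∧ Good K ∧
      im (cenS B) (S : Subgroup G) ≤ normalizer (K : Set (XB B)) ∧
      ∀ s ∈ im (cenS B) (S : Subgroup G), ∃ t ∈ im (cenS B) (S : Subgroup G) ⊓ K,
        ∀ k ∈ K, s * k * s⁻¹ = t * k * t⁻¹) ∧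
    im (cenS B) (S : Subgroup G) ≤ Cfsg.pCore 2 (XB B) ⊔ Cfsg.layer (XB B) := by
  obtain ⟨T, hT⟩ := hC.exists_sylow hB
  rw [← hT]
  have hO := Components.pPrimeCore_quotient (p := 2) ↥(cenS B)
  have hab : IsMulCommutative (T : Subgroup (XB B)) := by
    refine ⟨⟨?_⟩⟩
    rintro ⟨x, hx⟩ ⟨y, hy⟩
    rw [hT] at hx hy
    obtain ⟨a, ha, rfl⟩ := hx
    obtain ⟨b, hb, rfl⟩ := hy
    exact Subtype.ext (by
      show q (cenS B) a * q (cenS B) b = q (cenS B) b * q (cenS B) a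
      rw [← map_mul, ← map_mul]
      exact congrArg _ (Subtype.ext (hC.set.comm ha hb)))
  refine ⟨fun K hK => ⟨(component_simple T hab hO hK).1,
    component_good T hab hO (hC.ind.known (hC.cenS_lt hB hB0)) hK, fun s hs => ?_, fun s hs => ?_⟩,
    sylow_le T hab hO⟩
  · rw [← LEBasic.map_conj_eq_iff_mem_normalizer]
    exact conj_component T hab hO hK hs
  · obtain ⟨k, hkK, hkS, hk⟩ := exists_inner T hab hO hK hs
    exact ⟨k, ⟨hkS, hkK⟩, hk⟩

section Component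

variable {L : Subgroup (XB B)} (hL : Cfsg.IsComponent L)

theorem isSimple (hB : B ≤ A) (hB0 : B ≠ ⊥) (hL : Cfsg.IsComponent L) : IsSimpleGroup L :=
  ((hC.struct_at hB hB0).1 L hL).1

theorem eq_one_of_central (hB : B ≤ A) (hB0 : B ≠ ⊥) (hL : Cfsg.IsComponent L) {x : XB B} (hx : x ∈ L)
    (hx' : x ∈ centralizer (L : Set (XB B))) : x = (1 : XB B) := by
  haveI := hC.isSimple hB hB0 hL
  have hz : (⟨x, hx⟩ : L) ∈ center L := mem_center_iff.2 fun l =>
    Subtype.ext (mem_centralizer_iff.1 hx' l l.2)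
  rcases (inferInstance : (center L).Normal).eq_bot_or_eq_top with hc | hc
  · have h1 : (⟨x, hx⟩ : L) = 1 := mem_bot.1 (hc ▸ hz)
    exact congrArg (fun z : L => (z : XB B)) h1
  · exact absurd hc (quasisimple_center_ne_top hL.2)

/-- `A = UA L × CA L`. -/
theorem decomp (hB : B ≤ A) (hB0 : B ≠ ⊥) (hL : Cfsg.IsComponent L) {a : G} (ha : a ∈ A) :
    ∃ u ∈ UA A B L, ∃ w ∈ CA A B L, u * w = a := by
  obtain ⟨-, -, -, hinn⟩ := (hC.struct_at hB hB0).1 L hL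
  have haH := hC.mem_cenS hB ha
  obtain ⟨t, ⟨⟨⟨s, hsH⟩, hs, rfl⟩, htL⟩, ht⟩ := hinn _ (mem_im (hC.set.le ha) haH)
  have hsS : s ∈ (S : Subgroup G) := hs
  set qa := q (cenS B) ⟨a, haH⟩ with hqa
  set qs := q (cenS B) ⟨s, hsH⟩ with hqs
  have hcent : qs⁻¹ * qa ∈ centralizer (L : Set (XB B)) := mem_centralizer_iff.2 fun k hk => by
    have h := ht k hk
    calc k * (qs⁻¹ * qa) = qs⁻¹ * (qs * k * qs⁻¹) * qa := by group
      _ = qs⁻¹ * (qa * k * qa⁻¹) * qa := by rw [← h]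
      _ = qs⁻¹ * qa * k := by group
  have haa : qa * qa = 1 := by
    rw [hqa, ← map_mul]
    convert map_one (q (cenS B)) using 2
    exact Subtype.ext (hC.set.sq ha)
  have hss : qs * qs = 1 := by
    refine hC.eq_one_of_central hB hB0 hL (mul_mem htL htL) (mem_centralizer_iff.2 fun k hk => ?_)
    have h1 := ht k hk
    have hk' : qa * k * qa⁻¹ ∈ L := by rw [h1]; exact mul_mem (mul_mem htL hk) (inv_mem htL)
    have h2 := ht _ hk'
    rw [h1] at h2
    have h3 : qa * (qs * k * qs⁻¹) * qa⁻¹ = k := by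
      rw [← h1]
      calc qa * (qa * k * qa⁻¹) * qa⁻¹ = (qa * qa) * k * (qa * qa)⁻¹ := by group
        _ = k := by rw [haa]; group
    rw [h3] at h2
    calc k * (qs * qs) = qs * (qs * k * qs⁻¹) * qs⁻¹ * (qs * qs) := by rw [← h2]
      _ = qs * qs * k := by group
  have hs2 : s * s = 1 := hC.eq_one_of_q hB (mul_mem hsS hsS) (by
    rw [← hss, hqs, ← map_mul]; rfl)
  have hsA : s ∈ A := (hC.set.mem s).2 ⟨hsS, hs2⟩
  refine ⟨s, ⟨hsA, mem_pre.2 ⟨hsH, htL⟩⟩, s⁻¹ * a,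
    ⟨A.mul_mem (A.inv_mem hsA) ha, mem_pre.2 ⟨(cenS B).mul_mem ((cenS B).inv_mem hsH) haH, ?_⟩⟩, mul_inv_cancel_left s a⟩
  exact hcent

theorem UA_inf_CA (hB : B ≤ A) (hB0 : B ≠ ⊥) (hL : Cfsg.IsComponent L) : UA A B L ⊓ CA A B L = ⊥ := by
  refine (eq_bot_iff_forall _).2 fun x hx => ?_
  obtain ⟨⟨hxA, hxL⟩, -, hxC⟩ := hx
  obtain ⟨h, hL'⟩ := mem_pre.1 hxL
  obtain ⟨h', hC'⟩ := mem_pre.1 hxC
  exact hC.eq_one_of_q hB (hC.set.le hxA) (hC.eq_one_of_central hB hB0 hL hL' hC')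

theorem UA_sup_CA (hB : B ≤ A) (hB0 : B ≠ ⊥) (hL : Cfsg.IsComponent L) : UA A B L ⊔ CA A B L = A :=
  le_antisymm (sup_le inf_le_left inf_le_left) fun _ ha => by
    obtain ⟨u, hu, w, hw, rfl⟩ := hC.decomp hB hB0 hL ha
    exact mul_mem (mem_sup_left hu) (mem_sup_right hw)

/-- The facts on a component with its Sylow subgroup, whose elements are the images of `UA L`. -/
theorem kind_at (hB : B ≤ A) (hB0 : B ≠ ⊥) (hL : Cfsg.IsComponent L) :
    ∃ P : Subgroup L, KindFacts L P ∧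
      ∀ x : L, x ∈ P ↔ ∃ u : G, ∃ h : u ∈ cenS B, u ∈ UA A B L ∧ q (cenS B) ⟨u, h⟩ = (x : XB B) := by
  haveI : Fact (Nat.Prime 2) := ⟨Nat.prime_two⟩
  obtain ⟨hsimp, hgood, -, -⟩ := (hC.struct_at hB hB0).1 L hL
  obtain ⟨T, hT⟩ := hC.exists_sylow hB
  have hi := PTerm.sylow_inf_subnormal T.not_dvd_index hL.1
  let P : Sylow 2 L := (IsPGroup.toSylow (T.isPGroup'.comap_of_injective L.subtype L.subtype_injective :
    IsPGroup 2 ((T : Subgroup (XB B)).subgroupOf L)) hi)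
  have hk := hC.kind L hsimp hgood P
  have hP : ∀ x : L, x ∈ (P : Subgroup L) ↔ (x : XB B) ∈ im (cenS B) (S : Subgroup G) := fun x => by
    rw [← hT]; rfl
  refine ⟨_, hk, fun x => ⟨fun hx => ?_, ?_⟩⟩
  · obtain ⟨⟨s, hsH⟩, hs, hsx⟩ := (hP x).1 hx
    refine ⟨s, hsH, ⟨(hC.set.mem s).2 ⟨hs, hC.eq_one_of_q hB (mul_mem hs hs) ?_⟩,
      mem_pre.2 ⟨hsH, hsx ▸ x.2⟩⟩, hsx⟩
    show q (cenS B) (⟨s, hsH⟩ * ⟨s, hsH⟩) = 1
    rw [map_mul, hsx]
    exact congrArg Subtype.val (hk.sq x hx)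
  · rintro ⟨u, h, hu, hux⟩
    exact (hP x).2 (hux ▸ mem_im (hC.set.le hu.1) h)

theorem four_UA (hB : B ≤ A) (hB0 : B ≠ ⊥) (hL : Cfsg.IsComponent L) : 4 ≤ Nat.card (UA A B L) := by
  obtain ⟨P, hk, hP⟩ := hC.kind_at hB hB0 hL
  refine hk.four.trans ?_
  choose u hu hu' hux using fun x : P => (hP x).1 x.2
  refine Nat.card_le_card_of_injective (fun x : P => (⟨u x, hu' x⟩ : UA A B L)) fun x y hxy => ?_
  refine Subtype.ext (Subtype.ext ?_)
  rw [← hux x, ← hux y]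
  congr 2
  exact congrArg Subtype.val hxy

theorem UA_ne_bot (hB : B ≤ A) (hB0 : B ≠ ⊥) (hL : Cfsg.IsComponent L) : UA A B L ≠ ⊥ := fun h => by
  have := hC.four_UA hB hB0 hL
  rw [h, card_bot] at this
  omega

theorem le_CA (hB : B ≤ A) (hB0 : B ≠ ⊥) (hL : Cfsg.IsComponent L) : B ≤ CA A B L := fun b hb => by
  refine ⟨hB hb, mem_pre.2 ⟨hC.mem_cenS hB (hB hb), mem_centralizer_iff.2 fun k _ => ?_⟩⟩
  induction k using QuotientGroup.induction_on with
  | _ k =>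
    show q (cenS B) k * q (cenS B) ⟨b, _⟩ = q (cenS B) ⟨b, _⟩ * q (cenS B) k
    rw [← map_mul, ← map_mul]
    exact congrArg _ (Subtype.ext (mem_centralizer_iff.1 k.2 b hb).symm)

/-- Components with the same centraliser in `A` are equal. -/
theorem eq_of_CA (hB : B ≤ A) (hB0 : B ≠ ⊥) (hL : Cfsg.IsComponent L) {L' : Subgroup (XB B)}
    (hL' : Cfsg.IsComponent L') (h : CA A B L = CA A B L') : L = L' := by
  by_contra hne
  have hc := commutator_eq_bot_iff_le_centralizer.1 (components_commute hL hL' hne)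
  refine hC.UA_ne_bot hB hB0 hL (le_bot_iff.1 ((hC.UA_inf_CA hB hB0 hL).symm ▸ ?_))
  refine le_inf le_rfl fun x hx => ?_
  rw [h]
  obtain ⟨hxA, hxL⟩ := hx
  obtain ⟨hh, hx'⟩ := mem_pre.1 hxL
  exact ⟨hxA, mem_pre.2 ⟨hh, hc hx'⟩⟩

end Component

end Ctx

end Cfsg.Agent.Walter4
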