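import Cfsg.Agent.Lib.Walter4.Quot

/-!
The factor `[O(C(a)), V] (O(C(a)) ∩ O(C(V)))`: its fixed points under `V` lie in `O(C(V))` when each
component of a `C(e)`, `e ∈ V`, is centralised by `V` or by a complement `V'`.
-/

set_option autoImplicit false
set_option linter.style.haveILetI false
set_option linter.unusedSectionVars false

namespace Cfsg.Agent.Walter4

open Subgroup Cfsg.Agent.Components Cfsg.Agent.BpBalance
open Cfsg.Agent.OddDown.CoreSep (q im mem_im commutator_le_centralizer commute_of_ne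
  core_le_normalizer_component mem_core core_props)
open scoped commutatorElement

universe u

attribute [local instance] FittingCores.pPrimeCore_normal

variable {G : Type u} [Group G] [Finite G]

/-- A pair `V`, `V'` generating `A`, each component of a `C(e)`, `e ∈ V`, centralised by one of them. -/
structure Pair (A V V' : Subgroup G) : Prop where
  ea : Cfsg.IsElementaryAbelian 2 A
  le : V ≤ A
  le' : V' ≤ A
  four : 4 ≤ Nat.card V
  dec : ∀ a ∈ A, ∃ a₁ ∈ V, ∃ a₂ ∈ V', a = a₁ * a₂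
  sep : ∀ e ∈ V, e ≠ 1 →
    ∀ L : Subgroup (↥(cenS (zpowers e)) ⧸ Cfsg.pPrimeCore 2 ↥(cenS (zpowers e))), Cfsg.IsComponent L →
      L ≤ centralizer (im (cenS (zpowers e)) V : Set _) ∨
        L ≤ centralizer (im (cenS (zpowers e)) V' : Set _)

variable {A V V' : Subgroup G}

theorem ea_le_cenS (hA : Cfsg.IsElementaryAbelian 2 A) {B : Subgroup G} (hB : B ≤ A) : A ≤ cenS B :=
  Signalizer.ea_le_centralizer hA hB

theorem ea_le_cen (hA : Cfsg.IsElementaryAbelian 2 A) {a : G} (ha : a ∈ A) : A ≤ cen a :=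
  Signalizer.ea_le_centralizer_singleton hA ha

theorem ea_sq (hA : Cfsg.IsElementaryAbelian 2 A) {a : G} (ha : a ∈ A) : a ^ 2 = 1 := hA.2 a ha

theorem ea_cop (hA : Cfsg.IsElementaryAbelian 2 A) {X Y : Subgroup G} (hX : X ≤ A)
    (hY : (Nat.card Y).Coprime 2) : (Nat.card X).Coprime (Nat.card Y) := by
  haveI : Fact (Nat.Prime 2) := ⟨Nat.prime_two⟩
  obtain ⟨k, hk⟩ := IsPGroup.iff_card.1 ((Signalizer.ea_isPGroup hA).to_le hX)
  rw [hk]
  exact hY.symm.pow_left k

theorem ea_solvable (hA : Cfsg.IsElementaryAbelian 2 A) {X : Subgroup G} (hX : X ≤ A) :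
    Group.IsSolvable X :=
  Group.isSolvable_of_comm fun u v => Subtype.ext (Signalizer.ea_comm hA (hX u.2) (hX v.2))

theorem ocen_coprime (a : G) : (Nat.card (ocen a)).Coprime 2 := (core_props a).2.2

theorem le_normalizer_ocen (hA : Cfsg.IsElementaryAbelian 2 A) {a : G} (ha : a ∈ A) :
    A ≤ normalizer (ocen a : Set G) :=
  (ea_le_cen hA ha).trans (core_props a).2.1

/-- Elements of `[O(C(a)) ∩ C(e), V]` centralising `V` lie in `O(C(V))`. -/
theorem Pair.piece_le (c : Pair A V V') {a e : G} (ha : a ∈ A) (he : e ∈ V) (he1 : e ≠ 1) {y : G}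
    (hy : y ∈ ⁅ocen a ⊓ cenS (zpowers e), V⁆) (hyC : y ∈ cenS V) : y ∈ cor V := by
  classical
  haveI : Fact (Nat.Prime 2) := ⟨Nat.prime_two⟩
  set O := ocen a with hO
  set H₂ := cenS (zpowers e) with hH₂
  set Z := O ⊓ H₂ with hZ
  set H := cenS V with hH
  have hAH : A ≤ H := ea_le_cenS c.ea c.le
  have hAH₂ : A ≤ H₂ := ea_le_cenS c.ea (zpowers_le.2 (c.le he))
  have hHH₂ : H ≤ H₂ := centralizer_le (zpowers_le.2 he : zpowers e ≤ V)
  have hZA : V ≤ normalizer (Z : Set G) :=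
    c.le.trans ((_root_.le_inf (le_normalizer_ocen c.ea ha) (hAH₂.trans le_normalizer)).trans
      inf_normalizer_le_normalizer_inf)
  have hyZ : y ∈ Z := CoprimeAct.commutator_le_left hZA hy
  have hyO : y ∈ O := hyZ.1
  have ha2 : a ^ 2 = 1 := ea_sq c.ea ha
  refine ⟨⟨y, hyC⟩, mem_core (hAH ha) ha2 hyO hyC fun L hL => ?_, rfl⟩
  by_cases hne : ⁅L, zpowers (q H ⟨a, hAH ha⟩)⁆ = L
  swap
  · intro l hl
    rw [mem_centralizer_singleton_iff]
    exact (mem_centralizer_iff.1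
      (commutator_eq_bot_iff_le_centralizer.1 (commute_of_ne (hAH ha) ha2 hL hne) hl)
      _ (mem_im hyO hyC)).symm
  rw [← hne, commutator_le]
  intro l hl w hw
  obtain ⟨hcomp, hmap⟩ := exists_pComponent (p := 2) L hL
  set K := pGen 2 (L.comap (q H)) with hK
  obtain ⟨m, hm, rfl⟩ : ∃ m ∈ K, q H m = l := hmap.ge hl
  obtain ⟨i, rfl⟩ := mem_zpowers_iff.1 hw
  rw [← map_zpow, ← map_commutatorElement, mem_centralizer_singleton_iff, ← map_mul, ← map_mul]
  set w : ↥H := (⟨a, hAH ha⟩ : ↥H) ^ i with hw'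
  have hwA : (w : G) ∈ A := by simpa [hw'] using zpow_mem ha i
  suffices hkey : ⁅⁅(m : G), (w : G)⁆, y⁆ ∈ cor (zpowers e) by
    have hmemH : (⁅⁅m, w⁆, (⟨y, hyC⟩ : ↥H)⁆ : ↥H) ∈ Cfsg.pPrimeCore 2 ↥H := by
      have hN : ((cor (zpowers e)).subgroupOf H).Normal := ⟨fun v hv g => by
        have hg : (g : G) ∈ normalizer (cor (zpowers e) : Set G) := cor_normalized _ (hHH₂ g.2)
        exact (mem_normalizer_iff.1 hg (v : G)).1 hv⟩
      refine Cfsg.Agent.PBasic.le_pPrimeCore hN ?_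
        (show _ ∈ (cor (zpowers e)).subgroupOf H from hkey)
      refine Nat.Coprime.coprime_dvd_left (dvd_trans (dvd_of_eq ?_)
        (card_dvd_of_le (inf_le_left : cor (zpowers e) ⊓ H ≤ _))) (cor_coprime _)
      rw [← inf_subgroupOf_right, Nat.card_congr (subgroupOfEquivOfLe inf_le_right).toEquiv]
    have h1 := (QuotientGroup.eq_one_iff (N := Cfsg.pPrimeCore 2 ↥H) _).2 hmemH
    have h2 : q H ⁅⁅m, w⁆, (⟨y, hyC⟩ : ↥H)⁆ = 1 := h1
    rw [map_commutatorElement, commutatorElement_eq_one_iff_mul_comm] at h2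
    rw [map_mul, map_mul]
    exact h2
  set P₁ := im H₂ V with hP₁
  set P₂ := im H₂ V' with hP₂
  have hMle : K.map H.subtype ≤ (Cfsg.pLayer 2 ↥H₂).map H₂.subtype := by
    set R := V.subgroupOf H₂ with hR
    have hRp : IsPGroup 2 R :=
      ((Signalizer.ea_isPGroup c.ea).to_le c.le).comap_of_injective H₂.subtype H₂.subtype_injective
    have hCR : centralizer (R : Set ↥H₂) = H.subgroupOf H₂ := by
      ext v
      constructor
      · intro hv
        exact mem_centralizer_iff.2 fun x hx =>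
          congrArg Subtype.val (mem_centralizer_iff.1 hv ⟨x, hAH₂ (c.le hx)⟩ hx)
      · intro hv
        exact mem_centralizer_iff.2 fun x hx => Subtype.ext (mem_centralizer_iff.1 hv (x : G) hx)
    have h1 : PCIn 2 ((K.map H.subtype).comap H₂.subtype) (H.comap H₂.subtype) :=
      (pcin_of_comp hcomp).comap_inj H₂.subtype H₂.subtype_injective
        (by rw [range_subtype]; exact (map_subtype_le K).trans hHH₂)
    have h2 : (K.map H.subtype).subgroupOf H₂ ≤ Cfsg.pLayer 2 ↥H₂ := by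
      refine le_trans ?_ (LBalance.pLayer_centralizer_le_two hRp)
      have h1' : PCIn 2 ((K.map H.subtype).subgroupOf H₂) (centralizer (R : Set ↥H₂)) := by
        rw [hCR]; exact h1
      rw [← map_subgroupOf_eq_of_le h1'.le]
      exact map_mono (le_sSup h1'.toComp)
    rw [← map_subgroupOf_eq_of_le ((map_subtype_le K).trans hHH₂)]
    exact map_mono h2
  obtain ⟨m', hm', hmm⟩ := hMle (mem_map_of_mem H.subtype hm)
  have hlay : q H₂ m' ∈ Cfsg.layer (↥H₂ ⧸ Cfsg.pPrimeCore 2 ↥H₂) := by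
    rw [← map_pLayer]
    exact mem_map_of_mem _ hm'
  set E₁ : Subgroup (↥H₂ ⧸ Cfsg.pPrimeCore 2 ↥H₂) :=
    ⨆ L : {L : Subgroup (↥H₂ ⧸ Cfsg.pPrimeCore 2 ↥H₂) //
      Cfsg.IsComponent L ∧ L ≤ centralizer (P₁ : Set _)}, L.1 with hE₁
  set E₂ : Subgroup (↥H₂ ⧸ Cfsg.pPrimeCore 2 ↥H₂) :=
    ⨆ L : {L : Subgroup (↥H₂ ⧸ Cfsg.pPrimeCore 2 ↥H₂) //
      Cfsg.IsComponent L ∧ ¬ L ≤ centralizer (P₁ : Set _)}, L.1 with hE₂
  have hE₁P : E₁ ≤ centralizer (P₁ : Set _) := iSup_le fun L => L.2.2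
  have hE₂P : E₂ ≤ centralizer (P₂ : Set _) := iSup_le fun ⟨L, hL, hL1⟩ =>
    (c.sep e he he1 L hL).resolve_left hL1
  have h12 : ⁅E₁, E₂⁆ = ⊥ := by
    rw [commutator_eq_bot_iff_le_centralizer]
    refine iSup_le fun L => ?_
    rw [← commutator_eq_bot_iff_le_centralizer, commutator_comm, commutator_eq_bot_iff_le_centralizer]
    refine iSup_le fun M => ?_
    rw [← commutator_eq_bot_iff_le_centralizer]
    exact components_commute M.2.1 L.2.1 fun h => M.2.2 (h ▸ L.2.2)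
  have hsup : Cfsg.layer (↥H₂ ⧸ Cfsg.pPrimeCore 2 ↥H₂) ≤ E₁ ⊔ E₂ := layer_le_iff.2 fun L hL => by
    by_cases h1 : L ≤ centralizer (P₁ : Set _)
    · exact le_sup_of_le_left (le_iSup_of_le
        (⟨L, hL, h1⟩ : {L // Cfsg.IsComponent L ∧ L ≤ centralizer (P₁ : Set _)}) le_rfl)
    · exact le_sup_of_le_right (le_iSup_of_le
        (⟨L, hL, h1⟩ : {L // Cfsg.IsComponent L ∧ ¬ L ≤ centralizer (P₁ : Set _)}) le_rfl)
  obtain ⟨m₁, hm₁, m₂, hm₂, hm12⟩ := mem_sup_of_commute h12 (hsup hlay)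
  set w' : ↥H₂ := ⟨(w : G), hAH₂ hwA⟩ with hw''
  have hwE : q H₂ w' ∈ normalizer (E₁ : Set _) := by
    have hwc : q H₂ w' ∈ centralizer (P₁ : Set _) := by
      rw [mem_centralizer_iff]
      rintro _ ⟨x, hx, rfl⟩
      rw [← map_mul, ← map_mul]
      exact congrArg (q H₂) (Subtype.ext (Signalizer.ea_comm c.ea (c.le hx) hwA))
    set g := q H₂ w'
    have hle : E₁.map (MulAut.conj g).toMonoidHom ≤ E₁ := by
      rw [hE₁, Subgroup.map_iSup]
      refine iSup_le fun L => ?_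
      refine le_iSup_of_le (⟨L.1.map (MulAut.conj g).toMonoidHom, component_conj L.2.1 g, ?_⟩ :
        {L // Cfsg.IsComponent L ∧ L ≤ centralizer (P₁ : Set _)}) le_rfl
      rintro _ ⟨l, hl, rfl⟩
      show g * l * g⁻¹ ∈ _
      exact mul_mem (mul_mem hwc (L.2.2 hl)) (inv_mem hwc)
    rw [mem_normalizer_iff_map_conj_eq]
    exact eq_of_le_of_card_ge hle (card_map_of_injective (MulAut.conj g).injective).ge
  have hm₂w : m₂ * q H₂ w' = q H₂ w' * m₂ := by
    obtain ⟨w₁, hw₁, w₂, hw₂, hww⟩ := c.dec _ hwA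
    have e1 : q H₂ w' = q H₂ ⟨w₁, hAH₂ (c.le hw₁)⟩ * q H₂ ⟨w₂, hAH₂ (c.le' hw₂)⟩ := by
      rw [← map_mul]
      exact congrArg (q H₂) (Subtype.ext hww)
    have hc2 := mem_centralizer_iff.1 (hE₂P hm₂) _
      (mem_im (H := H₂) hw₂ (hAH₂ (c.le' hw₂)))
    have hm'c : q H₂ m' ∈ centralizer (P₁ : Set _) := by
      rw [mem_centralizer_iff]
      rintro _ ⟨x, hx, rfl⟩
      rw [← map_mul, ← map_mul]
      refine congrArg (q H₂) (Subtype.ext ?_)
      show (x : G) * (m' : G) = m' * x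
      rw [show (m' : G) = m from hmm]
      exact mem_centralizer_iff.1 m.2 _ hx
    have hm₂c : m₂ ∈ centralizer (P₁ : Set _) := by
      have : m₂ = m₁⁻¹ * q H₂ m' := by rw [← hm12, inv_mul_cancel_left]
      rw [this]
      exact mul_mem (inv_mem (hE₁P hm₁ : m₁ ∈ centralizer (P₁ : Set (↥H₂ ⧸ Cfsg.pPrimeCore 2 ↥H₂)))) hm'c
    have hc1 := mem_centralizer_iff.1 hm₂c _ (mem_im (H := H₂) hw₁ (hAH₂ (c.le hw₁)))
    rw [e1]
    exact ((show Commute m₂ _ from hc1.symm).mul_right (show Commute m₂ _ from hc2.symm)).eq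
  have hmw : ⁅q H₂ m', q H₂ w'⁆ ∈ E₁ := by
    have e : ⁅q H₂ m', q H₂ w'⁆ = ⁅m₁, q H₂ w'⁆ := by
      rw [← hm12]
      calc ⁅m₁ * m₂, q H₂ w'⁆
          = m₁ * (m₂ * q H₂ w' * m₂⁻¹) * m₁⁻¹ * (q H₂ w')⁻¹ := by
            rw [commutatorElement_def]; group
        _ = _ := by rw [hm₂w, mul_inv_cancel_right, commutatorElement_def]
    rw [e, commutatorElement_def, mul_assoc, mul_assoc, ← mul_assoc (q H₂ w')]
    exact E₁.mul_mem hm₁ (CoprimeAct.conj_mem_of_mem_normalizer hwE (E₁.inv_mem hm₁))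
  have hyE : q H₂ ⟨y, hHH₂ hyC⟩ ∈ centralizer (E₁ : Set _) := by
    have hle : E₁ ≤ centralizer {q H₂ ⟨y, hHH₂ hyC⟩} := iSup_le fun L => by
      have hZn : im H₂ Z ≤ normalizer (L.1 : Set _) :=
        (map_mono (comap_mono inf_le_left)).trans (core_le_normalizer_component (hAH₂ ha) ha2 L.2.1)
      have hP : P₁ ≤ centralizer (L.1 : Set _) := by
        rw [← commutator_eq_bot_iff_le_centralizer, commutator_comm,
          commutator_eq_bot_iff_le_centralizer]
        exact L.2.2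
      have hmem : q H₂ ⟨y, hHH₂ hyC⟩ ∈ ⁅im H₂ Z, P₁⁆ := by
        rw [← map_commutator]
        refine mem_map_of_mem _ ?_
        have hy' : y ∈ (⁅Z.subgroupOf H₂, V.subgroupOf H₂⁆).map H₂.subtype := by
          rw [map_commutator, map_subgroupOf_eq_of_le inf_le_right,
            map_subgroupOf_eq_of_le (c.le.trans hAH₂)]
          exact hy
        obtain ⟨y', hy', hyy⟩ := hy'
        have : y' = (⟨y, hHH₂ hyC⟩ : ↥H₂) := Subtype.ext hyy
        exact this ▸ hy'
      intro l hl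
      exact mem_centralizer_singleton_iff.2
        (mem_centralizer_iff.1 (commutator_le_centralizer hZn hP hmem) l hl)
    exact mem_centralizer_iff.2 fun l hl => mem_centralizer_singleton_iff.1 (hle hl)
  have hone : q H₂ ⁅⁅m', w'⁆, (⟨y, hHH₂ hyC⟩ : ↥H₂)⁆ = 1 := by
    rw [map_commutatorElement, commutatorElement_eq_one_iff_mul_comm, map_commutatorElement]
    exact mem_centralizer_iff.1 hyE _ hmw
  refine ⟨⁅⁅m', w'⁆, (⟨y, hHH₂ hyC⟩ : ↥H₂)⁆, (QuotientGroup.eq_one_iff _).1 hone, ?_⟩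
  simp only [map_commutatorElement]
  rw [show (H₂.subtype m') = (m : G) from hmm]
  rfl

/-- The fixed points of `V` in the factor. -/
theorem Pair.factor_inf_le (c : Pair A V V') {a : G} (ha : a ∈ A) :
    Blocks.factor V a ⊓ cenS V ≤ cor V := by
  haveI : Fact (Nat.Prime 2) := ⟨Nat.prime_two⟩
  set O := ocen a with hO
  have hOn : V ≤ normalizer (O : Set G) := c.le.trans (le_normalizer_ocen c.ea ha)
  set Y := ⁅O, V⁆ with hY
  have hYO : Y ≤ O := CoprimeAct.commutator_le_left hOn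
  have hcop := ea_cop c.ea c.le (ocen_coprime a)
  have hYA : ⁅Y, V⁆ = Y :=
    CoprimeAct.commutator_commutator hOn hcop (Or.inl (ea_solvable c.ea c.le))
  have hodd : Odd (Nat.card Y) :=
    Nat.coprime_two_left.1 (((ocen_coprime a).coprime_dvd_left (card_dvd_of_le hYO)).symm)
  have hh : OddDown.FixedGen.Hyp V V Y :=
    ⟨fun u hu v hv => Signalizer.ea_comm c.ea (c.le hu) (c.le hv), le_rfl,
      normalizer_commutator_ge_right _ _, hcop.coprime_dvd_right (card_dvd_of_le hYO),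
      OddChar.oddSolvable ↥Y hodd⟩
  have hYQ : Y ⊓ cenS V ≤ cor V := by
    refine (OddDown.FixedGen.fixed_le_gen hh hYA).trans (iSup_le fun B₀ => ?_)
    obtain ⟨B₀, hle, b, hb, hsup⟩ := B₀
    obtain ⟨e, he, he1⟩ : ∃ e ∈ B₀, e ≠ 1 := by
      refine B₀.bot_or_exists_ne_one.resolve_left fun hb0 => ?_
      rw [hb0, bot_sup_eq] at hsup
      have h1 := Subgroup.card_le_of_le hsup
      have h2 : Nat.card (zpowers b) ≤ 2 := by
        rw [Nat.card_zpowers]
        exact orderOf_le_of_pow_eq_one (by norm_num) (c.ea.2 b (c.le hb))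
      have := c.four
      omega
    rintro y ⟨⟨-, hyC⟩, hyW⟩
    refine c.piece_le ha (hle he) he1 ?_ hyC
    exact commutator_mono (inf_le_inf hYO (centralizer_le (zpowers_le.2 he : zpowers e ≤ B₀))) le_rfl hyW
  intro v hv
  obtain ⟨d, hd, r, hr, rfl⟩ := (SolvBasic.mem_sup_iff_of_le_normalizer
    (inf_le_left.trans (normalizer_commutator_ge_left O V))).1 hv.1
  have hrC : r ∈ cenS V := cor_le V hr.2
  have hdC : d ∈ cenS V := by
    simpa using mul_mem hv.2 ((cenS V).inv_mem hrC)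
  exact mul_mem (hYQ ⟨hd, hdC⟩) hr.2

end Cfsg.Agent.Walter4
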