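import Cfsg.Agent.Lib.Walter4.Factor
import Cfsg.Agent.Lib.Walter4.BlockBasic
import Cfsg.Agent.Lib.Signalizer.SFT.Main

/-!
`theta` is a signalizer functor; the balance criterion.
-/

set_option autoImplicit false
set_option linter.style.haveILetI false
set_option linter.unusedSectionVars false

namespace Cfsg.Agent.Walter4

open Subgroup Cfsg.Agent.Components
open Cfsg.Agent.OddDown.CoreSep (q im mem_im commutator_le_centralizer)
open scoped commutatorElement

universe u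

attribute [local instance] FittingCores.pPrimeCore_normal

variable {G : Type u} [Group G] [Finite G]

theorem im_mono {H X Y : Subgroup G} (h : X ≤ Y) : im H X ≤ im H Y :=
  map_mono fun _ hx => h hx

theorem centralizer_im_le {H X Y : Subgroup G} (h : X ≤ Y) :
    centralizer (im H Y : Set (↥H ⧸ Cfsg.pPrimeCore 2 ↥H)) ≤
      centralizer (im H X : Set (↥H ⧸ Cfsg.pPrimeCore 2 ↥H)) :=
  centralizer_le (im_mono h)

theorem zpowers_ne_bot' {a : G} (ha : a ≠ 1) : zpowers a ≠ ⊥ := fun h => ha (zpowers_eq_bot.1 h)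

theorem orderOf_odd_of_cor {B : Subgroup G} {x : G} (hx : x ∈ cor B) : Odd (orderOf x) :=
  (Nat.coprime_two_left.1 (cor_coprime B).symm).of_dvd_nat (orderOf_dvd_natCard _ hx)

theorem mem_cor_of_mem_core {B : Subgroup G} {x : G} {hx : x ∈ cenS B}
    (h : (⟨x, hx⟩ : ↥(cenS B)) ∈ Cfsg.pPrimeCore 2 ↥(cenS B)) : x ∈ cor B :=
  ⟨⟨x, hx⟩, h, rfl⟩

variable {A : Subgroup G} (D : Blocks A)

namespace Blocks

theorem pair_of_isV (hA : Cfsg.IsElementaryAbelian 2 A) (hD : D.Local) {V : Subgroup G}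
    (hV : D.IsV V) : ∃ V', Pair A V V' := by
  have hB : ∀ e ∈ A, e ≠ 1 → zpowers e ≤ A ∧ zpowers e ≠ (⊥ : Subgroup G) := fun e he he1 =>
    ⟨zpowers_le.2 he, zpowers_ne_bot' he1⟩
  rcases hV with ⟨l, hl, l', hl', hne, rfl⟩ | ⟨l, hl, hall, rfl⟩
  · refine ⟨D.rest l, hA, D.U_le l, D.rest_le l, D.four l, D.dec hA l, fun e he he1 L hL => ?_⟩
    obtain ⟨j, hj, -⟩ := hD.sep _ (hB e (D.U_le l he) he1).1 (hB e (D.U_le l he) he1).2 L hL
    rcases eq_or_ne l j with h | h
    · subst h; exact Or.inr hj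
    · exact Or.inl (hj.trans (centralizer_im_le (D.U_le_rest h)))
  · refine ⟨D.U l, hA, D.rest_le l, D.U_le l, D.four_rest l, fun a ha => ?_, fun e he he1 L hL => ?_⟩
    · obtain ⟨x, hx, y, hy, rfl⟩ := D.dec hA l a ha
      exact ⟨y, hy, x, hx, Signalizer.ea_comm hA (D.U_le l hx) (D.rest_le l hy)⟩
    obtain ⟨j, hj, -⟩ := hD.sep _ (hB e (D.rest_le l he) he1).1 (hB e (D.rest_le l he) he1).2 L hL
    rcases eq_or_ne l j with h | h
    · subst h; exact Or.inl hj
    · exact Or.inr (hj.trans (centralizer_im_le (D.U_le_rest h)))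

theorem factor_inf_le (hA : Cfsg.IsElementaryAbelian 2 A) (hD : D.Local) {V : Subgroup G}
    (hV : D.IsV V) {a : G} (ha : a ∈ A) : factor V a ⊓ cenS V ≤ cor V := by
  obtain ⟨V', c⟩ := D.pair_of_isV hA hD hV
  exact c.factor_inf_le ha

theorem mem_F_of_hard {B : Subgroup G} {b : G} {l : D.ι} (h : D.Hard B (zpowers b) l) : l ∈ D.F :=
  h.elim And.left fun h' => absurd rfl (h'.2 b)

/-- An element of `O(C(B₁))` in `C(B)` lies in `O(C(B))` if it centralises the components from `F`. -/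
theorem mem_cor_of (hA : Cfsg.IsElementaryAbelian 2 A) (hD : D.Local) {B B₁ : Subgroup G}
    (hB : B ≤ A) (hB0 : B ≠ ⊥) (hB₁ : B₁ ≤ A) (hB₁0 : B₁ ≠ ⊥) {x : G} (hx : x ∈ cor B₁)
    (hxB : x ∈ cenS B)
    (h : ∀ l, D.Hard B B₁ l →
      ∀ L : Subgroup (↥(cenS B) ⧸ Cfsg.pPrimeCore 2 ↥(cenS B)), Cfsg.IsComponent L →
        L ≤ centralizer (im (cenS B) (D.rest l) : Set _) →
        q (cenS B) ⟨x, hxB⟩ ∈ centralizer (L : Set _)) :
    x ∈ cor B := by
  refine mem_cor_of_mem_core (hx := hxB) (mem_cor (hB₁.trans (ea_le_cenS hA hB))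
    ((Signalizer.ea_isPGroup hA).to_le hB₁) hx hxB fun L hL => ?_)
  rw [← Subgroup.centralizer_closure, ← zpowers_eq_closure, le_centralizer_iff, zpowers_le]
  obtain ⟨j, hj, hj'⟩ := hD.sep B hB hB0 L hL
  rcases hj' with ⟨hjF, hBj⟩ | ⟨hjF, hbal⟩
  · exact h j (Or.inl ⟨hjF, hBj⟩) L hL hj
  · by_cases hcyc : ∃ b, B₁ = zpowers b
    · obtain ⟨b, rfl⟩ := hcyc
      exact (le_centralizer_iff.1 (hbal b (hB₁ (mem_zpowers b)) fun e => hB₁0 (by simp [e])))
        (mem_im hx hxB)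
    push Not at hcyc
    exact h j (Or.inr ⟨hjF, hcyc⟩) L hL hj

/-- The balance criterion. -/
theorem bal_of (hA : Cfsg.IsElementaryAbelian 2 A) (hD : D.Local) :
    ∀ B ≤ A, B ≠ ⊥ → ∀ B₁ ≤ A, B₁ ≠ ⊥ → ∀ x ∈ cor B₁, x ∈ cenS B →
    (∀ l, D.Hard B B₁ l → B₁ ≤ D.rest l ∨
      (∃ B₂ ≤ D.rest l, B₂ ≠ ⊥ ∧ x ∈ cor B₂) ∨ ∃ s ∈ D.rest l, s * x * s⁻¹ = x⁻¹) → x ∈ cor B := by
  intro B hB hB0 B₁ hB₁ hB₁0 x hx hxB h
  have hAH : A ≤ cenS B := ea_le_cenS hA hB
  refine D.mem_cor_of hA hD hB hB0 hB₁ hB₁0 hx hxB fun l hl L hL hj => ?_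
  have hp : ∀ X : Subgroup G, X ≤ A → IsPGroup 2 X := fun X hX =>
    (Signalizer.ea_isPGroup hA).to_le hX
  have hcase : ∀ X : Subgroup G, X ≤ D.rest l → x ∈ cor X →
      q (cenS B) ⟨x, hxB⟩ ∈ centralizer (L : Set _) := fun X hX hxX =>
    cor_centralizes (((D.rest_le l).trans hAH) |> hX.trans) (hp X (hX.trans (D.rest_le l))) hL
      (hj.trans (centralizer_im_le hX)) (mem_im hxX hxB)
  rcases h l hl with h1 | ⟨B₂, hB₂, -, hxB₂⟩ | ⟨s, hs, hsx⟩
  · exact hcase B₁ h1 hx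
  · exact hcase B₂ hB₂ hxB₂
  · have hsH : s ∈ cenS B := hAH (D.rest_le l hs)
    refine centralizes_of_inverted (s := q (cenS B) ⟨s, hsH⟩)
      (le_centralizer_iff.1 hj (mem_im hs hsH))
      (cor_le_normalizer_component (hB₁.trans hAH) (hp B₁ hB₁) hL (mem_im hx hxB)) ?_ ?_
    · rw [← map_inv, ← map_inv, ← map_mul, ← map_mul]
      exact congrArg _ (Subtype.ext hsx)
    · refine (orderOf_odd_of_cor hx).of_dvd_nat ((orderOf_map_dvd _ _).trans (dvd_of_eq ?_))
      exact orderOf_mk _ _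

theorem le_normalizer_factor (hA : Cfsg.IsElementaryAbelian 2 A) {V : Subgroup G} (hV : V ≤ A) {a : G}
    (ha : a ∈ A) : A ≤ normalizer (factor V a : Set G) := by
  have hAC : A ≤ cenS V := ea_le_cenS hA hV
  exact (_root_.le_inf (OddDown.FixedGen.le_normalizer_commutator' (le_normalizer_ocen hA ha)
      (hAC.trans (centralizer_le_normalizer _)))
    ((_root_.le_inf (le_normalizer_ocen hA ha) (hAC.trans (cor_normalized V))).trans
      inf_normalizer_le_normalizer_inf)).trans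
    (normalizer_inf_normalizer_le_normalizer_sup _ _)

theorem theta_le_ocen (a : G) : D.theta a ≤ ocen a := inf_le_left

theorem theta_le_factor {V : Subgroup G} (hV : D.IsV V) (a : G) : D.theta a ≤ factor V a :=
  inf_le_right.trans (iInf_le (fun V : {V : Subgroup G // D.IsV V} => factor (V : Subgroup G) a) ⟨V, hV⟩)

theorem le_normalizer_theta (hA : Cfsg.IsElementaryAbelian 2 A) {a : G} (ha : a ∈ A) :
    A ≤ normalizer (D.theta a : Set G) :=
  (_root_.le_inf (le_normalizer_ocen hA ha) ((le_iInf fun V : {V : Subgroup G // D.IsV V} =>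
    le_normalizer_factor hA V.2.le ha).trans (iInf_normalizer_le_normalizer_iInf _))).trans
    inf_normalizer_le_normalizer_inf

theorem signalizer (hA : Cfsg.IsElementaryAbelian 2 A) (hD : D.Local) :
    Cfsg.IsSolvableSignalizerFunctor 2 A D.theta := by
  haveI : Fact (Nat.Prime 2) := ⟨Nat.prime_two⟩
  have hodd : ∀ a, (Nat.card (D.theta a)).Coprime 2 := fun a =>
    (ocen_coprime a).coprime_dvd_left (card_dvd_of_le (D.theta_le_ocen a))
  refine ⟨⟨fun a _ _ => (D.theta_le_ocen a).trans (OddDown.CoreSep.core_props a).1,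
    fun a _ _ h2 => Nat.prime_two.not_dvd_one ((hodd a) ▸ Nat.dvd_gcd h2 dvd_rfl),
    fun a ha _ b hb x hx =>
      CoprimeAct.conj_mem_of_mem_normalizer (D.le_normalizer_theta hA ha hb) hx,
    fun a ha ha1 b hb hb1 => ?_⟩, fun a _ _ => solvable_of_coprime (hodd a)⟩
  set U := D.theta a ⊓ centralizer ({b} : Set G) with hU
  have hAb : A ≤ cenS (zpowers b) := ea_le_cenS hA (zpowers_le.2 hb)
  have hUn : A ≤ normalizer (U : Set G) :=
    (_root_.le_inf (D.le_normalizer_theta hA ha) ((ea_le_cen hA hb).trans le_normalizer)).trans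
      inf_normalizer_le_normalizer_inf
  have hUO : U ≤ ocen a := inf_le_left.trans (D.theta_le_ocen a)
  have hdecomp : ∀ V, D.IsV V → ∀ u ∈ U, ∃ d ∈ ⁅U, V⁆, ∃ r ∈ U, r ∈ cor V ∧ d * r = u := by
    intro V hV u hu
    obtain ⟨d, hd, r, hr, rfl⟩ := CoprimeAct.exists_commutator_mul (hV.le.trans hUn)
      ((ea_cop hA hV.le (ocen_coprime a)).coprime_dvd_right (card_dvd_of_le hUO))
      (Or.inl (ea_solvable hA hV.le)) hu
    exact ⟨d, hd, r, hr.1, D.factor_inf_le hA hD hV ha ⟨D.theta_le_factor hV a hr.1.1, hr.2⟩, rfl⟩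
  have hcenb : cen b = cenS (zpowers b) := by
    rw [cen, cenS, zpowers_eq_closure, centralizer_closure]
  have hUb : U ≤ ocen b := by
    intro u hu
    rw [← cor_zpowers]
    have hub : u ∈ cenS (zpowers b) := hcenb ▸ hu.2
    refine D.mem_cor_of hA hD (zpowers_le.2 hb) (zpowers_ne_bot' hb1) (zpowers_le.2 ha)
      (zpowers_ne_bot' ha1) ((cor_zpowers a).symm ▸ hUO hu) hub fun l hl L hL hj => ?_
    obtain ⟨V, hV, hVl⟩ := D.exists_isV (D.mem_F_of_hard hl)
    have hLV := hj.trans (centralizer_im_le hVl)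
    obtain ⟨d, hd, r, hr, hrV, rfl⟩ := hdecomp V hV u hu
    have hUH : U ≤ cenS (zpowers b) := hcenb ▸ inf_le_right
    have hdU : d ∈ U := CoprimeAct.commutator_le_left (hV.le.trans hUn) hd
    have e : q (cenS (zpowers b)) ⟨d * r, hub⟩ =
        q (cenS (zpowers b)) ⟨d, hUH hdU⟩ * q (cenS (zpowers b)) ⟨r, hUH hr⟩ := by
      rw [← map_mul]
      rfl
    rw [e]
    refine mul_mem (commutator_le_centralizer (Z := im (cenS (zpowers b)) U)
      (P := im (cenS (zpowers b)) V) ?_ (le_centralizer_iff.1 hLV) ?_) ?_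
    · refine le_trans (im_mono ?_) (cor_le_normalizer_component (B₁ := zpowers a)
        ((zpowers_le.2 ha).trans hAb) ((Signalizer.ea_isPGroup hA).to_le (zpowers_le.2 ha)) hL)
      rw [cor_zpowers]
      exact hUO
    · rw [← map_commutator]
      refine mem_map_of_mem _ ?_
      have hd' : d ∈ (⁅U.subgroupOf (cenS (zpowers b)), V.subgroupOf (cenS (zpowers b))⁆).map
          (cenS (zpowers b)).subtype := by
        rw [map_commutator, map_subgroupOf_eq_of_le hUH,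
          map_subgroupOf_eq_of_le (hV.le.trans hAb)]
        exact hd
      obtain ⟨d', hd', hdd⟩ := hd'
      have : d' = (⟨d, hUH hdU⟩ : ↥(cenS (zpowers b))) := Subtype.ext hdd
      exact this ▸ hd'
    · exact cor_centralizes (hV.le.trans hAb) ((Signalizer.ea_isPGroup hA).to_le hV.le) hL hLV
        (mem_im hrV (hUH hr))
  refine _root_.le_inf hUb (le_iInf fun V => ?_)
  intro u hu
  obtain ⟨d, hd, r, hr, hrV, rfl⟩ := hdecomp V V.2 u hu
  exact mul_mem (mem_sup_left (commutator_mono hUb le_rfl hd)) (mem_sup_right ⟨hUb hr, hrV⟩)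

end Blocks

end Cfsg.Agent.Walter4
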