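import Cfsg.Agent.Lib.Walter4.Kind
import Cfsg.Agent.Lib.SEMain.Proof
import Cfsg.Agent.Lib.SEBrick.Basic
import Cfsg.Agent.Lib.SolvCores.Main
import Mathlib.GroupTheory.Perm.Cycle.Type

/-!
General arguments for the facts on the known simple groups with abelian Sylow 2-subgroups.
-/

set_option autoImplicit false
set_option linter.style.haveILetI false
set_option linter.unusedSectionVars false

namespace Cfsg.Agent.Walter4.KindPf

open Subgroup
open scoped Pointwise

universe u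

variable {K : Type u} [Group K] [Finite K]

theorem comm_of_sq {P : Subgroup K} (hsq : ∀ x ∈ P, x * x = 1) {x y : K} (hx : x ∈ P) (hy : y ∈ P) :
    x * y = y * x := by
  calc x * y = (x * y)⁻¹ := (inv_eq_of_mul_eq_one_right (hsq _ (mul_mem hx hy))).symm
    _ = y * x := by
      rw [mul_inv_rev, inv_eq_of_mul_eq_one_right (hsq x hx), inv_eq_of_mul_eq_one_right (hsq y hy)]

/-- An element of odd order squaring to one is trivial. -/
theorem eq_one_of_odd_sq {X : Type*} [Group X] {z : X} (hz : z * z = 1) (ho : Odd (orderOf z)) : z = 1 :=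
  orderOf_eq_one_iff.1 (Nat.eq_one_of_dvd_coprimes (Nat.coprime_two_left.2 ho)
    (orderOf_dvd_of_pow_eq_one (by rw [pow_two, hz])) dvd_rfl)

theorem two_le_of_four {P : Subgroup K} (h4 : 4 ≤ Nat.card P) (a : K) : ∃ x ∈ P, x ≠ 1 ∧ x ≠ a := by
  classical
  by_contra hno
  push Not at hno
  have hsub : (P : Set K) ⊆ {1, a} := fun x hx => (em (x = 1)).imp id fun h => hno x hx h
  have h1 := Set.ncard_le_ncard hsub (Set.toFinite _)
  have h2 := Set.ncard_insert_le (1 : K) {a}
  rw [Set.ncard_singleton] at h2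
  rw [← Nat.card_coe_set_eq] at h1
  change Nat.card P ≤ _ at h1
  omega

/-- A proper subgroup with the centralisers of the involutions and the normaliser of a Sylow
2-subgroup normalises it. -/
theorem conj_mem_of_contains [IsSimpleGroup K] (P : Sylow 2 K) (hsq : ∀ x ∈ (P : Subgroup K), x * x = 1)
    (h4 : 4 ≤ Nat.card (P : Subgroup K)) {M : Subgroup K} (hne : M ≠ ⊤)
    (hC : ∀ x ∈ (P : Subgroup K), x ≠ 1 → centralizer ({x} : Set K) ≤ M)
    (hN : normalizer ((P : Subgroup K) : Set K) ≤ M) {z x : K} (hz : z ∈ M) (hx : x ∈ (P : Subgroup K)) :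
    z * x * z⁻¹ ∈ (P : Subgroup K) := by
  haveI : Fact (Nat.Prime 2) := ⟨Nat.prime_two⟩
  have hPM : (P : Subgroup K) ≤ M := le_normalizer.trans hN
  obtain ⟨v, hv, hv1, -⟩ := two_le_of_four h4 1
  have hse : Cfsg.IsStronglyEmbedded M := by
    refine Invol.se_of_centralizers hne (P.subtype hPM)
      (Invol.even_of_invol_mem (t := v) (Invol.order_two_of_sq (hsq v hv) hv1) (hPM hv)) ?_ ?_
    · rwa [Sylow.coe_subtype, subgroupOf_map_subtype, inf_eq_left.2 hPM]
    · intro t htM ht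
      obtain ⟨g, hgM, hg⟩ := SolvCores.exists_conj_le (H := M) hPM (IsPGroup.of_card (n := 1) (p := 2)
        (by rw [Nat.card_zpowers, ht, pow_one] : Nat.card (zpowers t) = 2 ^ 1)) (zpowers_le.2 htM)
      have hgt : g * t * g⁻¹ ∈ (P : Subgroup K) := hg ⟨t, mem_zpowers t, rfl⟩
      intro y hy
      have hyt := mem_centralizer_singleton_iff.1 hy
      have h1 : g * y * g⁻¹ ∈ M := by
        refine hC _ hgt (fun e => Invol.ne_one ht (conj_eq_one_iff.1 e)) (mem_centralizer_singleton_iff.2 ?_)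
        calc g * y * g⁻¹ * (g * t * g⁻¹) = g * (y * t) * g⁻¹ := by group
          _ = g * (t * y) * g⁻¹ := by rw [hyt]
          _ = _ := by group
      have h2 := mul_mem (mul_mem (inv_mem hgM) h1) hgM
      rwa [show g⁻¹ * (g * y * g⁻¹) * g = y by group] at h2
  have hcore : M.normalCore = ⊥ :=
    (IsSimpleGroup.eq_bot_or_eq_top_of_normal M.normalCore M.normalCore_normal).resolve_right
      fun e => hne (top_le_iff.1 (e.symm.le.trans M.normalCore_le))
  have hfour : SEBrick.IsFour (P : Subgroup K) :=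
    ⟨⟨.of_setLike_mul_comm fun a ha b hb => comm_of_sq hsq ha hb,
      fun a ha => by rw [pow_two]; exact hsq a ha⟩, h4⟩
  have hcomm := (SEMain.stmt K M hse hcore ⟨_, hPM, hfour⟩).1
  by_cases hx1 : x = 1
  · rw [hx1, mul_one, mul_inv_cancel]; exact one_mem _
  set t := z * x * z⁻¹ with ht
  have htM : t ∈ M := mul_mem (mul_mem hz (hPM hx)) (inv_mem hz)
  have ht2 : orderOf t = 2 := by
    rw [ht, Invol.order_conj]; exact Invol.order_two_of_sq (hsq x hx) hx1
  have htc : ∀ y ∈ (P : Subgroup K), y * t = t * y := fun y hy => by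
    by_cases hy1 : y = 1
    · rw [hy1, one_mul, mul_one]
    · exact hcomm y t (hPM hy) htM (Invol.order_two_of_sq (hsq y hy) hy1) ht2
  -- `t` and `P` generate a 2-group
  have hnorm : zpowers t ≤ normalizer ((P : Subgroup K) : Set K) :=
    zpowers_le.2 (SEBrick.mem_normalizer_of fun y hy => by rw [← htc y hy, mul_inv_cancel_right]; exact hy)
  have hp : IsPGroup 2 (zpowers t : Subgroup K) :=
    IsPGroup.of_card (n := 1) (by rw [Nat.card_zpowers, ht2, pow_one])
  have heq : (P : Subgroup K) ⊔ zpowers t = P := P.is_maximal' (P.2.to_sup_of_normal_left' hp hnorm) le_sup_left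
  exact heq ▸ mem_sup_right (mem_zpowers t)

/-- An odd group of automorphisms fixing an involution and invariant under its centraliser fixes this
centraliser, if that has no odd normal subgroup. -/
theorem fix_centraliser (hc1 : ∀ y : K, MulAut.conj y = 1 → y = 1) {R : Subgroup (MulAut K)}
    (hRo : Odd (Nat.card R)) {e : K} (hfix : ∀ φ ∈ R, φ e = e)
    (hinv : ∀ c : K, c * e = e * c → ∀ φ ∈ R, MulAut.conj c * φ * (MulAut.conj c)⁻¹ ∈ R)
    (hcore : ∀ O : Subgroup K, O ≤ centralizer ({e} : Set K) → Odd (Nat.card O) →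
      (∀ c ∈ centralizer ({e} : Set K), ∀ y ∈ O, c * y * c⁻¹ ∈ O) → O = ⊥)
    {φ : MulAut K} (hφ : φ ∈ R) {c : K} (hc : c * e = e * c) : φ c = c := by
  set O := R.comap (MulAut.conj : K →* MulAut K) ⊓ centralizer ({e} : Set K) with hO
  have hO1 : O = ⊥ := by
    refine hcore O inf_le_right (hRo.of_dvd_nat ?_) fun d hd y hy => mem_inf.2 ⟨?_, ?_⟩
    · refine dvd_trans (dvd_of_eq ?_) (card_dvd_of_le
        (map_le_iff_le_comap.2 (inf_le_left : O ≤ R.comap (MulAut.conj : K →* MulAut K))))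
      exact (card_map_of_injective (fun a b h => mul_inv_eq_one.1 (hc1 _ (by
        rw [map_mul, map_inv, h, mul_inv_cancel])))).symm
    · show MulAut.conj (d * y * d⁻¹) ∈ R
      rw [map_mul, map_mul, map_inv]
      exact hinv d (mem_centralizer_singleton_iff.1 hd) _ (mem_inf.1 hy).1
    · exact mul_mem (mul_mem hd (mem_inf.1 hy).2) (inv_mem hd)
  have hmem : c * (φ c)⁻¹ ∈ O := by
    refine mem_inf.2 ⟨?_, mul_mem (mem_centralizer_singleton_iff.2 hc) (inv_mem (mem_centralizer_singleton_iff.2 ?_))⟩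
    · show MulAut.conj (c * (φ c)⁻¹) ∈ R
      have h1 : MulAut.conj (c * (φ c)⁻¹) = MulAut.conj c * φ * (MulAut.conj c)⁻¹ * φ⁻¹ := by
        refine MulEquiv.ext fun y => ?_
        simp only [MulAut.mul_apply, MulAut.conj_apply, MulAut.conj_inv_apply, map_mul, map_inv, MulAut.apply_inv_self]
      rw [h1]
      exact mul_mem (hinv c hc φ hφ) (inv_mem hφ)
    · have h2 : φ (c * e) = φ (e * c) := congrArg φ hc
      rwa [map_mul, map_mul, hfix φ hφ] at h2
  rw [hO1, mem_bot, mul_inv_eq_one] at hmem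
  exact hmem.symm

/-- Fixing the centraliser of an involution of `P`, an automorphism of odd order moves the normaliser of `P`
by odd elements centralising `P`. -/
theorem exists_twist (P : Subgroup K) (hsq : ∀ x ∈ P, x * x = 1) {e : K} (he : e ∈ P) {φ : MulAut K}
    (hφo : Odd (orderOf φ)) (hfix : ∀ c : K, c * e = e * c → φ c = c)
    {g : K} (hg : g ∈ normalizer (P : Set K)) :
    ∃ c : K, φ g = c * g ∧ (∀ x ∈ P, c * x = x * c) ∧ Odd (orderOf c) := by
  have hfP : ∀ x ∈ P, φ x = x := fun x hx => hfix x (comm_of_sq hsq hx he)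
  set c := φ g * g⁻¹ with hc
  have hcc : ∀ x ∈ P, c * x = x * c := by
    intro x hx
    have h1 : g⁻¹ * x * g ∈ P := by
      have := SEBrick.conj_mem_of (inv_mem hg) hx
      rwa [inv_inv] at this
    have h2 : φ g * (g⁻¹ * x * g) * (φ g)⁻¹ = x := by
      calc φ g * (g⁻¹ * x * g) * (φ g)⁻¹ = φ g * φ (g⁻¹ * x * g) * (φ g)⁻¹ := by rw [hfP _ h1]
        _ = φ (g * (g⁻¹ * x * g) * g⁻¹) := by simp only [map_mul, map_inv]
        _ = φ x := by congr 1; group
        _ = x := hfP x hx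
    calc c * x = φ g * (g⁻¹ * x * g) * (φ g)⁻¹ * c := by rw [hc]; group
      _ = x * c := by rw [h2]
  have hφc : φ c = c := hfix c (hcc e he)
  have hk : ∀ k : ℕ, (φ ^ k) g = c ^ k * g := by
    intro k
    induction k with
    | zero => simp
    | succ k ih =>
      rw [pow_succ', MulAut.mul_apply, ih, map_mul, map_pow, hφc, show φ g = c * g by rw [hc]; group,
        ← mul_assoc, ← pow_succ]
  have h1 := hk (orderOf φ)
  rw [pow_orderOf_eq_one, MulAut.one_apply, right_eq_mul] at h1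
  exact ⟨c, by rw [hc]; group, hcc, hφo.of_dvd_nat (orderOf_dvd_of_pow_eq_one h1)⟩

/-- If moreover no odd element centralises `P`, the normaliser is fixed. -/
theorem fix_normalizer (P : Subgroup K) (hsq : ∀ x ∈ P, x * x = 1) {e : K} (he : e ∈ P) {φ : MulAut K}
    (hφo : Odd (orderOf φ)) (hfix : ∀ c : K, c * e = e * c → φ c = c)
    (hcp : ∀ c : K, (∀ x ∈ P, c * x = x * c) → Odd (orderOf c) → c = 1)
    {g : K} (hg : g ∈ normalizer (P : Set K)) : φ g = g := by
  obtain ⟨c, hc, hcc, hco⟩ := exists_twist P hsq he hφo hfix hg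
  rw [hc, hcp c hcc hco, one_mul]

/-- Balance in the case of an abelian centraliser of the involutions. -/
theorem balanced_small [IsSimpleGroup K] (hnc : ¬ IsMulCommutative K) (P : Sylow 2 K)
    (hsq : ∀ x ∈ (P : Subgroup K), x * x = 1) (h4 : 4 ≤ Nat.card (P : Subgroup K))
    (hC : ∀ x ∈ (P : Subgroup K), x ≠ 1 → centralizer ({x} : Set K) ≤ P)
    {h : K} (hh : h ∈ normalizer ((P : Subgroup K) : Set K))
    (hreg : ∀ x ∈ (P : Subgroup K), x ≠ 1 → ∀ y ∈ (P : Subgroup K), y ≠ 1 →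
      ∃ i : ℕ, h ^ i * x * (h ^ i)⁻¹ = y)
    (hcard : Nat.card K ≤ Nat.card (P : Subgroup K) * (Nat.card (P : Subgroup K) ^ 2 - 1))
    (hc1 : ∀ y : K, MulAut.conj y = 1 → y = 1) : BalancedAt K (P : Subgroup K) := by
  classical
  haveI : Fact (Nat.Prime 2) := ⟨Nat.prime_two⟩
  intro R hRo e he he1 hfix hinv
  have h2el : ∀ y ∈ (P : Subgroup K), Odd (orderOf y) → y = 1 := fun y hy ho => eq_one_of_odd_sq (hsq y hy) ho
  refine (eq_bot_iff_forall _).2 fun φ hφ => ?_
  have hφo : Odd (orderOf φ) := hRo.of_dvd_nat (Subgroup.orderOf_dvd_natCard _ hφ)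
  have hfixC : ∀ c : K, c * e = e * c → φ c = c := fun c hc => by
    refine fix_centraliser hc1 hRo hfix hinv (fun O hOC hOo _ => (eq_bot_iff_forall _).2 fun y hy => ?_) hφ hc
    exact h2el y (hC e he he1 (hOC hy)) (hOo.of_dvd_nat (Subgroup.orderOf_dvd_natCard _ hy))
  have hcp : ∀ c : K, (∀ x ∈ (P : Subgroup K), c * x = x * c) → Odd (orderOf c) → c = 1 := fun c hc ho =>
    h2el c (hC e he he1 (mem_centralizer_singleton_iff.2 (hc e he))) ho
  set N := normalizer ((P : Subgroup K) : Set K) with hNdef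
  have hfN : ∀ g ∈ N, φ g = g := fun g hg => fix_normalizer _ hsq he hφo hfixC hcp hg
  have hPN : (P : Subgroup K) ≤ N := le_normalizer
  -- `N` is large
  set q := Nat.card (P : Subgroup K) with hq
  let X := {y : (P : Subgroup K) // y ≠ 1}
  haveI := Fintype.ofFinite ↥(P : Subgroup K)
  have hX : Nat.card X = q - 1 := by
    rw [Nat.card_eq_fintype_card, Fintype.card_subtype_compl, Fintype.card_subtype_eq, hq, Nat.card_eq_fintype_card]
  have hch : ∀ y : X, ∃ i : ℕ, h ^ i * e * (h ^ i)⁻¹ = ((y : (P : Subgroup K)) : K) := fun y =>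
    hreg e he he1 _ y.1.2 fun h' => y.2 (Subtype.ext h')
  choose iy hiy using hch
  have hNcard : q * (q - 1) ≤ Nat.card N := by
    rw [← hX, hq, ← Nat.card_prod]
    refine Nat.card_le_card_of_injective
      (fun py : ↥(P : Subgroup K) × X => (⟨h ^ iy py.2 * (py.1 : K), mul_mem (pow_mem hh _) (hPN py.1.2)⟩ : N)) ?_
    rintro ⟨p, y⟩ ⟨p', y'⟩ heq
    have h1 : h ^ iy y * (p : K) = h ^ iy y' * p' := congrArg Subtype.val heq
    have hpe : ∀ p : (P : Subgroup K), (p : K) * e * (p : K)⁻¹ = e := fun p => by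
      rw [comm_of_sq hsq p.2 he, mul_inv_cancel_right]
    have h2 : y = y' := by
      refine Subtype.ext (Subtype.ext ?_)
      rw [← hiy y, ← hiy y']
      calc h ^ iy y * e * (h ^ iy y)⁻¹ = h ^ iy y * p * e * (h ^ iy y * p)⁻¹ := by
            rw [show h ^ iy y * (p : K) * e * (h ^ iy y * p)⁻¹ = h ^ iy y * ((p : K) * e * (p : K)⁻¹) * (h ^ iy y)⁻¹ by
              group, hpe]
        _ = h ^ iy y' * p' * e * (h ^ iy y' * p')⁻¹ := by rw [h1]
        _ = h ^ iy y' * e * (h ^ iy y')⁻¹ := by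
            rw [show h ^ iy y' * (p' : K) * e * (h ^ iy y' * p')⁻¹ = h ^ iy y' * ((p' : K) * e * (p' : K)⁻¹) * (h ^ iy y')⁻¹ by
              group, hpe]
    subst h2
    exact Prod.ext (Subtype.ext (mul_left_cancel h1)) rfl
  have hidx : N.index ≤ q + 1 := by
    have h1 := Subgroup.card_mul_index N
    have h3 : q * (q - 1) * N.index ≤ q * (q - 1) * (q + 1) := by
      refine (Nat.mul_le_mul_right _ hNcard).trans (h1 ▸ hcard.trans (le_of_eq ?_))
      obtain ⟨r, hr⟩ : ∃ r, q = r + 1 := ⟨q - 1, by omega⟩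
      rw [hr, show (r + 1) ^ 2 = r * (r + 2) + 1 by ring, Nat.add_sub_cancel, Nat.add_sub_cancel]
      ring
    exact Nat.le_of_mul_le_mul_left h3 (Nat.mul_pos (by omega) (by omega))
  -- only one point is fixed by an involution of `P`
  have honly : ∀ g p : K, p ∈ (P : Subgroup K) → p ≠ 1 → g⁻¹ * p * g ∈ N → g ∈ N := by
    intro g p hp hp1 hgN
    set p' := g⁻¹ * p * g with hp'
    have hp'1 : p' ≠ 1 := fun h' => hp1 (by
      calc p = g * p' * g⁻¹ := by rw [hp']; group
        _ = 1 := by rw [h', mul_one, mul_inv_cancel])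
    have hp'2 : IsPGroup 2 (zpowers p' : Subgroup K) := by
      refine IsPGroup.of_card (n := 1) ?_
      rw [Nat.card_zpowers, pow_one]
      refine Invol.order_two_of_sq ?_ hp'1
      rw [hp', show g⁻¹ * p * g * (g⁻¹ * p * g) = g⁻¹ * (p * p) * g by group, hsq p hp, mul_one, inv_mul_cancel]
    have hp'P : p' ∈ (P : Subgroup K) := by
      have heq : (P : Subgroup K) ⊔ zpowers p' = P :=
        P.is_maximal' (P.2.to_sup_of_normal_left' hp'2 (zpowers_le.2 hgN)) le_sup_left
      exact heq ▸ mem_sup_right (mem_zpowers p')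
    refine SEBrick.mem_normalizer_of fun y hy => hC p hp hp1 (mem_centralizer_singleton_iff.2 ?_)
    have hcom := comm_of_sq hsq hy hp'P
    calc g * y * g⁻¹ * p = g * (y * p') * g⁻¹ := by rw [hp']; group
      _ = g * (p' * y) * g⁻¹ := by rw [hcom]
      _ = p * (g * y * g⁻¹) := by rw [hp']; group
  -- `P` is transitive on the other points
  have hreach : ∀ g g' : K, g ∉ N → g' ∉ N → ∃ p ∈ (P : Subgroup K), (p * g)⁻¹ * g' ∈ N := by
    intro g g' hg hg'
    let f : ↥(P : Subgroup K) ⊕ PUnit.{1} → K ⧸ N :=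
      Sum.elim (fun p => (((p : K) * g : K) : K ⧸ N)) fun _ => ((1 : K) : K ⧸ N)
    have hf : Function.Injective f := by
      have hne : ∀ p : (P : Subgroup K), (((p : K) * g : K) : K ⧸ N) ≠ ((1 : K) : K ⧸ N) := fun p h' => hg (by
        rw [QuotientGroup.eq, mul_one] at h'
        have := mul_mem (inv_mem (hPN p.2)) (inv_mem h')
        rwa [inv_inv, inv_mul_cancel_left] at this)
      rintro (p | u) (p' | u') h'
      · refine congrArg Sum.inl (Subtype.ext ?_)
        have h'' : ((p : K) * g)⁻¹ * ((p' : K) * g) ∈ N := QuotientGroup.eq.1 h'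
        by_contra hne'
        exact hg (honly g ((p : K)⁻¹ * p') (mul_mem (inv_mem p.2) p'.2)
          (fun h1 => hne' (inv_mul_eq_one.1 h1)) (by convert h'' using 1; group))
      · exact absurd h' (hne p)
      · exact absurd h'.symm (hne p')
      · rfl
    have hsurj := (Function.Injective.bijective_of_nat_card_le hf (by
      rw [Nat.card_sum, Nat.card_unique (α := PUnit.{1})]
      exact (Subgroup.index_eq_card N) ▸ hidx)).2 (g' : K ⧸ N)
    obtain ⟨p | u, hp⟩ := hsurj
    · exact ⟨p, p.2, QuotientGroup.eq.1 hp⟩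
    · have h' := QuotientGroup.eq.1 hp
      rw [inv_one, one_mul] at h'
      exact absurd h' hg'
  -- `φ` fixes every point
  have hall : ∀ g : K, g⁻¹ * φ g ∈ N := by
    intro g
    by_cases hg : g ∈ N
    · rw [hfN g hg, inv_mul_cancel]; exact one_mem _
    have hg' : φ g ∉ N := fun h' => hg (by
      have := hfN _ h'
      rwa [φ.injective this] at h')
    have hhg : h * g ∉ N := fun h' => hg (by
      have := mul_mem (inv_mem hh) h'
      rwa [inv_mul_cancel_left] at this)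
    obtain ⟨s, hs, hsn⟩ := hreach g (φ g) hg hg'
    obtain ⟨p, hp, hpn⟩ := hreach (h * g) g hhg hg
    set h' := p * h with hh'
    have hh'N : h' ∈ N := mul_mem (hPN hp) hh
    have hk : g⁻¹ * h' * g ∈ N := by
      have := inv_mem hpn
      rwa [show ((p * (h * g))⁻¹ * g)⁻¹ = g⁻¹ * h' * g by rw [hh']; group] at this
    have hk2 : (φ g)⁻¹ * h' * φ g ∈ N := by
      have h1 : φ (g⁻¹ * h' * g) = g⁻¹ * h' * g := hfN _ hk
      rw [map_mul, map_mul, map_inv, hfN h' hh'N] at h1
      rw [h1]; exact hk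
    have hk3 : g⁻¹ * (s⁻¹ * h' * s) * g ∈ N := by
      have h1 := mul_mem (mul_mem hsn hk2) (inv_mem hsn)
      rwa [show (s * g)⁻¹ * φ g * ((φ g)⁻¹ * h' * φ g) * ((s * g)⁻¹ * φ g)⁻¹ = g⁻¹ * (s⁻¹ * h' * s) * g by group] at h1
    have hcP : s⁻¹ * (h' * s * h'⁻¹) ∈ (P : Subgroup K) := mul_mem (inv_mem hs) (SEBrick.conj_mem_of hh'N hs)
    have hc1' : s⁻¹ * (h' * s * h'⁻¹) = 1 := by
      by_contra hne
      refine hg (honly g _ hcP hne ?_)
      have := mul_mem hk3 (inv_mem hk)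
      convert this using 1
      group
    have hsh : h * s * h⁻¹ = s := by
      have h1 := (inv_mul_eq_one.1 hc1').symm
      rw [hh', show p * h * s * (p * h)⁻¹ = p * (h * s * h⁻¹) * p⁻¹ by group,
        comm_of_sq hsq hp (SEBrick.conj_mem_of hh hs), mul_inv_cancel_right] at h1
      exact h1
    have hs1 : s = 1 := by
      by_contra hs1
      obtain ⟨y, hy, hy1, hys⟩ := two_le_of_four h4 s
      obtain ⟨i, hi⟩ := hreg s hs hs1 y hy hy1
      rw [((show Commute h s from mul_inv_eq_iff_eq_mul.1 hsh).pow_left i).eq, mul_inv_cancel_right] at hi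
      exact hys hi.symm
    rwa [hs1, one_mul] at hsn
  have hcore : N.normalCore = ⊥ := by
    refine (IsSimpleGroup.eq_bot_or_eq_top_of_normal N.normalCore N.normalCore_normal).resolve_right fun hT => ?_
    haveI : (P : Subgroup K).Normal := normalizer_eq_top_iff.1 (top_le_iff.1 (hT.symm.le.trans N.normalCore_le))
    rcases IsSimpleGroup.eq_bot_or_eq_top_of_normal (P : Subgroup K) inferInstance with hb | ht
    · have h1 := hq; rw [hb, Subgroup.card_bot] at h1; omega
    · exact hnc ⟨⟨fun a b => comm_of_sq hsq (ht ▸ mem_top a) (ht ▸ mem_top b)⟩⟩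
  refine MulEquiv.ext fun g => ?_
  rw [MulAut.one_apply]
  have hmem : g⁻¹ * φ g ∈ N.normalCore := by
    intro b
    have h1 := hall (g * b⁻¹)
    have h2 := mul_mem h1 (inv_mem (hall b⁻¹))
    convert h2 using 1
    rw [map_mul]; group
  rw [hcore, mem_bot, inv_mul_eq_one] at hmem
  exact hmem.symm

/-- A cyclic group regular on the involutions, from transitivity and a prime number of involutions. -/
theorem exists_reg {P : Subgroup K} {ℓ : ℕ} (hℓ : ℓ.Prime) (hcard : Nat.card P = ℓ + 1)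
    (htr : ∀ x ∈ P, x ≠ 1 → ∀ y ∈ P, y ≠ 1 → ∃ g ∈ normalizer (P : Set K), g * x * g⁻¹ = y) :
    ∃ h ∈ normalizer (P : Set K), ∀ x ∈ P, x ≠ 1 → ∀ y ∈ P, y ≠ 1 → ∃ i : ℕ, h ^ i * x * (h ^ i)⁻¹ = y := by
  classical
  haveI := Fact.mk hℓ
  let X := {y : P // y ≠ 1}
  haveI := Fintype.ofFinite ↥P
  have hX : Fintype.card X = ℓ := by
    rw [Fintype.card_subtype_compl, Fintype.card_subtype_eq, ← Nat.card_eq_fintype_card, hcard]
    omega
  letI : MulAction (normalizer (P : Set K)) X :=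
    { smul := fun g y => ⟨⟨(g : K) * y.1 * (g : K)⁻¹, SEBrick.conj_mem_of g.2 y.1.2⟩, fun h =>
        y.2 (Subtype.ext (conj_eq_one_iff.1 (congrArg Subtype.val h :)))⟩
      one_smul := fun y => Subtype.ext (Subtype.ext (by
        show ((1 : normalizer (P : Set K)) : K) * _ * _ = _
        simp))
      mul_smul := fun g g' y => Subtype.ext (Subtype.ext (by
        show ((g * g' : normalizer (P : Set K)) : K) * _ * _ = (g : K) * ((g' : K) * _ * _) * _
        rw [Subgroup.coe_mul]; group)) }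
  set ρ := MulAction.toPermHom (normalizer (P : Set K)) X with hρ
  obtain ⟨x₀⟩ : Nonempty X := by rw [← Fintype.card_pos_iff, hX]; exact hℓ.pos
  have hdvd : ℓ ∣ Nat.card ρ.range := by
    haveI : MulAction.IsPretransitive ρ.range X := ⟨fun a b => by
      obtain ⟨g, hg, he⟩ := htr _ a.1.2 (fun h => a.2 (Subtype.ext h)) _ b.1.2 (fun h => b.2 (Subtype.ext h))
      exact ⟨⟨ρ ⟨g, hg⟩, ⟨_, rfl⟩⟩, Subtype.ext (Subtype.ext he)⟩⟩
    rw [← hX, ← Nat.card_eq_fintype_card, ← MulAction.index_stabilizer_of_transitive ρ.range x₀]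
    exact Subgroup.index_dvd_card _
  obtain ⟨⟨r, g, rfl⟩, hr⟩ := exists_prime_orderOf_dvd_card' ℓ hdvd
  rw [← Subgroup.orderOf_coe] at hr
  change orderOf (ρ g) = ℓ at hr
  have hcyc : (ρ g).IsCycle := Equiv.Perm.isCycle_of_prime_order' (hr ▸ hℓ) (by rw [hr, hX]; have := hℓ.pos; omega)
  have hsupp : (ρ g).support = Finset.univ := Finset.eq_univ_of_card _ (by rw [← hcyc.orderOf, hr, hX])
  refine ⟨g, g.2, fun x hx hx1 y hy hy1 => ?_⟩
  set a : X := ⟨⟨x, hx⟩, fun h => hx1 (congrArg Subtype.val h :)⟩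
  set b : X := ⟨⟨y, hy⟩, fun h => hy1 (congrArg Subtype.val h :)⟩
  obtain ⟨i, hi⟩ := hcyc.exists_pow_eq (x := a) (y := b)
    (Equiv.Perm.mem_support.1 (hsupp ▸ Finset.mem_univ a)) (Equiv.Perm.mem_support.1 (hsupp ▸ Finset.mem_univ b))
  rw [← map_pow] at hi
  refine ⟨i, ?_⟩
  have h1 : ((g ^ i : normalizer (P : Set K)) : K) * x * ((g ^ i : normalizer (P : Set K)) : K)⁻¹ = y :=
    congrArg (fun z : X => ((z.1 : P) : K)) hi
  rwa [SubmonoidClass.coe_pow] at h1

/-- A transitive cyclic group is regular. -/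
theorem reg_of_cycle {P : Subgroup K} {h : K} (hh : h ∈ normalizer (P : Set K))
    (htr : ∀ x ∈ P, x ≠ 1 → ∀ y ∈ P, y ≠ 1 → ∃ i : ℕ, h ^ i * x * (h ^ i)⁻¹ = y) :
    ∃ h ∈ normalizer (P : Set K),
      (∀ x ∈ P, x ≠ 1 → ∀ y ∈ P, y ≠ 1 → ∃ i : ℕ, h ^ i * x * (h ^ i)⁻¹ = y) ∧
        ∀ i : ℕ, ∀ x ∈ P, x ≠ 1 → h ^ i * x * (h ^ i)⁻¹ = x → ∀ y ∈ P, h ^ i * y * (h ^ i)⁻¹ = y := by
  refine ⟨h, hh, htr, fun i x hx hx1 hfix y hy => ?_⟩
  by_cases hy1 : y = 1
  · rw [hy1, mul_one, mul_inv_cancel]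
  obtain ⟨j, rfl⟩ := htr x hx hx1 y hy hy1
  calc h ^ i * (h ^ j * x * (h ^ j)⁻¹) * (h ^ i)⁻¹ = h ^ i * h ^ j * x * (h ^ i * h ^ j)⁻¹ := by group
    _ = h ^ j * h ^ i * x * (h ^ j * h ^ i)⁻¹ := by rw [← pow_add, ← pow_add, add_comm]
    _ = h ^ j * (h ^ i * x * (h ^ i)⁻¹) * (h ^ j)⁻¹ := by group
    _ = _ := by rw [hfix]

end Cfsg.Agent.Walter4.KindPf
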