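import Cfsg.Agent.Lib.Walter4.Systems

/-!
The layers of the centralisers in `A` and the blocks: the facts needed for `Blocks.Local`, except balance.
-/

set_option autoImplicit false
set_option linter.style.haveILetI false
set_option linter.unusedSectionVars false

namespace Cfsg.Agent.Walter4

open Subgroup Cfsg.Agent.Components
open Cfsg.Agent.OddDown.CoreSep (q im mem_im)
open scoped commutatorElement

universe u

attribute [local instance] FittingCores.pPrimeCore_normal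

variable {G : Type u} [Group G] [Finite G] {S : Sylow 2 G} {A : Subgroup G} (hC : Ctx S A)

namespace Ctx

include hC

/-- The 2-component over a component contains the elements of `UA K`. -/
theorem mem_pcomp_of_UA {B : Subgroup G} (hB : B ≤ A) {P : Subgroup ↥(cenS B)}
    (hP : Cfsg.IsPComponent 2 P) {u : G} (hu : u ∈ UA A B (P.map (q (cenS B)))) :
    ∃ hu' : u ∈ cenS B, (⟨u, hu'⟩ : ↥(cenS B)) ∈ P := by
  haveI : Fact (Nat.Prime 2) := ⟨Nat.prime_two⟩
  obtain ⟨huH, p, hp, hpy⟩ := mem_pre.1 hu.2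
  refine ⟨huH, ?_⟩
  set o := p⁻¹ * (⟨u, huH⟩ : ↥(cenS B)) with ho
  have hoO : o ∈ Cfsg.pPrimeCore 2 ↥(cenS B) := QuotientGroup.eq.1 hpy
  have e : p * o = ⟨u, huH⟩ := mul_inv_cancel_left p _
  suffices o ∈ P from e ▸ mul_mem hp this
  refine ClosedAbelian.mem_of_sq_mem ?_ ((Nat.coprime_two_right.1
    (FittingCores.pPrimeCore_coprime (G := ↥(cenS B)) 2)).of_dvd_nat
    ((orderOf_coe (⟨o, hoO⟩ : Cfsg.pPrimeCore 2 ↥(cenS B))) ▸ orderOf_dvd_natCard _))
  have h1 : (p * o) * (p * o) = 1 := by rw [e]; exact Subtype.ext (hC.set.sq hu.1)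
  have h2 : o * p * o⁻¹ ∈ P :=
    (mem_normalizer_iff.1 (pPrimeCore_le_normalizer_pComponent hP hoO) p).1 hp
  have h3 : p * (o * p * o⁻¹) * (o * o) = 1 := by rw [← h1]; group
  rw [show o * o = (p * (o * p * o⁻¹))⁻¹ from eq_inv_of_mul_eq_one_right h3]
  exact inv_mem (mul_mem hp h2)

theorem mem_lay_of_UA {B : Subgroup G} (hB : B ≤ A) {K : Subgroup (XB B)} (hK : Cfsg.IsComponent K)
    {u : G} (hu : u ∈ UA A B K) : u ∈ lay B := by
  haveI : Fact (Nat.Prime 2) := ⟨Nat.prime_two⟩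
  obtain ⟨hP, hPK⟩ := exists_pComponent (p := 2) K hK
  obtain ⟨hu', h⟩ := hC.mem_pcomp_of_UA hB hP (u := u) (by rw [hPK]; exact hu)
  exact ⟨_, le_sSup (s := {K : Subgroup ↥(cenS B) | Cfsg.IsPComponent 2 K}) hP h, rfl⟩

/-- A 2-component of `C(B')` maps into a component of `C(B)`, with the same part of `A`. -/
theorem exists_pcomp_image {B B' : Subgroup G} (h : B ≤ B') (hB' : B' ≤ A) (hB0 : B ≠ ⊥)
    {P : Subgroup ↥(cenS B')} (hP : Cfsg.IsPComponent 2 P) :
    ∃ J : Subgroup (XB B), Cfsg.IsComponent J ∧ P.map (down h) ≤ J ∧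
      UA A B' (P.map (q (cenS B'))) ≤ UA A B J := by
  haveI : Fact (Nat.Prime 2) := ⟨Nat.prime_two⟩
  have hB'0 : B' ≠ ⊥ := fun e => hB0 (le_bot_iff.1 (e ▸ h))
  set K := P.map (q (cenS B')) with hK
  have hKc : Cfsg.IsComponent K := hP.2.1
  obtain ⟨J, hJ, hUJ, -, -⟩ := hC.exists_pump h hB' hB0 hKc
  refine ⟨J, hJ, ?_, hUJ⟩
  have hPlay : P.map (down h) ≤ Cfsg.layer (XB B) := by
    rintro _ ⟨⟨p, hpH⟩, hp, rfl⟩
    have hp' : p ∈ lay B' :=
      ⟨⟨p, hpH⟩, le_sSup (s := {K : Subgroup ↥(cenS B') | Cfsg.IsPComponent 2 K}) hP hp, rfl⟩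
    obtain ⟨p', hp'', e⟩ := hC.lay_mono' h hB' hp'
    rw [down_apply, ← map_pLayer (p := 2)]
    exact ⟨p', hp'', congrArg _ (Subtype.ext e)⟩
  set N := P ⊓ J.comap (down h) with hN
  have hPn : P ≤ normalizer (N : Set ↥(cenS B')) := by
    refine (_root_.le_inf le_normalizer ?_).trans inf_normalizer_le_normalizer_inf
    exact (map_le_iff_le_comap.1 (hPlay.trans (layer_le_normalizer_component hJ))).trans
      (le_normalizer_comap _)
  have hNs : N.IsSubnormal :=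
    IsSubnormal.step _ P inf_le_left hP.1 ((normal_subgroupOf_iff_le_normalizer inf_le_left).2 hPn)
  suffices hNP : N = P by
    rw [map_le_iff_le_comap]
    exact hNP ▸ inf_le_right
  refine hP.2.2 N hNs inf_le_left ?_
  have hNK : N.map (q (cenS B')) ≤ K := map_mono inf_le_left
  haveI : ((N.map (q (cenS B'))).subgroupOf K).Normal := by
    rw [normal_subgroupOf_iff_le_normalizer hNK]
    exact (map_mono hPn).trans (le_normalizer_map _)
  rcases quasisimple_normal hKc.2 ((N.map (q (cenS B'))).subgroupOf K) with e | e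
  · exact le_antisymm hNK (subgroupOf_eq_top.1 e)
  exfalso
  obtain ⟨u, hu, hu1⟩ := (UA A B' K).bot_or_exists_ne_one.resolve_left (hC.UA_ne_bot hB' hB'0 hKc)
  obtain ⟨hu', huP⟩ := hC.mem_pcomp_of_UA hB' hP hu
  obtain ⟨hh, hk⟩ := mem_pre.1 hu.2
  refine hu1 (hC.eq_one_of_q hB' (hC.set.le hu.1) (hC.eq_one_of_central hB' hB'0 hKc hk ?_))
  have hm : (⟨_, hk⟩ : K) ∈ center K := e (mem_subgroupOf.2
    ⟨⟨u, hh⟩, ⟨huP, (mem_pre.1 (hUJ hu).2).2⟩, rfl⟩)
  exact mem_centralizer_iff.2 fun l hl => congrArg Subtype.val (mem_center_iff.1 hm ⟨l, hl⟩)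

theorem rest_eq_sys {i : hC.blocks.ι} {W : Subgroup G} (h : IsMinSys A (hC.blocks.U i, W)) :
    hC.blocks.rest i = W := by
  have hle : hC.blocks.rest i ≤ W :=
    iSup_le fun k => hC.block_le h k.1.2 fun e => k.2 (Subtype.ext e)
  refine le_antisymm hle fun a ha => ?_
  obtain ⟨x, hx, y, hy, rfl⟩ := hC.blocks.dec hC.set.ea i a (h.1.1 ha)
  have : x ∈ W := by simpa using mul_mem ha (inv_mem (hle hy))
  have h1 : x = 1 := mem_bot.1 ((hC.sys_sup h.1).2.2.1 ▸ ⟨hx, this⟩)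
  rw [h1, one_mul]
  exact hy

/-- The block of a component. -/
theorem exists_block_idx {B : Subgroup G} (hB : B ≤ A) (hB0 : B ≠ ⊥) {L : Subgroup (XB B)}
    (hL : Cfsg.IsComponent L) :
    ∃ i, IsMinSys A (hC.blocks.U i, hC.blocks.rest i) ∧ hC.blocks.rest i ≤ CA A B L ∧
      UA A B L ≤ hC.blocks.U i := by
  obtain ⟨⟨U, W⟩, hm, hle, hU⟩ := hC.exists_block hB hB0 hL
  let i : hC.blocks.ι := ⟨U, Or.inl ⟨W, hm⟩⟩
  have hm' : IsMinSys A (hC.blocks.U i, W) := hm
  have e := hC.rest_eq_sys hm'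
  exact ⟨i, by rw [e]; exact hm', by rw [e]; exact hle, hU⟩

/-- A component with part of `A` meeting a block is in that block. -/
theorem block_eq_of_mem {B : Subgroup G} {L : Subgroup (XB B)} {i k : hC.blocks.ι} {x : G}
    (hU : UA A B L ≤ hC.blocks.U i) (hx : x ∈ UA A B L) (hx1 : x ≠ 1) (hk : x ∈ hC.blocks.U k) :
    i = k := by
  by_contra hne
  exact hx1 (mem_bot.1 (hC.blocks.inf_rest k ▸ ⟨hk, hC.blocks.U_le_rest hne (hU hx)⟩))

/-- A component centralised by the sum of the blocks other than `j` belongs to the block `j`. -/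
theorem block_eq_of_rest {B : Subgroup G} (hB : B ≤ A) (hB0 : B ≠ ⊥) {L : Subgroup (XB B)}
    (hL : Cfsg.IsComponent L) {i j : hC.blocks.ι} (hi : UA A B L ≤ hC.blocks.U i)
    (hj : hC.blocks.rest j ≤ CA A B L) : i = j := by
  by_contra hne
  exact hC.sys_not_le hB hB0 hL ((hi.trans (hC.blocks.U_le_rest hne)).trans hj)

theorem CA_eq_rest {B : Subgroup G} (hB : B ≤ A) (hB0 : B ≠ ⊥) {L : Subgroup (XB B)}
    (hL : Cfsg.IsComponent L) {j : hC.blocks.ι} (hj : hC.blocks.rest j ≤ CA A B L)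
    (hUj : UA A B L ≤ hC.blocks.U j) (h4 : Nat.card (hC.blocks.U j) = 4) :
    CA A B L = hC.blocks.rest j := by
  have hU : UA A B L = hC.blocks.U j :=
    eq_of_le_of_card_ge hUj (h4.le.trans (hC.four_UA hB hB0 hL))
  refine le_antisymm (fun a ha => ?_) hj
  obtain ⟨x, hx, y, hy, rfl⟩ := hC.blocks.dec hC.set.ea j a ha.1
  have : x ∈ CA A B L := by simpa using mul_mem ha (inv_mem (hj hy))
  have h1 : x = 1 := mem_bot.1 ((hC.UA_inf_CA hB hB0 hL) ▸ ⟨hU.ge hx, this⟩)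
  rw [h1, one_mul]
  exact hy

/-- The layer is made of the parts supported in one block. -/
theorem split_lay {B : Subgroup G} (hB : B ≤ A) (hB0 : B ≠ ⊥) :
    lay B ≤ cor B ⊔ ⨆ j, lay (B ⊔ hC.blocks.rest j) := by
  set Y := cor B ⊔ ⨆ j, lay (B ⊔ hC.blocks.rest j) with hY
  refine le_of_map_le (lay_le B) le_sup_left ?_
  rw [map_lay]
  refine layer_le_iff.2 fun L hL => ?_
  obtain ⟨i, -, hle, -⟩ := hC.exists_block_idx hB hB0 hL
  set B' := B ⊔ hC.blocks.rest i with hB'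
  have hB'A : B' ≤ A := sup_le hB (hC.blocks.rest_le i)
  have h : B ≤ B' := le_sup_left
  obtain ⟨K, hK, hU, -, -, hLr⟩ := hC.exists_down h hB'A hB0 hL (sup_le (hC.le_CA hB hB0 hL) hle)
  set N := ((lay B').subgroupOf (cenS B')).map (down h) with hN
  haveI : ((L ⊓ N).subgroupOf L).Normal := by
    rw [normal_subgroupOf_iff_le_normalizer inf_le_left]
    refine (_root_.le_inf le_normalizer (hLr.trans ?_)).trans inf_normalizer_le_normalizer_inf
    rw [MonoidHom.range_eq_map]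
    refine (map_mono ?_).trans (le_normalizer_map _)
    have : (lay B').subgroupOf (cenS B') = Cfsg.pLayer 2 ↥(cenS B') :=
      comap_map_eq_self_of_injective (cenS B').subtype_injective _
    rw [this]
    haveI : Fact (Nat.Prime 2) := ⟨Nat.prime_two⟩
    haveI := Components.pLayer_normal (p := 2) (G := ↥(cenS B'))
    exact le_normalizer_of_normal
  rcases quasisimple_normal hL.2 ((L ⊓ N).subgroupOf L) with e | e
  · refine (subgroupOf_eq_top.1 e).trans (inf_le_right.trans ?_)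
    rintro _ ⟨⟨y, hyH⟩, hy, rfl⟩
    rw [down_apply]
    exact mem_im ((le_sup_right : _ ≤ Y) (le_iSup (fun j => lay (B ⊔ hC.blocks.rest j)) i hy)) _
  exfalso
  obtain ⟨u, hu, hu1⟩ := (UA A B L).bot_or_exists_ne_one.resolve_left (hC.UA_ne_bot hB hB0 hL)
  obtain ⟨hh, hk⟩ := mem_pre.1 hu.2
  refine hu1 (hC.eq_one_of_q hB (hC.set.le hu.1) (hC.eq_one_of_central hB hB0 hL hk ?_))
  have huN : q (cenS B) ⟨u, hh⟩ ∈ N :=
    ⟨⟨u, hC.mem_cenS hB'A hu.1⟩, hC.mem_lay_of_UA hB'A hK (hU.ge hu), rfl⟩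
  have hm : (⟨_, hk⟩ : L) ∈ center L := e (mem_subgroupOf.2 ⟨hk, huN⟩)
  exact mem_centralizer_iff.2 fun l hl => congrArg Subtype.val (mem_center_iff.1 hm ⟨l, hl⟩)

theorem lay_eq_bot {B : Subgroup G} (h : ∀ L : Subgroup (XB B), ¬ Cfsg.IsComponent L) : lay B = ⊥ := by
  haveI : Fact (Nat.Prime 2) := ⟨Nat.prime_two⟩
  have : Cfsg.pLayer 2 ↥(cenS B) = ⊥ :=
    pLayer_eq_bot_iff.2 (le_bot_iff.1 (layer_le_iff.2 fun L hL => absurd hL (h L)))
  rw [lay, this, Subgroup.map_bot]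

theorem vanish_lay {j : hC.blocks.ι} (hj : j ∈ hC.blocks.F) {B : Subgroup G} (hB : B ≤ A)
    (hBj : ¬ B ≤ hC.blocks.rest j) : lay (B ⊔ hC.blocks.rest j) = ⊥ := by
  refine hC.lay_eq_bot fun L hL => hBj ?_
  obtain ⟨W, -, h4, -⟩ := hj
  have hB' : B ⊔ hC.blocks.rest j ≤ A := sup_le hB (hC.blocks.rest_le j)
  have hB'0 : B ⊔ hC.blocks.rest j ≠ ⊥ := fun e =>
    hC.blocks.rest_ne_bot j (le_bot_iff.1 (e ▸ le_sup_right))
  have hle := hC.le_CA hB' hB'0 hL
  obtain ⟨i, -, -, hU⟩ := hC.exists_block_idx hB' hB'0 hL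
  obtain rfl := hC.block_eq_of_rest hB' hB'0 hL hU (le_sup_right.trans hle)
  exact (le_sup_left.trans hle).trans_eq
    (hC.CA_eq_rest hB' hB'0 hL (le_sup_right.trans hle) hU h4)

theorem full_lay {j : hC.blocks.ι} (hj : j ∈ hC.blocks.F) : lay (hC.blocks.rest j) ≠ ⊥ := by
  haveI : Fact (Nat.Prime 2) := ⟨Nat.prime_two⟩
  obtain ⟨W, hW, -, -⟩ := hj
  have e : hC.blocks.rest j = W := hC.rest_eq_sys hW
  rw [e]
  obtain ⟨hA, h0, K, hK, -, -⟩ := hW.1
  intro hbot
  refine component_ne_bot hK (le_bot_iff.1 ?_)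
  have := component_le_layer hK
  rw [← map_lay, hbot] at this
  refine this.trans (le_of_eq ?_)
  rw [im, bot_subgroupOf, Subgroup.map_bot]

theorem dih_lay {j : hC.blocks.ι} (hj : j ∈ hC.blocks.F) : cenS (hC.blocks.rest j) ≤
    (⨆ x : {x : G // x ∈ hC.blocks.U j ∧ x ≠ 1}, cenS (hC.blocks.rest j ⊔ zpowers (x : G))) ⊔
      normalizer (A : Set G) := by
  obtain ⟨W, hW, -, hd⟩ := hj
  have e : hC.blocks.rest j = W := hC.rest_eq_sys hW
  rw [e]
  exact hd

/-- Layers of different blocks commute if `A` centralises the core. -/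
theorem comm_lay {B : Subgroup G} (hB : B ≤ A) (hB0 : B ≠ ⊥) (hcor : cor B ≤ cenS A)
    {i j : hC.blocks.ι} (hij : i ≠ j) :
    lay (B ⊔ hC.blocks.rest i) ≤ cenS (lay (B ⊔ hC.blocks.rest j)) := by
  haveI : Fact (Nat.Prime 2) := ⟨Nat.prime_two⟩
  -- a 2-component centralises the core of `C(B)` and maps into a component of its block
  have main : ∀ (k : hC.blocks.ι) (P : Subgroup ↥(cenS (B ⊔ hC.blocks.rest k))),
      Cfsg.IsPComponent 2 P → ∃ J : Subgroup (XB B), Cfsg.IsComponent J ∧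
        P.map (down (le_sup_left : B ≤ B ⊔ hC.blocks.rest k)) ≤ J ∧
        (∃ x ∈ UA A B J, x ≠ 1 ∧ x ∈ hC.blocks.U k) ∧
        P.map (cenS (B ⊔ hC.blocks.rest k)).subtype ≤ cenS (cor B) := by
    intro k
    set B' := B ⊔ hC.blocks.rest k with hB'
    intro P hP
    have hB'A : B' ≤ A := sup_le hB (hC.blocks.rest_le k)
    have hB'0 : B' ≠ ⊥ := fun e => hB0 (le_bot_iff.1 (e ▸ le_sup_left))
    have hKc : Cfsg.IsComponent (P.map (q (cenS B'))) := hP.2.1
    obtain ⟨J, hJ, hPJ, hU⟩ := hC.exists_pcomp_image le_sup_left hB'A hB0 hP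
    obtain ⟨i', -, -, hUi⟩ := hC.exists_block_idx hB'A hB'0 hKc
    obtain rfl := hC.block_eq_of_rest hB'A hB'0 hKc hUi
      (le_sup_right.trans (hC.le_CA hB'A hB'0 hKc))
    obtain ⟨x, hx, hx1⟩ :=
      (UA A B' (P.map (q (cenS B')))).bot_or_exists_ne_one.resolve_left (hC.UA_ne_bot hB'A hB'0 hKc)
    refine ⟨J, hJ, hPJ, ⟨x, hU hx, hx1, hUi hx⟩, ?_⟩
    set C := (cenS (cor B)).subgroupOf (cenS B') with hCdef
    have hCn : (cenS B' : Subgroup G) ≤ normalizer (cenS (cor B) : Set G) :=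
      ((cenS_le_of_le le_sup_left).trans (cor_normalized B)).trans
        (normalizer_le_normalizer_centralizer _)
    haveI : C.Normal := normal_subgroupOf_of_le_normalizer hCn
    have hNs : (P ⊓ C).IsSubnormal := IsSubnormal.step _ P inf_le_left hP.1
      ((normal_subgroupOf_iff_le_normalizer inf_le_left).2
        ((_root_.le_inf le_normalizer le_normalizer_of_normal).trans inf_normalizer_le_normalizer_inf))
    suffices hPC : P ⊓ C = P by
      rw [map_le_iff_le_comap]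
      exact hPC ▸ inf_le_right
    refine hP.2.2 _ hNs inf_le_left ?_
    have hle : (P ⊓ C).map (q (cenS B')) ≤ P.map (q (cenS B')) := map_mono inf_le_left
    haveI : (((P ⊓ C).map (q (cenS B'))).subgroupOf (P.map (q (cenS B')))).Normal := by
      rw [normal_subgroupOf_iff_le_normalizer hle]
      exact (map_mono ((_root_.le_inf le_normalizer le_normalizer_of_normal).trans
        inf_normalizer_le_normalizer_inf)).trans (le_normalizer_map _)
    rcases quasisimple_normal hKc.2 (((P ⊓ C).map (q (cenS B'))).subgroupOf (P.map (q (cenS B')))) with e | e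
    · exact le_antisymm hle (subgroupOf_eq_top.1 e)
    exfalso
    obtain ⟨hh, hk⟩ := mem_pre.1 hx.2
    obtain ⟨hx', hxP⟩ := hC.mem_pcomp_of_UA hB'A hP hx
    refine hx1 (hC.eq_one_of_q hB'A (hC.set.le hx.1) (hC.eq_one_of_central hB'A hB'0 hKc hk ?_))
    have hxC : (⟨x, hh⟩ : ↥(cenS B')) ∈ C := mem_centralizer_iff.2 fun o ho =>
      (mem_centralizer_iff.1 (hcor ho) x hx.1).symm
    have hm : (⟨_, hk⟩ : P.map (q (cenS B'))) ∈ center (P.map (q (cenS B'))) := e (mem_subgroupOf.2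
      ⟨⟨x, hh⟩, ⟨hxP, hxC⟩, rfl⟩)
    exact mem_centralizer_iff.2 fun l hl => congrArg Subtype.val (mem_center_iff.1 hm ⟨l, hl⟩)
  rw [lay, map_le_iff_le_comap]
  refine sSup_le fun P hP => ?_
  rw [← map_le_iff_le_comap, le_centralizer_iff, lay, map_le_iff_le_comap]
  refine sSup_le fun P' hP' => ?_
  rw [← map_le_iff_le_comap, le_centralizer_iff]
  obtain ⟨J, hJ, hPJ, ⟨x, hx, hx1, hxi⟩, hPc⟩ := main i P hP
  obtain ⟨J', hJ', hPJ', ⟨y, hy, hy1, hyj⟩, hPc'⟩ := main j P' hP'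
  have hJJ : J ≠ J' := by
    rintro rfl
    obtain ⟨k, -, -, hk⟩ := hC.exists_block_idx hB hB0 hJ
    exact hij ((hC.block_eq_of_mem hk hx hx1 hxi).symm.trans (hC.block_eq_of_mem hk hy hy1 hyj))
  have hc := commutator_eq_bot_iff_le_centralizer.1 (components_commute hJ hJ' hJJ)
  set X := P.map (cenS (B ⊔ hC.blocks.rest i)).subtype with hX
  rintro r' hr'
  refine mem_centralizer_iff.2 ?_
  suffices hall : ∀ r ∈ P'.map (cenS (B ⊔ hC.blocks.rest j)).subtype, X ≤ centralizer ({r} : Set G) from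
    fun r hr => (mem_centralizer_singleton_iff.1 (hall r hr hr')).symm
  rintro r ⟨⟨r, hrH⟩, hr, rfl⟩
  change X ≤ centralizer ({r} : Set G)
  have hcomm : ∀ p ∈ X, ⁅p, r⁆ ∈ cor B := by
    rintro _ ⟨⟨p, hpH⟩, hp, rfl⟩
    have h1 := mem_centralizer_iff.1 (hc (hPJ (mem_map_of_mem _ hp))) _ (hPJ' (mem_map_of_mem _ hr))
    rw [down_apply, down_apply] at h1
    refine ⟨⁅(⟨p, cenS_le_of_le le_sup_left hpH⟩ : ↥(cenS B)), ⟨r, cenS_le_of_le le_sup_left hrH⟩⁆,
      (QuotientGroup.eq_one_iff _).1 ?_, rfl⟩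
    show q (cenS B) _ = 1
    rw [map_commutatorElement, commutatorElement_eq_one_iff_mul_comm]
    exact h1.symm
  have hperf : ⁅X, X⁆ = X := by
    rw [hX, ← Subgroup.map_commutator, pComponent_commutator_eq hP]
  conv_lhs => rw [← hperf]
  refine commutator_le.2 fun a ha b hb => mem_centralizer_singleton_iff.2 ?_
  -- `r` moves `a` and `b` by elements of the core, which they centralise
  obtain ⟨c, hcB, hac⟩ : ∃ c ∈ cor B, r * a * r⁻¹ = c * a :=
    ⟨⁅a, r⁆⁻¹, inv_mem (hcomm a ha), by rw [commutatorElement_def]; group⟩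
  obtain ⟨d, hdB, hbd⟩ : ∃ d ∈ cor B, r * b * r⁻¹ = d * b :=
    ⟨⁅b, r⁆⁻¹, inv_mem (hcomm b hb), by rw [commutatorElement_def]; group⟩
  have cent : ∀ {p o : G}, p ∈ X → o ∈ cor B → Commute o p := fun hp ho =>
    mem_centralizer_iff.1 (hPc hp) _ ho
  have hrc : ∀ {o : G}, o ∈ cor B → Commute o r := fun ho =>
    mem_centralizer_iff.1 (hPc' ⟨⟨r, hrH⟩, hr, rfl⟩) _ ho
  have hcd : Commute c d := by
    have hcr := hrc hcB
    have hcb := cent hb hcB
    have e : d = r * b * r⁻¹ * b⁻¹ := by rw [hbd, mul_inv_cancel_right]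
    rw [e]
    exact ((hcr.mul_right hcb).mul_right hcr.inv_right).mul_right hcb.inv_right
  have key : r * ⁅a, b⁆ * r⁻¹ = ⁅a, b⁆ := by
    have h1 : Commute c b := cent hb hcB
    have h2 : Commute d a := cent ha hdB
    calc r * ⁅a, b⁆ * r⁻¹ = ⁅r * a * r⁻¹, r * b * r⁻¹⁆ := by rw [commutatorElement_def, commutatorElement_def]; group
      _ = ⁅c * a, d * b⁆ := by rw [hac, hbd]
      _ = ⁅a, b⁆ := by
        rw [commutatorElement_def, commutatorElement_def, mul_inv_rev, mul_inv_rev]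
        have e1 : c * a * (d * b) = (c * d) * (a * b) := by
          rw [mul_assoc c a, ← mul_assoc a d, ← h2.eq]; group
        have e2 : Commute (c * d) (b⁻¹) :=
          (h1.inv_right).mul_left ((cent hb hdB).inv_right)
        have e3 : Commute (c * d) a⁻¹ :=
          ((cent ha hcB).inv_right).mul_left (h2.inv_right)
        have e4 : Commute (c * d) (a * b) :=
          ((cent ha hcB).mul_right h1).mul_left (h2.mul_right (cent hb hdB))
        calc c * a * (d * b) * (a⁻¹ * c⁻¹) * (b⁻¹ * d⁻¹)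
            = (c * d) * (a * b) * a⁻¹ * (c⁻¹ * b⁻¹) * d⁻¹ := by rw [e1]; group
          _ = (c * d) * (a * b) * a⁻¹ * (b⁻¹ * c⁻¹) * d⁻¹ := by rw [(h1.inv_inv).eq]
          _ = (c * d) * (a * b * a⁻¹ * b⁻¹) * (d * c)⁻¹ := by group
          _ = (a * b * a⁻¹ * b⁻¹) * (c * d) * (d * c)⁻¹ := by
            rw [(((e4.mul_right e3).mul_right e2)).eq]
          _ = a * b * a⁻¹ * b⁻¹ := by rw [hcd.eq, mul_inv_cancel_right]
  exact (mul_inv_eq_iff_eq_mul.1 key).symm

end Ctx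

end Cfsg.Agent.Walter4
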