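import Cfsg.Agent.Lib.Walter4.LocalBase
import Cfsg.Agent.Lib.Walter4.Balance

/-!
`Blocks.Local` for the blocks of the minimal systems.
-/

set_option autoImplicit false
set_option linter.style.haveILetI false
set_option linter.unusedSectionVars false

namespace Cfsg.Agent.Walter4

open Subgroup Cfsg.Agent.Components
open Cfsg.Agent.OddDown.CoreSep (q im mem_im)

universe u

attribute [local instance] FittingCores.pPrimeCore_normal

variable {G : Type u} [Group G] [Finite G] {S : Sylow 2 G} {A : Subgroup G} (hC : Ctx S A)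

namespace Ctx

include hC

theorem local_blocks : hC.blocks.Local where
  gen B hB hB0 := hC.cenS_gen hB hB0
  split B hB hB0 := hC.split_lay hB hB0
  mono B B' h hB' _ := hC.lay_mono' h hB'
  vanish j hj B hB hBj := hC.vanish_lay hj hB hBj
  full j hj := hC.full_lay hj
  dih j hj := hC.dih_lay hj
  comm B hB hB0 hcor i j hij := hC.comm_lay hB hB0 hcor hij
  sep B hB hB0 L hL := by
    obtain ⟨i, hm, hle, hU⟩ := hC.exists_block_idx hB hB0 hL
    refine ⟨i, ?_, ?_⟩
    · rw [le_centralizer_iff]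
      rintro _ ⟨⟨b, hbH⟩, hb, rfl⟩
      exact (mem_pre.1 (hle hb).2).2
    by_cases hiF : i ∈ hC.blocks.F
    · obtain ⟨W, -, h4, -⟩ := id hiF
      exact Or.inl ⟨hiF, (hC.le_CA hB hB0 hL).trans_eq (hC.CA_eq_rest hB hB0 hL hle hU h4)⟩
    refine Or.inr ⟨hiF, fun b hb hb1 => ?_⟩
    obtain ⟨hW, hW0, J, hJ, hJW, hJU⟩ := hm.1
    obtain ⟨P, hk, hP⟩ := hC.kind_at hW hW0 hJ
    rcases hk.alt with hbal | hdih
    · exact hC.balanced_centralizes hB hB0 hL hle hW0 hJ (hU.trans_eq hJU.symm) hP hbal hb hb1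
    exfalso
    have huniq : ∀ J', Cfsg.IsComponent J' → J' = J := by
      intro J' hJ'
      obtain ⟨k, -, -, hUk⟩ := hC.exists_block_idx hW hW0 hJ'
      obtain rfl := hC.block_eq_of_rest hW hW0 hJ' hUk (hC.le_CA hW hW0 hJ')
      obtain ⟨x, hx, hx1⟩ :=
        (UA A _ J').bot_or_exists_ne_one.resolve_left (hC.UA_ne_bot hW hW0 hJ')
      exact hC.comp_eq_of_UA hW hW0 hJ' hJ hx (hJU.ge (hUk hx)) hx1
    have hd := hC.dih_generation hW hW0 hJ huniq hP hdih
    refine hiF ⟨_, hm, ?_, by rw [hJU] at hd; exact hd⟩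
    refine le_antisymm ?_ ((hC.four_UA hW hW0 hJ).trans_eq (by rw [hJU]; rfl))
    rw [← hdih.1]
    choose hh hmem using fun u : hC.blocks.U i => (mem_pre.1 (hJU.ge u.2).2)
    refine Nat.card_le_card_of_injective
      (fun u : hC.blocks.U i => (⟨⟨_, hmem u⟩, (hP _).2 ⟨u, hh u, hJU.ge u.2, rfl⟩⟩ : P)) fun u v h => ?_
    have h1 : q (cenS (hC.blocks.rest i)) (⟨u, hh u⟩⁻¹ * ⟨v, hh v⟩) = 1 := by
      rw [map_mul, map_inv, inv_mul_eq_one]
      exact congrArg (fun z : P => ((z : J) : XB (hC.blocks.rest i))) h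
    refine Subtype.ext (inv_mul_eq_one.1 (hC.eq_one_of_q hW
      (hC.set.le (mul_mem (inv_mem (hC.blocks.U_le i u.2)) (hC.blocks.U_le i v.2))) h1))

end Ctx

end Cfsg.Agent.Walter4
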