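import Cfsg.Agent.Lib.Walter4.Ctx

/-!
Components of the centralisers of subgroups `B ≤ B'` of `A`: a component at `B` centralised by `B'`
appears at `B'`, and a component at `B'` lies in one at `B`.
-/

set_option autoImplicit false
set_option linter.style.haveILetI false
set_option linter.unusedSectionVars false

namespace Cfsg.Agent.Walter4

open Subgroup Cfsg.Agent.Components
open Cfsg.Agent.OddDown.CoreSep (q im mem_im)
open scoped commutatorElement

universe u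

attribute [local instance] FittingCores.pPrimeCore_normal

variable {G : Type u} [Group G]

theorem cenS_le_of_le {B B' : Subgroup G} (h : B ≤ B') : cenS B' ≤ cenS B :=
  centralizer_le (show (B : Set G) ⊆ B' from h)

/-- `C(B') → C(B) ⧸ O(C(B))`. -/
def down {B B' : Subgroup G} (h : B ≤ B') : ↥(cenS B') →* XB B :=
  (q (cenS B)).comp (inclusion (cenS_le_of_le h))

theorem down_apply {B B' : Subgroup G} (h : B ≤ B') {x : G} (hx : x ∈ cenS B') :
    down h ⟨x, hx⟩ = q (cenS B) ⟨x, cenS_le_of_le h hx⟩ := rfl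

variable [Finite G]

/-- Elements with trivial image downstairs have trivial image upstairs. -/
theorem q_eq_one_of_down {B B' : Subgroup G} (h : B ≤ B') {y : ↥(cenS B')} (hy : down h y = 1) :
    q (cenS B') y = 1 := by
  haveI : Fact (Nat.Prime 2) := ⟨Nat.prime_two⟩
  set N := (Cfsg.pPrimeCore 2 ↥(cenS B)).comap (inclusion (cenS_le_of_le h)) with hN
  haveI : N.Normal := Subgroup.Normal.comap inferInstance _
  refine (QuotientGroup.eq_one_iff _).2
    (subnormal_le_pPrimeCore (inferInstance : N.Normal).isSubnormal ?_ ((QuotientGroup.eq_one_iff (inclusion (cenS_le_of_le h) y)).1 hy))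
  refine (FittingCores.pPrimeCore_coprime (G := ↥(cenS B)) 2).coprime_dvd_left ?_
  rw [hN, ← card_map_of_injective (inclusion_injective (cenS_le_of_le h))]
  exact card_dvd_of_le (map_comap_le _ _)

namespace Ctx

variable {S : Sylow 2 G} {A : Subgroup G} (hC : Ctx S A)
include hC

variable {B B' : Subgroup G}

theorem two_sub (hB : B ≤ A) : IsPGroup 2 B := S.isPGroup'.to_le (hB.trans hC.set.le)

theorem down_range (h : B ≤ B') (hB' : B' ≤ A) :
    centralizer (im (cenS B) B' : Set (XB B)) ≤ (down h).range := by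
  haveI : Fact (Nat.Prime 2) := ⟨Nat.prime_two⟩
  have hB'H : B' ≤ cenS B := hB'.trans fun _ hx => hC.mem_cenS (h.trans hB') hx
  have hker : (Nat.card (q (cenS B)).ker).Coprime 2 := by
    rw [QuotientGroup.ker_mk']
    exact FittingCores.pPrimeCore_coprime 2
  refine (CoprimeQuotient.centralizer_map (q (cenS B)) (QuotientGroup.mk'_surjective _) hker
    ((hC.two_sub hB').comap_of_injective (cenS B).subtype (cenS B).subtype_injective)).le.trans ?_
  rintro _ ⟨y, hy, rfl⟩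
  exact ⟨⟨y, mem_centralizer_iff.2 fun b hb =>
    congrArg Subtype.val (mem_centralizer_iff.1 hy ⟨b, hB'H hb⟩ hb)⟩, rfl⟩

/-- A component centralised by `B'` is the image of one at `B'`. -/
theorem exists_down (h : B ≤ B') (hB' : B' ≤ A) (hB0 : B ≠ ⊥) {L : Subgroup (XB B)}
    (hL : Cfsg.IsComponent L) (hLB : B' ≤ CA A B L) :
    ∃ K : Subgroup (XB B'), Cfsg.IsComponent K ∧ UA A B' K = UA A B L ∧ CA A B' K = CA A B L ∧
      K = (L.comap (down h)).map (q (cenS B')) ∧ L ≤ (down h).range := by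
  haveI : Fact (Nat.Prime 2) := ⟨Nat.prime_two⟩
  have hB : B ≤ A := h.trans hB'
  have hB'0 : B' ≠ ⊥ := fun e => hB0 (le_bot_iff.1 (e ▸ h))
  have hLr : L ≤ (down h).range := by
    refine le_trans ?_ (hC.down_range h hB')
    rw [le_centralizer_iff]
    rintro _ ⟨⟨b, hbH⟩, hb, rfl⟩
    exact (mem_pre.1 (hLB hb).2).2
  set L₀ := L.comap (down h) with hL₀
  set K := L₀.map (q (cenS B')) with hK
  -- the map from `L` onto `K`
  let f : ↥L₀ →* ↥L := ((down h).comp L₀.subtype).codRestrict L fun y => y.2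
  have hf : Function.Surjective f := fun l => by
    obtain ⟨y, hy⟩ := hLr l.2
    exact ⟨⟨y, show down h y ∈ L from hy ▸ l.2⟩, Subtype.ext hy⟩
  let g : ↥L₀ →* ↥K := ((q (cenS B')).comp L₀.subtype).codRestrict K fun y => mem_map_of_mem _ y.2
  have hg : Function.Surjective g := by
    rintro ⟨-, y, hy, rfl⟩
    exact ⟨⟨y, hy⟩, Subtype.ext rfl⟩
  have hfg : f.ker ≤ g.ker := fun y hy =>
    Subtype.ext (q_eq_one_of_down h (congrArg Subtype.val hy))
  let e := MonoidHom.liftOfRightInverse f (Function.surjInv hf) (Function.rightInverse_surjInv hf) ⟨g, hfg⟩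
  have he : Function.Surjective e := fun k => by
    obtain ⟨y, rfl⟩ := hg k
    exact ⟨f y, MonoidHom.liftOfRightInverse_comp_apply f _ _ ⟨g, hfg⟩ y⟩
  have hu : ∀ u ∈ UA A B L, ∃ hh : u ∈ cenS B', q (cenS B') ⟨u, hh⟩ ∈ K := fun u hu =>
    ⟨hC.mem_cenS hB' hu.1, mem_map_of_mem _ (mem_pre.1 hu.2).2⟩
  haveI : Nontrivial K := by
    obtain ⟨u, hu', hu1⟩ := (UA A B L).bot_or_exists_ne_one.resolve_left (hC.UA_ne_bot hB hB0 hL)
    obtain ⟨hh, hk⟩ := hu u hu'
    exact ⟨⟨_, hk⟩, 1, fun e1 => hu1 (hC.eq_one_of_q hB' (hC.set.le hu'.1) (congrArg Subtype.val e1))⟩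
  have hKc : Cfsg.IsComponent K :=
    ⟨(hL.1.comap (down h)).map (QuotientGroup.mk'_surjective _), quasisimple_of_surjective hL.2 e he⟩
  -- the image of the kernel meets `L` trivially
  have hker : ∀ y : ↥(cenS B'), down h y ∈ L → q (cenS B') y = 1 → down h y = 1 := by
    intro y hy hy1
    haveI : ((L ⊓ (Cfsg.pPrimeCore 2 ↥(cenS B')).map (down h)).subgroupOf L).Normal := by
      rw [normal_subgroupOf_iff_le_normalizer inf_le_left]
      refine (_root_.le_inf le_normalizer (hLr.trans ?_)).trans inf_normalizer_le_normalizer_inf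
      rw [MonoidHom.range_eq_map]
      exact (map_mono le_normalizer_of_normal).trans (le_normalizer_map _)
    rcases quasisimple_normal hL.2 ((L ⊓ (Cfsg.pPrimeCore 2 ↥(cenS B')).map (down h)).subgroupOf L)
      with hN | hN
    · exfalso
      obtain ⟨u, hu', hu1⟩ := (UA A B L).bot_or_exists_ne_one.resolve_left (hC.UA_ne_bot hB hB0 hL)
      obtain ⟨hh, hk⟩ := mem_pre.1 hu'.2
      refine hu1 (hC.eq_one_of_q hB (hC.set.le hu'.1) ?_)
      have hmem : q (cenS B) ⟨u, hh⟩ ∈ (Cfsg.pPrimeCore 2 ↥(cenS B')).map (down h) :=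
        (subgroupOf_eq_top.1 hN hk).2
      refine ClosedAbelian.TwoEl.eq_one_of_odd (ClosedAbelian.twoEl_of_sq ?_) ?_
      · rw [← map_mul]
        convert map_one (q (cenS B)) using 2
        exact Subtype.ext (hC.set.sq hu'.1)
      · refine (Nat.coprime_two_right.1 ((FittingCores.pPrimeCore_coprime (G := ↥(cenS B')) 2).coprime_dvd_left
          (card_map_dvd (H := Cfsg.pPrimeCore 2 ↥(cenS B')) (down h)))).of_dvd_nat ?_
        exact (orderOf_coe (⟨_, hmem⟩ : (Cfsg.pPrimeCore 2 ↥(cenS B')).map (down h))) ▸ orderOf_dvd_natCard _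
    · have hm : (⟨down h y, hy⟩ : L) ∈ center L := hN (mem_subgroupOf.2
        ⟨hy, mem_map_of_mem _ ((QuotientGroup.eq_one_iff _).1 hy1)⟩)
      exact hC.eq_one_of_central hB hB0 hL hy (mem_centralizer_iff.2 fun l hl =>
        congrArg Subtype.val (mem_center_iff.1 hm ⟨l, hl⟩))
  have hCA : CA A B' K = CA A B L := by
    refine le_antisymm (fun a ha => ?_) (fun a ha => ?_)
    · obtain ⟨haH', hac⟩ := mem_pre.1 ha.2
      refine ⟨ha.1, mem_pre.2 ⟨hC.mem_cenS hB ha.1, mem_centralizer_iff.2 fun l hl => ?_⟩⟩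
      obtain ⟨y, rfl⟩ := hLr hl
      obtain ⟨-, -, hN, -⟩ := (hC.struct_at hB hB0).1 L hL
      have hy1 := hker ⁅(⟨a, haH'⟩ : ↥(cenS B')), y⁆ (by
        rw [map_commutatorElement, commutatorElement_def]
        exact mul_mem ((mem_normalizer_iff.1 (hN (mem_im (hC.set.le ha.1) (hC.mem_cenS hB ha.1))) _).1 hl)
          (inv_mem hl)) (by
        rw [map_commutatorElement, commutatorElement_eq_one_iff_mul_comm]
        exact (mem_centralizer_iff.1 hac _ (mem_map_of_mem _ (show y ∈ L₀ from hl))).symm)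
      rw [map_commutatorElement, commutatorElement_eq_one_iff_mul_comm] at hy1
      exact hy1.symm
    · obtain ⟨haH, hac⟩ := mem_pre.1 ha.2
      refine ⟨ha.1, mem_pre.2 ⟨hC.mem_cenS hB' ha.1, mem_centralizer_iff.2 ?_⟩⟩
      rintro _ ⟨y, hy, rfl⟩
      have h1 : down h ⁅y, (⟨a, hC.mem_cenS hB' ha.1⟩ : ↥(cenS B'))⁆ = 1 := by
        rw [map_commutatorElement, commutatorElement_eq_one_iff_mul_comm]
        exact mem_centralizer_iff.1 hac _ hy
      have h2 := q_eq_one_of_down h h1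
      rwa [map_commutatorElement, commutatorElement_eq_one_iff_mul_comm] at h2
  refine ⟨K, hKc, le_antisymm (fun a ha => ?_) (fun u hu' => ⟨hu'.1, mem_pre.2 (hu u hu')⟩), hCA, rfl, hLr⟩
  obtain ⟨u, hu', w, hw, rfl⟩ := hC.decomp hB hB0 hL ha.1
  have huK : u ∈ UA A B' K := ⟨hu'.1, mem_pre.2 (hu u hu')⟩
  have hwK : w ∈ UA A B' K := by
    have := (UA A B' K).mul_mem ((UA A B' K).inv_mem huK) ha
    rwa [inv_mul_cancel_left] at this
  have : w = 1 := mem_bot.1 ((hC.UA_inf_CA hB' hB'0 hKc) ▸ ⟨hwK, hCA.ge hw⟩)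
  rwa [this, mul_one]

/-- L-balance. -/
theorem lay_mono' (h : B ≤ B') (hB' : B' ≤ A) : lay B' ≤ lay B := by
  haveI : Fact (Nat.Prime 2) := ⟨Nat.prime_two⟩
  have hB'H : B' ≤ cenS B := fun b hb => hC.mem_cenS (h.trans hB') (hB' hb)
  set R : Subgroup ↥(cenS B) := B'.subgroupOf (cenS B) with hR
  have hmem : ∀ x : ↥(cenS B), x ∈ centralizer (R : Set ↥(cenS B)) ↔ (x : G) ∈ cenS B' := fun x =>
    ⟨fun hx => mem_centralizer_iff.2 fun b hb =>
      congrArg Subtype.val (mem_centralizer_iff.1 hx ⟨b, hB'H hb⟩ hb),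
    fun hx => mem_centralizer_iff.2 fun b hb => Subtype.ext (mem_centralizer_iff.1 hx (b : G) hb)⟩
  let e : ↥(cenS B') ≃* ↥(centralizer (R : Set ↥(cenS B))) :=
    { toFun := fun x => ⟨⟨x, cenS_le_of_le h x.2⟩, (hmem _).2 x.2⟩
      invFun := fun x => ⟨((x : ↥(cenS B)) : G), (hmem _).1 x.2⟩
      left_inv := fun _ => rfl
      right_inv := fun _ => rfl
      map_mul' := fun _ _ => rfl }
  rintro _ ⟨y, hy, rfl⟩
  exact ⟨((e y : ↥(centralizer (R : Set ↥(cenS B)))) : ↥(cenS B)),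
    LBalance.pLayer_centralizer_le_two
      ((hC.two_sub hB').comap_of_injective (cenS B).subtype (cenS B).subtype_injective)
      ⟨e y, Components.pLayer_map_equiv_le e ⟨y, hy, rfl⟩, rfl⟩, rfl⟩

/-- An element of `L` acting regularly on `UA L` and trivially on `CA L`. -/
theorem exists_reg (hB : B ≤ A) (hB0 : B ≠ ⊥) {L : Subgroup (XB B)} (hL : Cfsg.IsComponent L) :
    ∃ n : G, ∃ hn : n ∈ cenS B, q (cenS B) ⟨n, hn⟩ ∈ L ∧ n ∈ normalizer (A : Set G) ∧
      n ∈ normalizer (UA A B L : Set G) ∧ (∀ w ∈ CA A B L, n * w = w * n) ∧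
      (∀ x ∈ UA A B L, x ≠ 1 → ∀ y ∈ UA A B L, y ≠ 1 → ∃ i : ℕ, n ^ i * x * (n ^ i)⁻¹ = y) ∧
      ∀ i : ℕ, ∀ x ∈ UA A B L, x ≠ 1 → n ^ i * x * (n ^ i)⁻¹ = x →
        ∀ y ∈ UA A B L, n ^ i * y * (n ^ i)⁻¹ = y := by
  haveI : Fact (Nat.Prime 2) := ⟨Nat.prime_two⟩
  obtain ⟨P, hk, hP⟩ := hC.kind_at hB hB0 hL
  obtain ⟨h, hhN, htr, hfix⟩ := hk.reg
  set H := cenS B with hH
  have hAH : A ≤ H := fun _ hx => hC.mem_cenS hB hx
  have him : ∀ a ∈ A, ∀ haH : a ∈ H, (h : XB B) * q H ⟨a, haH⟩ * (h : XB B)⁻¹ ∈ im H A := by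
    intro a ha haH
    obtain ⟨u, hu, w, hw, rfl⟩ := hC.decomp hB hB0 hL ha
    obtain ⟨hwH, hwc⟩ := mem_pre.1 hw.2
    obtain ⟨huH, huL⟩ := mem_pre.1 hu.2
    obtain ⟨v, hvH, hv, hve⟩ := (hP (h * ⟨_, huL⟩ * h⁻¹)).1
      ((mem_normalizer_iff.1 hhN _).1 ((hP _).2 ⟨u, huH, hu, rfl⟩))
    have e : (h : XB B) * q H ⟨u * w, haH⟩ * (h : XB B)⁻¹ = q H ⟨v * w, mul_mem hvH hwH⟩ := by
      rw [show (⟨u * w, haH⟩ : ↥H) = ⟨u, huH⟩ * ⟨w, hwH⟩ from rfl,
        show (⟨v * w, mul_mem hvH hwH⟩ : ↥H) = ⟨v, hvH⟩ * ⟨w, hwH⟩ from rfl, map_mul, map_mul, hve]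
      have hc : q H ⟨w, hwH⟩ * (h : XB B)⁻¹ = (h : XB B)⁻¹ * q H ⟨w, hwH⟩ :=
        (mem_centralizer_iff.1 hwc _ (inv_mem h.2)).symm
      simp only [Subgroup.coe_mul, Subgroup.coe_inv]
      rw [mul_assoc (h : XB B), mul_assoc (h : XB B), mul_assoc, mul_assoc, mul_assoc, hc]
    rw [e]
    exact mem_im (A.mul_mem hv.1 hw.1) _
  have hmem : (h : XB B) ∈ normalizer (im H A : Set (XB B)) := mem_normalizer_of_forall (by
    rintro _ ⟨⟨a, haH⟩, ha, rfl⟩
    exact him a ha haH)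
  replace hmem := (Components.map_normalizer_eq (FittingCores.pPrimeCore_coprime 2)
    ((hC.two_sub le_rfl).comap_of_injective H.subtype H.subtype_injective)).ge hmem
  obtain ⟨⟨n, hnH⟩, hn, hnh⟩ := hmem
  change q H ⟨n, hnH⟩ = (h : XB B) at hnh
  have hnA : n ∈ normalizer (A : Set G) := mem_normalizer_of_forall fun a ha =>
    (mem_normalizer_iff.1 hn ⟨a, hAH ha⟩).1 ha
  have hconj : ∀ {a : G}, a ∈ A → n * a * n⁻¹ ∈ A := fun ha => (mem_normalizer_iff.1 hnA _).1 ha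
  have hinj : ∀ {a b : G} (ha : a ∈ A) (hb : b ∈ A), q H ⟨a, hAH ha⟩ = q H ⟨b, hAH hb⟩ → a = b := by
    intro a b ha hb e
    have := hC.eq_one_of_q hB (hC.set.le (A.mul_mem (A.inv_mem ha) hb)) (by
      show q H ((⟨a, hAH ha⟩ : ↥H)⁻¹ * ⟨b, hAH hb⟩) = 1
      rw [map_mul, map_inv, e, inv_mul_cancel])
    exact inv_mul_eq_one.1 this
  have hcen : ∀ w ∈ CA A B L, n * w = w * n := fun w hw => by
    obtain ⟨hwH, hwc⟩ := mem_pre.1 hw.2
    refine mul_inv_eq_iff_eq_mul.1 (hinj (hconj hw.1) hw.1 ?_)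
    show q H (⟨n, hnH⟩ * ⟨w, hwH⟩ * (⟨n, hnH⟩ : ↥H)⁻¹) = q H ⟨w, hwH⟩
    rw [map_mul, map_mul, map_inv, hnh, mem_centralizer_iff.1 hwc _ h.2, mul_inv_cancel_right]
  have hU : ∀ u ∈ UA A B L, n * u * n⁻¹ ∈ UA A B L := fun u hu => by
    obtain ⟨huH, huL⟩ := mem_pre.1 hu.2
    refine ⟨hconj hu.1, mem_pre.2 ⟨hAH (hconj hu.1), ?_⟩⟩
    show q H (⟨n, hnH⟩ * ⟨u, huH⟩ * (⟨n, hnH⟩ : ↥H)⁻¹) ∈ L
    rw [map_mul, map_mul, map_inv, hnh]
    exact mul_mem (mul_mem h.2 huL) (inv_mem h.2)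
  -- the action of the powers
  have hpow : ∀ (i : ℕ) (u : G) (hu : u ∈ UA A B L) (hx : n ^ i * u * (n ^ i)⁻¹ ∈ H),
      q H ⟨n ^ i * u * (n ^ i)⁻¹, hx⟩ =
        ((h ^ i * ⟨_, (mem_pre.1 hu.2).2⟩ * (h ^ i)⁻¹ : L) : XB B) := by
    intro i u hu hx
    show q H ((⟨n, hnH⟩ : ↥H) ^ i * ⟨u, (mem_pre.1 hu.2).1⟩ * ((⟨n, hnH⟩ : ↥H) ^ i)⁻¹) = _
    rw [map_mul, map_mul, map_inv, map_pow, hnh]
    simp
    rfl
  have hmemP : ∀ u (hu : u ∈ UA A B L), (⟨_, (mem_pre.1 hu.2).2⟩ : L) ∈ P := fun u hu =>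
    (hP _).2 ⟨u, _, hu, rfl⟩
  have hne : ∀ u (hu : u ∈ UA A B L), u ≠ 1 → (⟨_, (mem_pre.1 hu.2).2⟩ : L) ≠ 1 := fun u hu h1 e =>
    h1 (hC.eq_one_of_q hB (hC.set.le hu.1) (congrArg Subtype.val e))
  have hnU : n ∈ normalizer (UA A B L : Set G) := mem_normalizer_of_forall hU
  refine ⟨n, hnH, hnh ▸ h.2, hnA, hnU, hcen, fun x hx hx1 y hy hy1 => ?_, fun i x hx hx1 he y hy => ?_⟩
  · obtain ⟨i, hi⟩ := htr _ (hmemP x hx) (hne x hx hx1) _ (hmemP y hy) (hne y hy hy1)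
    have hmi : n ^ i * x * (n ^ i)⁻¹ ∈ A := (mem_normalizer_iff.1 (pow_mem hnA i) _).1 hx.1
    refine ⟨i, hinj hmi hy.1 ?_⟩
    rw [hpow i x hx, hi]
  · have hmi : n ^ i * y * (n ^ i)⁻¹ ∈ A := (mem_normalizer_iff.1 (pow_mem hnA i) _).1 hy.1
    have hmx : n ^ i * x * (n ^ i)⁻¹ ∈ A := (mem_normalizer_iff.1 (pow_mem hnA i) _).1 hx.1
    refine hinj hmi hy.1 ?_
    have hfx : h ^ i * ⟨_, (mem_pre.1 hx.2).2⟩ * (h ^ i)⁻¹ = (⟨_, (mem_pre.1 hx.2).2⟩ : L) := by
      refine Subtype.ext ?_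
      rw [← hpow i x hx (hAH hmx)]
      exact congrArg (q H) (Subtype.ext he)
    rw [hpow i y hy, hfix i _ (hmemP x hx) (hne x hx hx1) hfx _ (hmemP y hy)]

/-- The 2-component over a component of `C(B')` maps into one component of `C(B)`. -/
theorem exists_pump (h : B ≤ B') (hB' : B' ≤ A) (hB0 : B ≠ ⊥) {K : Subgroup (XB B')}
    (hK : Cfsg.IsComponent K) :
    ∃ J : Subgroup (XB B), Cfsg.IsComponent J ∧ UA A B' K ≤ UA A B J ∧ CA A B J ≤ CA A B' K ∧
      K ≤ (J.comap (down h)).map (q (cenS B')) := by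
  haveI : Fact (Nat.Prime 2) := ⟨Nat.prime_two⟩
  have hB : B ≤ A := h.trans hB'
  have hB'0 : B' ≠ ⊥ := fun e => hB0 (le_bot_iff.1 (e ▸ h))
  set O := Cfsg.pPrimeCore 2 ↥(cenS B') with hO
  obtain ⟨hP, hPK⟩ := exists_pComponent (p := 2) K hK
  set P := pGen 2 (K.comap (q (cenS B'))) with hPdef
  have hON : O ≤ normalizer (P : Set ↥(cenS B')) := pPrimeCore_le_normalizer_pComponent hP
  have hmemPO : ∀ y : ↥(cenS B'), q (cenS B') y ∈ K → ∃ p ∈ P, ∃ o ∈ O, p * o = y := by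
    intro y hy
    rw [← hPK] at hy
    obtain ⟨p, hp, hpy⟩ := hy
    exact ⟨p, hp, p⁻¹ * y, QuotientGroup.eq.1 hpy, mul_inv_cancel_left p y⟩
  have hUP : ∀ u (hu : u ∈ UA A B' K), (⟨u, hC.mem_cenS hB' hu.1⟩ : ↥(cenS B')) ∈ P := by
    intro u hu
    obtain ⟨p, hp, o, ho, e⟩ := hmemPO _ (mem_pre.1 hu.2).2
    suffices o ∈ P from e ▸ mul_mem hp this
    refine ClosedAbelian.mem_of_sq_mem ?_ ((Nat.coprime_two_right.1
      (FittingCores.pPrimeCore_coprime (G := ↥(cenS B')) 2)).of_dvd_nat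
      ((orderOf_coe (⟨o, ho⟩ : O)) ▸ orderOf_dvd_natCard _))
    have h1 : (p * o) * (p * o) = 1 := by rw [e]; exact Subtype.ext (hC.set.sq hu.1)
    have h2 : o * p * o⁻¹ ∈ P := (mem_normalizer_iff.1 (hON ho) p).1 hp
    have h3 : p * (o * p * o⁻¹) * (o * o) = 1 := by rw [← h1]; group
    rw [show o * o = (p * (o * p * o⁻¹))⁻¹ from eq_inv_of_mul_eq_one_right h3]
    exact inv_mem (mul_mem hp h2)
  have hPlay : P.map (down h) ≤ Cfsg.layer (XB B) := by
    rintro _ ⟨⟨p, hpH⟩, hp, rfl⟩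
    rw [down_apply]
    have hp' : p ∈ lay B' := ⟨⟨p, hpH⟩, le_sSup (s := {K : Subgroup ↥(cenS B') | Cfsg.IsPComponent 2 K}) hP hp, rfl⟩
    obtain ⟨p', hp'', e⟩ := hC.lay_mono' h hB' hp'
    rw [← map_pLayer (p := 2)]
    exact ⟨p', hp'', congrArg _ (Subtype.ext e)⟩
  obtain ⟨n, hnH, hnK, hnA, hnU, hnW, htr, hfix⟩ := hC.exists_reg hB' hB'0 hK
  -- `n` fixes each component
  have hnfix : ∀ J : Subgroup (XB B), Cfsg.IsComponent J →
      down h ⟨n, hnH⟩ ∈ normalizer (J : Set (XB B)) := by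
    intro J hJ
    obtain ⟨p, hp, o, ho, e⟩ := hmemPO _ hnK
    rw [← e, map_mul]
    refine mul_mem (layer_le_normalizer_component hJ (hPlay (mem_map_of_mem _ hp))) ?_
    refine cor_le_normalizer_component (hB'.trans fun _ hx => hC.mem_cenS hB hx) (hC.two_sub hB') hJ ?_
    exact mem_im (show (o : G) ∈ cor B' from ⟨o, ho, rfl⟩) (cenS_le_of_le h o.2)
  have hnpre : ∀ J : Subgroup (XB B), Cfsg.IsComponent J →
      (∀ x ∈ UA A B J, n * x * n⁻¹ ∈ UA A B J) ∧ (∀ x ∈ CA A B J, n * x * n⁻¹ ∈ CA A B J) := by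
    intro J hJ
    have hN := hnfix J hJ
    refine ⟨fun x hx => ?_, fun x hx => ?_⟩ <;>
      refine ⟨(mem_normalizer_iff.1 hnA _).1 hx.1,
        mem_pre.2 ⟨hC.mem_cenS hB ((mem_normalizer_iff.1 hnA _).1 hx.1), ?_⟩⟩ <;>
      obtain ⟨hxH, hxJ⟩ := mem_pre.1 hx.2
    · have := (mem_normalizer_iff.1 hN _).1 hxJ
      rw [down_apply] at this
      exact this
    · have hC' : normalizer (J : Set (XB B)) ≤ normalizer (centralizer (J : Set (XB B)) : Set (XB B)) :=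
        normalizer_le_normalizer_centralizer J
      have := (mem_normalizer_iff.1 (hC' hN) _).1 hxJ
      rw [down_apply] at this
      exact this
  -- some element of `UA K` is moved
  obtain ⟨u₁, hu₁, hu₁1⟩ := (UA A B' K).bot_or_exists_ne_one.resolve_left (hC.UA_ne_bot hB' hB'0 hK)
  have hmove : ∀ u ∈ UA A B' K, n * u * n⁻¹ = u → u = 1 := by
    intro u hu he
    by_contra hu1
    have h4 := hC.four_UA hB' hB'0 hK
    have hsub : (UA A B' K : Set G) ⊆ {1, u} := by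
      intro y hy
      by_cases hy1 : y = 1
      · exact Or.inl hy1
      obtain ⟨i, hi⟩ := htr u hu hu1 y hy hy1
      refine Or.inr ?_
      have hcomm : Commute n u := mul_inv_eq_iff_eq_mul.1 he
      rw [← hi, (hcomm.pow_left i).eq, mul_inv_cancel_right]
      rfl
    have := Set.ncard_le_ncard hsub
    rw [← Nat.card_coe_set_eq] at this
    have h2 : ({1, u} : Set G).ncard ≤ 2 := (Set.ncard_insert_le _ _).trans (by rw [Set.ncard_singleton])
    change Nat.card ↥(UA A B' K) ≤ _ at this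
    omega
  -- the component containing `UA K`
  have hcomm : ∀ {a : G}, a ∈ A → ⁅n, a⁆ ∈ UA A B' K := by
    intro a ha
    obtain ⟨u, hu, w, hw, rfl⟩ := hC.decomp hB' hB'0 hK ha
    have e : ⁅n, u * w⁆ = n * u * n⁻¹ * u⁻¹ := by
      rw [commutatorElement_def, mul_inv_rev, show n * (u * w) * n⁻¹ = n * u * n⁻¹ * w by
        rw [← mul_assoc, mul_assoc (n * u), ← (show Commute n w from hnW w hw).inv_left.eq, ← mul_assoc]]
      group
    rw [e]
    exact (UA A B' K).mul_mem ((mem_normalizer_iff.1 hnU _).1 hu) ((UA A B' K).inv_mem hu)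
  obtain ⟨J, hJ, z, hz, hz1⟩ : ∃ J, Cfsg.IsComponent J ∧ ∃ z, z ∈ UA A B' K ⊓ UA A B J ∧ z ≠ 1 := by
    by_contra hno
    push Not at hno
    have hz : ∀ J, Cfsg.IsComponent J → ∀ x ∈ UA A B J, n * x * n⁻¹ = x := fun J hJ x hx => by
      have h1 := hno J hJ ⁅n, x⁆ ⟨hcomm hx.1, by
        rw [commutatorElement_def]
        exact (UA A B J).mul_mem ((hnpre J hJ).1 x hx) ((UA A B J).inv_mem hx)⟩
      rw [commutatorElement_def] at h1
      exact mul_inv_eq_one.1 h1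
    set u₀ := ⁅n, u₁⁆ with hu₀
    have hu₀U : u₀ ∈ UA A B' K := hcomm hu₁.1
    have hu₀1 : u₀ ≠ 1 := fun e => hu₁1 (hmove u₁ hu₁ (by
      rw [hu₀, commutatorElement_def] at e
      exact mul_inv_eq_one.1 e))
    have hu₀C : ∀ J, Cfsg.IsComponent J → u₀ ∈ CA A B J := by
      intro J hJ
      obtain ⟨x, hx, w, hw, e⟩ := hC.decomp hB hB0 hJ hu₁.1
      have hv := (CA A B J).mul_mem ((hnpre J hJ).2 w hw) ((CA A B J).inv_mem hw)
      rw [hu₀, commutatorElement_def, ← e, mul_inv_rev,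
        show n * (x * w) * n⁻¹ = (n * x * n⁻¹) * (n * w * n⁻¹) by group, hz J hJ x hx,
        show x * (n * w * n⁻¹) * (w⁻¹ * x⁻¹) = x * (n * w * n⁻¹ * w⁻¹) * x⁻¹ by group,
        hC.set.comm_A hx.1 hv.1, mul_inv_cancel_right]
      exact hv
    refine hu₀1 (hC.eq_one_of_q hB' (hC.set.le hu₀U.1) (hC.eq_one_of_central hB' hB'0 hK
      (mem_pre.1 hu₀U.2).2 (mem_centralizer_iff.2 ?_)))
    intro k hk
    rw [← hPK] at hk
    obtain ⟨p, hp, rfl⟩ := hk
    have h1 : down h ⁅p, (⟨u₀, hC.mem_cenS hB' hu₀U.1⟩ : ↥(cenS B'))⁆ = 1 := by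
      rw [map_commutatorElement, commutatorElement_eq_one_iff_mul_comm]
      have hle : Cfsg.layer (XB B) ≤ centralizer {q (cenS B) ⟨u₀, hC.mem_cenS hB hu₀U.1⟩} :=
        layer_le_iff.2 fun J hJ l hl => mem_centralizer_singleton_iff.2
          (mem_centralizer_iff.1 (mem_pre.1 (hu₀C J hJ).2).2 l hl)
      exact mem_centralizer_singleton_iff.1 (hle (hPlay (mem_map_of_mem _ hp)))
    have h2 := q_eq_one_of_down h h1
    rwa [map_commutatorElement, commutatorElement_eq_one_iff_mul_comm] at h2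
  have hUJ : UA A B' K ≤ UA A B J := fun y hy => by
    by_cases hy1 : y = 1
    · exact hy1 ▸ one_mem _
    obtain ⟨i, hi⟩ := htr z hz.1 hz1 y hy hy1
    rw [← hi]
    have : ∀ j : ℕ, n ^ j * z * (n ^ j)⁻¹ ∈ UA A B J := fun j => by
      induction j with
      | zero => simpa using hz.2
      | succ j ih =>
        have := (hnpre J hJ).1 _ ih
        rwa [show n * (n ^ j * z * (n ^ j)⁻¹) * n⁻¹ = n ^ (j + 1) * z * (n ^ (j + 1))⁻¹ by
          rw [pow_succ']; group] at this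
    exact this i
  refine ⟨J, hJ, hUJ, fun a ha => ?_, ?_⟩
  · obtain ⟨u, hu, w, hw, rfl⟩ := hC.decomp hB' hB'0 hK ha.1
    suffices u = 1 by rw [this, one_mul]; exact hw
    refine hmove u hu (mul_inv_eq_one.1 (mem_bot.1 ((hC.UA_inf_CA hB hB0 hJ) ▸ ⟨?_, ?_⟩)))
    · exact hUJ ((UA A B' K).mul_mem ((mem_normalizer_iff.1 hnU _).1 hu) ((UA A B' K).inv_mem hu))
    · have := (CA A B J).mul_mem ((hnpre J hJ).2 _ ha) ((CA A B J).inv_mem ha)
      rwa [mul_inv_rev, show n * (u * w) * n⁻¹ * (w⁻¹ * u⁻¹) = n * u * n⁻¹ * u⁻¹ by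
        rw [← mul_assoc n, mul_assoc (n * u), ← (show Commute n w from hnW w hw).inv_left.eq]; group] at this
  · set N := P ⊓ J.comap (down h) with hN
    have hPn : P ≤ normalizer (N : Set ↥(cenS B')) := by
      refine (_root_.le_inf le_normalizer ?_).trans inf_normalizer_le_normalizer_inf
      exact (map_le_iff_le_comap.1 (hPlay.trans (layer_le_normalizer_component hJ))).trans
        (le_normalizer_comap _)
    have hNs : N.IsSubnormal :=
      IsSubnormal.step _ P inf_le_left hP.1 ((normal_subgroupOf_iff_le_normalizer inf_le_left).2 hPn)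
    suffices hNK : N.map (q (cenS B')) = K from hNK ▸ map_mono inf_le_right
    have hNP : N.map (q (cenS B')) ≤ K := hPK ▸ map_mono inf_le_left
    haveI : ((N.map (q (cenS B'))).subgroupOf K).Normal := by
      rw [normal_subgroupOf_iff_le_normalizer hNP]
      conv_lhs => rw [← hPK]
      exact (map_mono hPn).trans (le_normalizer_map _)
    rcases quasisimple_normal hK.2 ((N.map (q (cenS B'))).subgroupOf K) with e | e
    · exact le_antisymm hNP (subgroupOf_eq_top.1 e)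
    exfalso
    obtain ⟨hh, hk⟩ := mem_pre.1 hu₁.2
    refine hu₁1 (hC.eq_one_of_q hB' (hC.set.le hu₁.1) (hC.eq_one_of_central hB' hB'0 hK hk ?_))
    have hm : (⟨_, hk⟩ : K) ∈ center K := e (mem_subgroupOf.2
      ⟨⟨u₁, hh⟩, ⟨hUP u₁ hu₁, (mem_pre.1 (hUJ hu₁).2).2⟩, rfl⟩)
    exact mem_centralizer_iff.2 fun l hl => congrArg Subtype.val (mem_center_iff.1 hm ⟨l, hl⟩)

end Ctx

end Cfsg.Agent.Walter4
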