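import Cfsg.Agent.Lib.Walter4.Trivial

/-!
A proper subgroup of a non-abelian simple group cannot contain the centralisers of all involutions of
`A`, nor those of one of two invariant parts of `A` together with those of the mixed involutions.
-/

set_option autoImplicit false
set_option linter.style.haveILetI false

namespace Cfsg.Agent.Walter4

open Subgroup

universe u

variable {G : Type u} [Group G] [Finite G] [IsSimpleGroup G] {S : Sylow 2 G} {A : Subgroup G}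

/-- A proper subgroup does not contain every `C(a)`, `a ∈ A#`. -/
theorem false_of_all (hS : Setting S A) (D : Blocks A) {M : Subgroup G} (hM : M ≠ ⊤)
    (hcen : ∀ a ∈ A, a ≠ 1 → cen a ≤ M) : False := by
  obtain ⟨a₀, ha₀, ha₀1, -⟩ := hS.nonsol
  obtain ⟨j, e₀, he₀, he₀1⟩ : ∃ j, ∃ e ∈ D.U j, e ≠ 1 := by
    by_contra h
    push Not at h
    refine ha₀1 (mem_bot.1 ((iSup_le fun j x hx => mem_bot.2 (h j x hx) : (⨆ j, D.U j) ≤ ⊥) ?_))
    exact D.eq.ge ha₀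
  obtain ⟨k, hkj⟩ := D.two j
  obtain ⟨f, hf, hf1⟩ := D.exists_ne k
  set b := e₀ * f with hb
  have hbA : b ∈ A := mul_mem (D.U_le j he₀) (D.U_le k hf)
  have hb1 : b ≠ 1 := fun h => hf1 (D.not_both hkj hf (by
    rw [eq_inv_of_mul_eq_one_right h]; exact inv_mem he₀))
  have hne : ¬ IsConj e₀ b := by
    intro h
    obtain ⟨n, hn, hne⟩ := hS.exists_conj (D.U_le j he₀) hbA h
    obtain ⟨l, hl⟩ := D.perm_mem hn j
    have hl' : b ∈ D.U l := hne ▸ (hl e₀).1 he₀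
    by_cases hlj : l = j
    · subst hlj
      exact hf1 (D.not_both hkj hf (by simpa [hb] using mul_mem (inv_mem he₀) hl'))
    · exact he₀1 (D.disj he₀ (by
        simpa [hb] using mul_mem (D.U_le_rest hlj hl') (inv_mem (D.U_le_rest hkj hf))))
  refine not_class_mem he₀1 hM fun u hu => class_mem (fun x hx y hy => hS.comm hx hy)
    (hS.sq (D.U_le j he₀)) (hS.le hbA) (hS.sq hbA) hne (hcen b hbA hb1) (fun a ha hea => ?_) hu
  obtain ⟨c, hc⟩ := isConj_iff.1 hea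
  have haA : a ∈ A := (hS.mem a).2 ⟨ha, by
    rw [← hc, conj_mul, hS.sq (D.U_le j he₀), mul_one, mul_inv_cancel]⟩
  refine hcen _ (mul_mem haA hbA) fun h => hne ?_
  rwa [← (eq_inv_of_mul_eq_one_left h).trans (inv_eq_of_mul_eq_one_right (hS.sq hbA))]

/-- A proper subgroup does not contain every `C(b)`, `b ∈ V₂#`, and every `C(a * b)`, `a ∈ V₁#`,
`b ∈ V₂#`, for independent invariant parts `V₁`, `V₂` of `A`. -/
theorem false_of_parts (hS : Setting S A) {V₁ V₂ : Subgroup G} (h1 : V₁ ≤ A) (h2 : V₂ ≤ A)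
    (hdis : V₁ ⊓ V₂ = ⊥) (hn1 : V₁ ≠ ⊥) (hn2 : V₂ ≠ ⊥)
    (hfix : ∀ n ∈ normalizer (A : Set G), ∀ x ∈ V₁, n * x * n⁻¹ ∈ V₁) {M : Subgroup G} (hM : M ≠ ⊤)
    (hb : ∀ b ∈ V₂, b ≠ 1 → cen b ≤ M)
    (hab : ∀ a ∈ V₁, a ≠ 1 → ∀ b ∈ V₂, b ≠ 1 → cen (a * b) ≤ M) : False := by
  obtain ⟨e, he, he1⟩ := V₁.bot_or_exists_ne_one.resolve_left hn1
  obtain ⟨b, hb', hb1⟩ := V₂.bot_or_exists_ne_one.resolve_left hn2
  have hne : ¬ IsConj e b := by
    intro h
    obtain ⟨n, hn, hne⟩ := hS.exists_conj (h1 he) (h2 hb') h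
    exact hb1 (mem_bot.1 (hdis ▸ ⟨hne ▸ hfix n hn e he, hb'⟩))
  refine not_class_mem he1 hM fun u hu => class_mem (fun x hx y hy => hS.comm hx hy)
    (hS.sq (h1 he)) (hS.le (h2 hb')) (hS.sq (h2 hb')) hne (hb b hb' hb1) (fun a ha hea => ?_) hu
  obtain ⟨c, hc⟩ := isConj_iff.1 hea
  have haA : a ∈ A := (hS.mem a).2 ⟨ha, by rw [← hc, conj_mul, hS.sq (h1 he), mul_one, mul_inv_cancel]⟩
  obtain ⟨n, hn, hna⟩ := hS.exists_conj (h1 he) haA hea
  exact hab a (hna ▸ hfix n hn e he) (fun h => by subst h; exact he1 (isConj_one_left.1 hea)) b hb' hb1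

end Cfsg.Agent.Walter4
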